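import Cfsg.Agent.H110.Fpr.Small
import Cfsg.Agent.TitsThree.KSideO

/-!
# The rows for the orthogonal groups
-/

set_option autoImplicit false

namespace Cfsg.Agent.H110.Fpr

open Cfsg.Agent.TitsThree.Siegel Cfsg.Agent.TitsThree.SiegelGen Cfsg.Agent.TitsThree.KSideO
open Cfsg.Agent.LieClassical Cfsg.Agent.LieClassical.OrthCore Cfsg.Agent.LieClassical.OrthFinite
open Cfsg.Agent.LieClassical.OrthForms
open Cfsg.Agent.H409 QuadraticMap

theorem SG_PO {F V : Type*} [Field F] [AddCommGroup V] [Module F V] (Q : QuadraticForm F V) :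
    SG (PO Q) = E Q := by
  apply le_antisymm
  · exact SG_le _ fun u w c hu hw hus hwc => sie_mem hu hw hus hwc
  · rw [E, Subgroup.closure_le]
    rintro _ ⟨u, w, hu, hw, rfl⟩
    have huu : (HO Q).h u u = 0 := polar_self_of_sing hu
    have := sie_mem_SG (PO Q) (u := u) (w := w) (c := -Q w) huu hw ((sing_iff Q).2 hu) rfl
    rwa [sie_eq Q huu hw hu hw rfl] at this

/-- **The row for the orthogonal groups, `E Q`.** -/
theorem row_EQ {F V : Type*} [Field F] [Finite F] [AddCommGroup V] [Module F V] [Finite V]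
    {Q : QuadraticForm F V} (hQ : Nondeg Q) (hd : 5 ≤ Module.finrank F V) {p : ℕ}
    (hp : p.Prime) (hpF : (p : F) ≠ 0)
    (hE : p ∣ (Nat.card F) ^ 2 - 1 ∨ ∃ a ∈ E Q, ∃ b ∈ E Q, a * b = b * a ∧ a ^ p = 1 ∧
      b ^ p = 1 ∧ b ≠ 1 ∧ ∀ i : ℕ, a * b ^ i ≠ 1) :
    FprRow (2 * p - 1) (p - 1) p (E Q) := by
  obtain ⟨r, hr⟩ := CharP.exists F
  have hrp : Fact r.Prime := ⟨CharP.char_is_prime F r⟩
  have hND : ∀ v : V, v ≠ 0 → ∃ w, (HO Q).h v w ≠ 0 := by
    intro v hv
    by_contra hcon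
    push Not at hcon
    exact hv (hQ v hcon)
  have hκ : ∀ A : Submodule F V, 3 ≤ Module.finrank F A → ∃ w ∈ A, w ≠ 0 ∧ (PO Q).ok w 0 := by
    intro A hA
    obtain ⟨w, hw, hw0, hQw⟩ := exists_sing_mem (Q := Q) A hA
    exact ⟨w, hw, hw0, (sing_iff Q).2 hQw⟩
  rw [← SG_PO]
  by_cases hd2 : p ∣ (Nat.card F) ^ 2 - 1
  · exact row_small (r := r) hp hpF hd2 le_rfl hκ hND hd
  · obtain ⟨a, ha, b, hb, hab, hap, hbp, hb1, hind⟩ := hE.resolve_left hd2
    have hp5 : 5 ≤ p := by
      -- 2 and 3 divide `q² - 1`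
      by_contra hlt
      push Not at hlt
      have hcardF := not_dvd_card hp hpF
      apply hd2
      have h2 := hp.two_le
      have hq : 1 ≤ Nat.card F := Nat.card_pos
      have hq2 : Nat.card F ^ 2 - 1 = (Nat.card F - 1) * (Nat.card F + 1) := by
        obtain ⟨k, hk⟩ := Nat.exists_eq_add_of_le hq
        rw [hk]
        have : (1 + k) ^ 2 = k * (1 + k + 1) + 1 := by ring
        rw [this, Nat.add_sub_cancel, Nat.add_sub_cancel_left]
      rw [hq2]
      interval_cases p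
      · have h3 : Nat.card F % 2 = 1 := by omega
        exact Dvd.dvd.mul_right (by omega) _
      · have h3 : Nat.card F % 3 = 1 ∨ Nat.card F % 3 = 2 := by omega
        rcases h3 with h3 | h3
        · exact Dvd.dvd.mul_right (by omega) _
        · exact Dvd.dvd.mul_left (by omega) _
      · exact absurd hp (by norm_num)
    refine row_E (r := r) hp hp5 hpF (κ := 3) le_rfl hκ ?_ ?_ hND ((SG_PO Q).symm ▸ ha)
      ((SG_PO Q).symm ▸ hb) hab hap hbp hb1 hind
    · intro i hi hi3 h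
      apply hd2
      interval_cases i
      · rw [pow_one] at h
        have : Nat.card F - 1 ∣ Nat.card F ^ 2 - 1 := by
          have := Nat.sub_dvd_pow_sub_pow (Nat.card F) 1 2
          rwa [one_pow] at this
        exact h.trans this
      · exact h
    · intro c hc
      have hc' : c = -Q 0 := hc
      rw [QuadraticMap.map_zero, neg_zero] at hc'
      exact ⟨0, by rw [hc']; simp⟩

section Matrix

variable {ι : Type} [Fintype ι] [DecidableEq ι] {F : Type*} [Field F] [Finite F]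
  {Q : QuadraticForm F (ι → F)}

/-- **The row for `PΩ(Q)`**, `Q` nondegenerate in dimension at least five. -/
theorem row_POmega (hQ : Nondeg Q) (hd : 5 ≤ Module.finrank F (ι → F)) {p : ℕ}
    (hp : p.Prime) (hpF : (p : F) ≠ 0)
    (hE : p = 2 ∨ ∃ P : Sylow p (Cfsg.POmega F ⇑Q), ¬ IsCyclic P) :
    FprRow (2 * p - 1) (p - 1) p (Cfsg.POmega F ⇑Q) := by
  have hG := good_of_finite hQ hd
  have : Finite ((ι → F) ≃ₗ[F] (ι → F)) := instFin
  refine FprRow.of_surjective hp (toPOmega hG) (toPOmega_surjective hG) ?_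
  apply row_EQ hQ hd hp hpF
  rcases eq_or_ne p 2 with rfl | hp2
  · left
    have hcardF := not_dvd_card hp hpF
    have hq : 1 ≤ Nat.card F := Nat.card_pos
    have h1 : Nat.card F % 2 = 1 := by omega
    have h2 : Nat.card F ^ 2 % 2 = 1 := by rw [Nat.pow_mod, h1]
    omega
  · right
    obtain ⟨P, hP⟩ := hE.resolve_left hp2
    have := Fact.mk hp
    obtain ⟨a, b, hab, ha, hb, hb1, hind⟩ := exists_rank_two hp2 (toPOmega hG)
      (toPOmega_surjective hG) P hP
    refine ⟨a, a.2, b, b.2, congrArg Subtype.val hab, congrArg Subtype.val ha,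
      congrArg Subtype.val hb, fun h => hb1 (Subtype.ext h), fun i h => hind i (Subtype.ext h)⟩

end Matrix

/-- Groups of type `PΩ` in dimension at least seven (all three families). -/
theorem row_POmegaOdd {F : Type} [Field F] [Fintype F] {m : ℕ} (hm : 3 ≤ m)
    (hodd : Odd (Fintype.card F)) {p : ℕ} (hp : p.Prime) (hpF : (p : F) ≠ 0)
    (hE : p = 2 ∨ ∃ P : Sylow p (Cfsg.POmega F (Cfsg.quadFormOdd m F)), ¬ IsCyclic P) :
    FprRow (2 * p - 1) (p - 1) p (Cfsg.POmega F (Cfsg.quadFormOdd m F)) := by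
  rw [← coe_oddForm] at hE ⊢
  have h2 : (2 : F) ≠ 0 := by
    intro h
    have h3 : CharP F 2 := by
      have := CharTwo.of_one_ne_zero_of_two_eq_zero (R := F) one_ne_zero h
      exact this
    have h4 := (FiniteField.even_card_iff_char_two (F := F)).1 (ringChar.eq F 2)
    rw [← Nat.even_iff] at h4
    exact (Nat.not_even_iff_odd.2 hodd) h4
  refine row_POmega (nondeg_oddForm m F h2) ?_ hp hpF hE
  rw [Module.finrank_fintype_fun_eq_card, Fintype.card_sum, Fintype.card_sum, Fintype.card_fin,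
    Fintype.card_unit]
  omega

theorem row_POmegaPlus {F : Type} [Field F] [Fintype F] {m : ℕ} (hm : 4 ≤ m)
    {p : ℕ} (hp : p.Prime) (hpF : (p : F) ≠ 0)
    (hE : p = 2 ∨ ∃ P : Sylow p (Cfsg.POmega F (Cfsg.quadFormPlus m F)), ¬ IsCyclic P) :
    FprRow (2 * p - 1) (p - 1) p (Cfsg.POmega F (Cfsg.quadFormPlus m F)) := by
  rw [← coe_plusForm] at hE ⊢
  refine row_POmega (nondeg_plusForm m F) ?_ hp hpF hE
  rw [Module.finrank_fintype_fun_eq_card, Fintype.card_sum, Fintype.card_fin]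
  omega

theorem row_POmegaMinus {F : Type} [Field F] [Fintype F] {m : ℕ} (hm : 4 ≤ m) {a b : F}
    (hab : ∀ z₁ z₂ : F, z₁ ^ 2 + a * z₁ * z₂ + b * z₂ ^ 2 = 0 → z₁ = 0 ∧ z₂ = 0)
    {p : ℕ} (hp : p.Prime) (hpF : (p : F) ≠ 0)
    (hE : p = 2 ∨ ∃ P : Sylow p (Cfsg.POmega F (Cfsg.quadFormMinus (m - 1) F a b)),
      ¬ IsCyclic P) :
    FprRow (2 * p - 1) (p - 1) p (Cfsg.POmega F (Cfsg.quadFormMinus (m - 1) F a b)) := by
  rw [← coe_minusForm] at hE ⊢
  refine row_POmega (nondeg_minusForm (m - 1) F a b hab) ?_ hp hpF hE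
  rw [Module.finrank_fintype_fun_eq_card, Fintype.card_sum, Fintype.card_sum, Fintype.card_fin,
    Fintype.card_fin]
  omega

end Cfsg.Agent.H110.Fpr
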