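import Cfsg.Agent.H110.Fpr.Small
import Cfsg.Agent.TitsThree.KSideU

/-!
# The rows for the unitary groups in dimension at least four
-/

set_option autoImplicit false

namespace Cfsg.Agent.H110.Fpr

open Cfsg Cfsg.Agent.LieClassical.HermBasic Cfsg.Agent.LieClassical.HermSiegel
open Cfsg.Agent.LieClassical.HermGen
open Cfsg.Agent.TitsThree.Siegel Cfsg.Agent.TitsThree.SiegelGen Cfsg.Agent.TitsThree.KSideU
open Cfsg.Agent.H409

variable {F : Type*} [Field F] [Fintype F] {q N : ℕ}

theorem SG_PU (hF : Fintype.card F = q ^ 2) (hN : 3 ≤ N) :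
    SG (PU hF N) = (toLin F q N).range := by
  have h1 : ∀ (u w : Fin N → F) (c : F) (huu : (HU hF N).h u u = 0) (huw : (HU hF N).h u w = 0),
      (PU hF N).ok w c → (HU hF N).sie u w c huu huw ∈ (toLin F q N).range := by
    intro u w c huu huw hok
    exact ⟨_, toLin_siegel hF (isSiegel_of hF huu huw hok) huu huw⟩
  apply le_antisymm
  · exact SG_le _ fun u w c hu hw _ hwc => h1 u w c hu hw hwc
  · have h2 : (SG (PU hF N)).comap (toLin F q N) = ⊤ := by
      apply eq_top_of_sie hF hN
      intro u w c huu huw hok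
      obtain ⟨g, hg⟩ := h1 u w c huu huw hok
      refine ⟨g, ?_, hg⟩
      change toLin F q N g ∈ SG (PU hF N)
      rw [hg]
      exact sie_mem_SG _ _ _ ((sing_iff hF).2 huu) hok
    rintro _ ⟨g, rfl⟩
    have h3 : g ∈ (SG (PU hF N)).comap (toLin F q N) := by rw [h2]; trivial
    exact h3

/-- Isotropic vectors in planes. -/
theorem exists_iso_mem (hF : Fintype.card F = q ^ 2) (A : Submodule F (Fin N → F))
    (hA : 2 ≤ Module.finrank F A) : ∃ w ∈ A, w ≠ 0 ∧ (PU hF N).ok w 0 := by
  let bs := Module.finBasis F A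
  obtain ⟨v, hv⟩ : ∃ v : A, v = bs ⟨0, by omega⟩ := ⟨_, rfl⟩
  obtain ⟨w, hw⟩ : ∃ w : A, w = bs ⟨1, by omega⟩ := ⟨_, rfl⟩
  have hli : LinearIndependent F ![v, w] := by
    have h1 : LinearIndependent F (fun i : Fin 2 => bs (Fin.castLE hA i)) :=
      bs.linearIndependent.comp _ (Fin.castLE_injective hA)
    convert h1 using 1
    funext i
    fin_cases i
    · exact hv
    · exact hw
  rw [LinearIndependent.pair_iff] at hli
  by_cases h0 : hermForm N F q (v : Fin N → F) v = 0
  · refine ⟨v, v.2, ?_, (sing_iff hF).2 h0⟩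
    intro h
    have hv0 : v = 0 := Subtype.ext h
    have := hli 1 0 (by rw [hv0]; simp)
    exact one_ne_zero this.1
  · -- `w' = w - a v` orthogonal to `v`, then `w' + x v`
    obtain ⟨a, ha⟩ : ∃ a, a = hermForm N F q (w : Fin N → F) v / hermForm N F q (v : Fin N → F) v :=
      ⟨_, rfl⟩
    obtain ⟨w', hw'⟩ : ∃ w' : Fin N → F, w' = (w : Fin N → F) - a • (v : Fin N → F) := ⟨_, rfl⟩
    have h1 : hermForm N F q w' v = 0 := by
      rw [hw', herm_sub_left, herm_smul_left, ha, div_mul_cancel₀ _ h0, sub_self]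
    have h2 : hermForm N F q (v : Fin N → F) w' = 0 := herm_eq_zero_swap hF h1
    obtain ⟨x, hx⟩ := exists_norm_eq hF (c := -(hermForm N F q w' w') /
      hermForm N F q (v : Fin N → F) v) (by
        rw [div_pow, neg_pow_q hF, herm_self_pow hF, herm_self_pow hF])
    refine ⟨w' + x • (v : Fin N → F), ?_, ?_, (sing_iff hF).2 ?_⟩
    · rw [hw']
      exact A.add_mem (A.sub_mem w.2 (A.smul_mem _ v.2)) (A.smul_mem _ v.2)
    · intro h
      have h3 := hli (x - a) 1 (by
        apply Subtype.ext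
        rw [hw'] at h
        change (x - a) • (v : Fin N → F) + (1 : F) • (w : Fin N → F) = 0
        rw [← h]
        module)
      exact one_ne_zero h3.2
    · rw [herm_add_left, herm_add_right hF, herm_add_right hF, herm_smul_left, herm_smul_right,
        herm_smul_left, herm_smul_right, h1, h2]
      have e1 : x * (x ^ q * hermForm N F q (v : Fin N → F) v) =
          (x * x ^ q) * hermForm N F q (v : Fin N → F) v := by ring
      rw [e1, hx, div_mul_cancel₀ _ h0]
      ring

/-- `Λ` is minimal. -/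
theorem lam_PU (hF : Fintype.card F = q ^ 2) : ∀ c, (PU hF N).ok 0 c →
    ∃ m, c = m - (HU hF N).ε⁻¹ * (HU hF N).σ m := by
  intro c hc
  rw [ok_iff, herm_zero_left, neg_zero] at hc
  obtain ⟨y, hy⟩ := exists_trace_eq hF (c := 1) (one_pow q)
  refine ⟨c * y, ?_⟩
  rw [HU_ε, inv_one, one_mul, HU_σ, mul_pow]
  have h1 : c ^ q = -c := by linear_combination hc
  rw [h1]
  linear_combination -c * hy

theorem nd_HU (hF : Fintype.card F = q ^ 2) : ∀ v : Fin N → F, v ≠ 0 →
    ∃ w, (HU hF N).h v w ≠ 0 := by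
  intro v hv
  by_contra hcon
  push Not at hcon
  obtain ⟨w, hw⟩ := exists_herm_ne_zero hF hv
  exact hw (hcon w)

/-- the fixed field -/
def fixF (hF : Fintype.card F = q ^ 2) : Subfield F where
  carrier := {x | x ^ q = x}
  mul_mem' := fun {a b} ha hb => by
    change (a * b) ^ q = a * b
    rw [mul_pow, show a ^ q = a from ha, show b ^ q = b from hb]
  one_mem' := one_pow q
  add_mem' := fun {a b} ha hb => by
    change (a + b) ^ q = a + b
    rw [add_pow_q hF, show a ^ q = a from ha, show b ^ q = b from hb]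
  zero_mem' := zero_pow_q hF
  neg_mem' := fun {a} ha => by
    change (-a) ^ q = -a
    rw [neg_pow_q hF, show a ^ q = a from ha]
  inv_mem' := fun a ha => by
    change (a⁻¹) ^ q = a⁻¹
    rw [inv_pow, show a ^ q = a from ha]

theorem card_fixF (hF : Fintype.card F = q ^ 2) : Nat.card (fixF hF) = q := card_fixed hF

theorem two_three_dvd {p n : ℕ} (hp : p.Prime) (h5 : p < 5) (hn : ¬ p ∣ n) (h1 : 1 ≤ n) :
    p ∣ n ^ 2 - 1 := by
  have h2 := hp.two_le
  have hq2 : n ^ 2 - 1 = (n - 1) * (n + 1) := by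
    obtain ⟨k, hk⟩ := Nat.exists_eq_add_of_le h1
    rw [hk]
    have : (1 + k) ^ 2 = k * (1 + k + 1) + 1 := by ring
    rw [this, Nat.add_sub_cancel, Nat.add_sub_cancel_left]
  rw [hq2]
  interval_cases p
  · have h3 : n % 2 = 1 := by omega
    exact Dvd.dvd.mul_right (by omega) _
  · have h3 : n % 3 = 1 ∨ n % 3 = 2 := by omega
    rcases h3 with h3 | h3
    · exact Dvd.dvd.mul_right (by omega) _
    · exact Dvd.dvd.mul_left (by omega) _
  · exact absurd hp (by norm_num)

/-- The four dimensional unitary groups. -/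
theorem row_SU4 (hF : Fintype.card F = q ^ 2) {p : ℕ} (hp : p.Prime) (hpF : (p : F) ≠ 0)
    (hd : p ∣ q ^ 2 - 1) : FprRow (2 * p - 1) (p - 1) p (SG (PU hF 4)) := by
  obtain ⟨r, hr⟩ := CharP.exists F
  have hrp : Fact r.Prime := ⟨CharP.char_is_prime F r⟩
  obtain ⟨t', j, k, hj, ht'⟩ := exists_good2 (F := fixF hF) hp (by
    intro h
    apply hpF
    have := congrArg (fun z : fixF hF => (z : F)) h
    simpa using this) (by rw [card_fixF]; exact hd)
  have ht := ht'.map (fixF hF).subtype
  obtain ⟨t, htdef⟩ : ∃ t, t = (fixF hF).subtype t' := ⟨_, rfl⟩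
  rw [← htdef] at ht
  have htq : t ^ q = t := by rw [htdef]; exact t'.2
  obtain ⟨W, hW⟩ := exists_wframe_even hF (N := 4) (m := 2) rfl
  obtain ⟨c, hc0, hc⟩ := exists_trace_zero_ne hF
  have hok : ∀ c : F, (PU hF 4).ok 0 c ↔ c + c ^ q = 0 := by
    intro c
    rw [ok_iff, herm_zero_left, neg_zero]
  have h2q : (2 : F) ^ q = 2 := by
    have : (2 : F) = 1 + 1 := by norm_num
    rw [this, add_pow_q hF, one_pow]
  refine row_IV_explicit (r := r) (P := PU hF 4) hp hj ht (W.e_sing 0) (W.f_sing 0)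
    (by rw [W.ef, if_pos rfl]) (b := (t - 2) / c) (c := c) ?_ ((hok c).2 hc) ?_ (lam_PU hF)
    (T := Submodule.span F {W.e 1}) (T' := Submodule.span F {W.f 1}) ?_ ?_ ?_ ?_ ?_
    ⟨W.e 1, Submodule.mem_span_singleton_self _, W.f 1, Submodule.mem_span_singleton_self _,
      by rw [W.ef, if_pos rfl]; exact one_ne_zero⟩ (fun v _ hv => nd_HU hF v hv)
  · rw [hok, div_pow, sub_pow_q hF, htq, h2q]
    have h1 : c ^ q = -c := by linear_combination hc
    rw [h1]
    field_simp
    ring
  · rw [HU_ε, one_mul, div_mul_cancel₀ _ hc0]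
  · apply le_antisymm
    · intro v hv
      obtain ⟨a, b, w, hw, hvw⟩ := W.span v
      rw [hW, Submodule.mem_bot] at hw
      have h1 : (HU hF 4).h v (W.e 0) = 0 := hv _ (by simp)
      have h2 : (HU hF 4).h v (W.f 0) = 0 := hv _ (by simp)
      rw [hw, add_zero, Fin.sum_univ_two, Fin.sum_univ_two] at hvw
      simp only [hvw, HForm.add_left, HForm.smul_left, W.ee, W.fe, W.ef, W.ff, Fin.isValue,
        one_ne_zero, if_false, if_true, mul_zero, add_zero, zero_add, HU_ε, mul_one] at h1 h2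
      rw [hvw, h1, h2, zero_smul, zero_smul, zero_add, zero_add]
      exact Submodule.add_mem_sup (Submodule.smul_mem _ _ (Submodule.mem_span_singleton_self _))
        (Submodule.smul_mem _ _ (Submodule.mem_span_singleton_self _))
    · refine sup_le ?_ ?_
      · rw [Submodule.span_singleton_le_iff_mem]
        rintro u (rfl | rfl)
        · exact W.ee _ _
        · rw [W.ef, if_neg (by decide)]
      · rw [Submodule.span_singleton_le_iff_mem]
        rintro u (rfl | rfl)
        · rw [W.fe, if_neg (by decide)]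
        · exact W.ff _ _
  · exact span_sing (by rintro u rfl v rfl; exact W.ee _ _) (by rintro u rfl; exact W.e_sing _)
  · exact span_orth (by rintro u rfl v rfl; exact W.ee _ _)
  · exact span_sing (by rintro u rfl v rfl; exact W.ff _ _) (by rintro u rfl; exact W.f_sing _)
  · exact span_orth (by rintro u rfl v rfl; exact W.ff _ _)

/-- **The row for the unitary groups**, Siegel form. -/
theorem row_SGU (hF : Fintype.card F = q ^ 2) (hN : 4 ≤ N) {p : ℕ} (hp : p.Prime)
    (hpF : (p : F) ≠ 0)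
    (hE : p = 2 ∨ ∃ a ∈ SG (PU hF N), ∃ b ∈ SG (PU hF N), a * b = b * a ∧ a ^ p = 1 ∧
      b ^ p = 1 ∧ b ≠ 1 ∧ ∀ i : ℕ, a * b ^ i ≠ 1) :
    FprRow (2 * p - 1) (p - 1) p (SG (PU hF N)) := by
  obtain ⟨r, hr⟩ := CharP.exists F
  have hrp : Fact r.Prime := ⟨CharP.char_is_prime F r⟩
  have hcardF := not_dvd_card hp hpF
  have hcF : Nat.card F = q ^ 2 := by rw [Nat.card_eq_fintype_card, hF]
  have hq1 : 1 ≤ q := q_pos hF
  have hpq : ¬ p ∣ q := by
    intro h
    apply hcardF
    rw [hcF]
    exact dvd_pow h two_ne_zero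
  by_cases hd : p ∣ q ^ 2 - 1
  · rcases Nat.lt_or_ge N 5 with h5 | h5
    · have h4 : N = 4 := by omega
      subst h4
      exact row_SU4 hF hp hpF hd
    · refine row_small (r := r) hp hpF ?_ (κ := 2) (by norm_num)
        (fun A hA => exists_iso_mem hF A hA) (nd_HU hF) (by
          rw [Module.finrank_fintype_fun_eq_card, Fintype.card_fin]; exact h5)
      rw [hcF]
      have := Nat.sub_dvd_pow_sub_pow (q ^ 2) 1 2
      rw [one_pow] at this
      exact hd.trans this
  · have hp5 : 5 ≤ p := by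
      by_contra hlt
      push Not at hlt
      exact hd (two_three_dvd hp hlt hpq hq1)
    obtain ⟨a, ha, b, hb, hab, hap, hbp, hb1, hind⟩ := hE.resolve_left (by omega)
    refine row_E (r := r) hp hp5 hpF (κ := 2) (by norm_num) (fun A hA => exists_iso_mem hF A hA)
      ?_ (lam_PU hF) (nd_HU hF) ha hb hab hap hbp hb1 hind
    intro i hi hi2 h
    have h1 : i = 1 := by omega
    rw [h1, pow_one, hcF] at h
    exact hd h

/-- **The row for `PSU_n(q)`, `n ≥ 4`.** -/
theorem row_PSU (hF : Fintype.card F = q ^ 2) (hN : 4 ≤ N) {p : ℕ} (hp : p.Prime)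
    (hpF : (p : F) ≠ 0) (hE : p = 2 ∨ ∃ P : Sylow p (PSU N F q), ¬ IsCyclic P) :
    FprRow (2 * p - 1) (p - 1) p (PSU N F q) := by
  have hfin : Finite ((Fin N → F) ≃ₗ[F] (Fin N → F)) := instFin
  have e : SG (PU hF N) ≃* SU N F q :=
    ((MonoidHom.ofInjective (toLin_injective (F := F) (q := q) (N := N))).trans
      (MulEquiv.subgroupCongr (SG_PU hF (by omega)).symm)).symm
  let f : SG (PU hF N) →* PSU N F q :=
    (QuotientGroup.mk' (Subgroup.center (SU N F q))).comp e.toMonoidHom
  have hf : Function.Surjective f := (QuotientGroup.mk'_surjective _).comp e.surjective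
  refine FprRow.of_surjective hp f hf ?_
  apply row_SGU hF hN hp hpF
  rcases eq_or_ne p 2 with rfl | hp2
  · exact Or.inl rfl
  · right
    obtain ⟨P, hP⟩ := hE.resolve_left hp2
    have := Fact.mk hp
    obtain ⟨a, b, hab, ha, hb, hb1, hind⟩ := exists_rank_two hp2 f hf P hP
    refine ⟨a, a.2, b, b.2, congrArg Subtype.val hab, congrArg Subtype.val ha,
      congrArg Subtype.val hb, fun h => hb1 (Subtype.ext h), fun i h => hind i (Subtype.ext h)⟩

end Cfsg.Agent.H110.Fpr
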