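import Cfsg.Agent.H110.Fpr.Four
import Cfsg.Agent.H110.Fpr.FamU
import Cfsg.Agent.TitsThree.SpGen
import Cfsg.Agent.LieClassical.OrthFinite

/-!
# The rows for the symplectic groups
-/

set_option autoImplicit false

namespace Cfsg.Agent.H110.Fpr

open Cfsg Cfsg.Agent.ClassicalGeometry.SympBasic
open Cfsg.Agent.TitsThree.Siegel Cfsg.Agent.TitsThree.SiegelGen Cfsg.Agent.TitsThree.SpIdent
open Cfsg.Agent.TitsThree.SpGen
open Cfsg.Agent.H409

variable {F : Type*} [Field F] {m : ℕ}

theorem SG_pq : SG (pq m F) = isos (form m F) := by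
  apply le_antisymm
  · exact SG_le _ fun u w c hu hw _ _ => sie_form_mem u w c hw
  · have h1 : (SG (pq m F)).subgroupOf (isos (form m F)) = ⊤ := by
      apply isos_eq_of_sie
      intro u c
      rw [Subgroup.mem_subgroupOf]
      exact sie_mem_SG (pq m F) (sympForm_self u) (sympForm_zero_right u) trivial trivial
    intro g hg
    have h2 : (⟨g, hg⟩ : isos (form m F)) ∈ (SG (pq m F)).subgroupOf (isos (form m F)) := by
      rw [h1]; trivial
    exact h2

theorem nd_form : ∀ v : Fin m ⊕ Fin m → F, v ≠ 0 → ∃ w, (form m F).h v w ≠ 0 := by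
  intro v hv
  by_contra hcon
  push Not at hcon
  exact hv (eq_zero_of_forall_sympForm_right hcon)

theorem κ_form (A : Submodule F (Fin m ⊕ Fin m → F)) (hA : 1 ≤ Module.finrank F A) :
    ∃ w ∈ A, w ≠ 0 ∧ (pq m F).ok w 0 := by
  have : Module.Finite F A := Module.finite_of_finrank_pos hA
  have : Nontrivial A := Module.nontrivial_of_finrank_pos hA
  obtain ⟨w, hw⟩ := exists_ne (0 : A)
  exact ⟨w, w.2, fun h => hw (Subtype.ext h), trivial⟩

theorem lam_form (h2 : (2 : F) ≠ 0) : ∀ c, (pq m F).ok 0 c →
    ∃ x, c = x - (form m F).ε⁻¹ * (form m F).σ x := by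
  intro c _
  refine ⟨c / 2, ?_⟩
  rw [form_ε, form_σ, inv_neg, inv_one]
  field_simp
  ring

theorem alt_form (h2 : (2 : F) = 0) : Alt2 (form m F) where
  two := h2
  eps := by rw [form_ε]; linear_combination -h2
  sig x := rfl
  alt v := sympForm_self v

/-- a quadratic function -/
def qS (v : Fin m ⊕ Fin m → F) : F := ∑ i, v (Sum.inr i) * v (Sum.inl i)

theorem isQ2_qS (h2 : (2 : F) = 0) : IsQ2 (form m F) (qS (m := m) (F := F)) where
  add v w := by
    rw [form_h, sympForm_eq_sum, qS, qS, qS, ← Finset.sum_add_distrib, ← Finset.sum_add_distrib]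
    refine Finset.sum_congr rfl fun i _ => ?_
    simp only [Pi.add_apply]
    linear_combination (v (Sum.inl i) * w (Sum.inr i)) * h2
  smul s v := by
    rw [qS, qS, Finset.mul_sum]
    refine Finset.sum_congr rfl fun i _ => ?_
    simp only [Pi.smul_apply, smul_eq_mul]
    ring

/-- quadratic functions have zeros -/
theorem exists_sing_q2 [Finite F] {V : Type*} [AddCommGroup V] [Module F V] {H : HForm F V}
    (hA : Alt2 H) {q : V → F} (hq : IsQ2 H q) (A : Submodule F V)
    (hd : 3 ≤ Module.finrank F A) : ∃ w ∈ A, w ≠ 0 ∧ q w = 0 := by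
  let Q : QuadraticForm F V :=
    { toFun := q
      toFun_smul := fun a x => by rw [hq.smul, smul_eq_mul, pow_two]
      exists_companion' := by
        refine ⟨LinearMap.mk₂ F H.h (fun a b c => H.add_left a b c) (fun s a b => H.smul_left s a b)
          (fun a b c => H.add_right a b c) (fun s a b => by
            rw [H.smul_right, hA.sig, smul_eq_mul]), fun x y => ?_⟩
        rw [hq.add]
        rfl }
  exact LieClassical.OrthFinite.exists_sing_mem (Q := Q) A hd

theorem finrank_sp : Module.finrank F (Fin m ⊕ Fin m → F) = 2 * m := by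
  rw [Module.finrank_fintype_fun_eq_card, Fintype.card_sum, Fintype.card_fin]
  omega

theorem perp_sp4 : perp (form 2 F) {e 2 F 0, f 2 F 0} =
    Submodule.span F {e 2 F 1} ⊔ Submodule.span F {f 2 F 1} := by
  apply le_antisymm
  · intro v hv
    obtain ⟨a, b, w, hw, hvw⟩ := (wframe 2 F).span v
    have hw0 : w = 0 := (Submodule.mem_bot F).1 hw
    have h1 : (form 2 F).h v (e 2 F 0) = 0 := hv _ (by simp)
    have h2 : (form 2 F).h v (f 2 F 0) = 0 := hv _ (by simp)
    change v = ∑ i, a i • e 2 F i + ∑ i, b i • f 2 F i + w at hvw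
    rw [hw0, add_zero, Fin.sum_univ_two, Fin.sum_univ_two] at hvw
    rw [form_h] at h1 h2
    simp only [hvw, sympForm_add_left, sympForm_smul_left, ee, fe, ef, ff, Fin.isValue,
      one_ne_zero, if_false, if_true, mul_zero, add_zero, zero_add, mul_one, mul_neg,
      neg_eq_zero] at h1 h2
    rw [hvw, h1, h2, zero_smul, zero_smul, zero_add, zero_add]
    exact Submodule.add_mem_sup (Submodule.smul_mem _ _ (Submodule.mem_span_singleton_self _))
      (Submodule.smul_mem _ _ (Submodule.mem_span_singleton_self _))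
  · refine sup_le ?_ ?_
    · rw [Submodule.span_singleton_le_iff_mem]
      rintro u (rfl | rfl)
      · exact ee _ _
      · change sympForm 2 F _ _ = 0
        rw [ef, if_neg (by decide)]
    · rw [Submodule.span_singleton_le_iff_mem]
      rintro u (rfl | rfl)
      · change sympForm 2 F _ _ = 0
        rw [fe, if_neg (by decide)]
      · exact ff _ _

/-- **The row for the symplectic groups.** -/
theorem row_isos [Finite F] (hm : 2 ≤ m) (hm2 : m = 2 → 3 ≤ Nat.card F) {p : ℕ} (hp : p.Prime)
    (hpF : (p : F) ≠ 0)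
    (hE : p = 2 ∨ ∃ a ∈ SG (pq m F), ∃ b ∈ SG (pq m F), a * b = b * a ∧ a ^ p = 1 ∧
      b ^ p = 1 ∧ b ≠ 1 ∧ ∀ i : ℕ, a * b ^ i ≠ 1) :
    FprRow (2 * p - 1) (p - 1) p (SG (pq m F)) := by
  obtain ⟨r, hr⟩ := CharP.exists F
  have hrp : Fact r.Prime := ⟨CharP.char_is_prime F r⟩
  have hcardF := not_dvd_card hp hpF
  have hq1 : 1 ≤ Nat.card F := Nat.card_pos
  by_cases hd : p ∣ (Nat.card F) ^ 2 - 1
  · rcases Nat.lt_or_ge m 3 with h3 | h3
    · have h2 : m = 2 := by omega
      subst h2
      by_cases hF2 : (2 : F) = 0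
      · have hp2 : p ≠ 2 := by
          rintro rfl
          apply hpF
          exact_mod_cast hF2
        have h4 : 4 ≤ Nat.card F := by
          have h3 := hm2 rfl
          have h5 : 2 ∣ Nat.card F := by
            have hch : CharP F 2 := CharTwo.of_one_ne_zero_of_two_eq_zero one_ne_zero hF2
            have := Fintype.ofFinite F
            rw [Nat.card_eq_fintype_card, ← CharP.cast_eq_zero_iff F 2]
            exact Nat.cast_card_eq_zero F
          omega
        refine row_four h4 (alt_form hF2) (fun _ _ => trivial) (isQ2_qS hF2) hp hp2 hd nd_form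
          (e := e 2 F 0) (f := f 2 F 0) (e0 := e 2 F 1) (f0 := f 2 F 1) ?_ ?_ ?_
        · rw [form_h, ef, if_pos rfl]
        · rw [form_h, ef, if_pos rfl]
        · rw [perp_sp4, ← Submodule.span_union]
          rfl
      · obtain ⟨t, j, k, hj, ht⟩ := exists_good2 (F := F) hp hpF hd
        refine row_IV_explicit (r := r) (P := pq 2 F) hp hj ht (e := e 2 F 0) (f := f 2 F 0)
          trivial trivial (by rw [form_h, ef, if_pos rfl]) (b := 2 - t) (c := 1) trivial trivial
          (by rw [form_ε]; ring) (lam_form hF2) perp_sp4 (fun _ _ => trivial) ?_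
          (fun _ _ => trivial) ?_ ⟨e 2 F 1, Submodule.mem_span_singleton_self _, f 2 F 1,
            Submodule.mem_span_singleton_self _, by
              rw [form_h, ef, if_pos rfl]; exact one_ne_zero⟩ (fun v _ hv => nd_form v hv)
        · exact span_orth (by rintro u rfl v rfl; exact ee _ _)
        · exact span_orth (by rintro u rfl v rfl; exact ff _ _)
    · exact row_small (r := r) hp hpF hd (κ := 1) (by norm_num) κ_form nd_form
        (by rw [finrank_sp]; omega)
  · have hp5 : 5 ≤ p := by
      by_contra hlt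
      push Not at hlt
      exact hd (two_three_dvd hp hlt hcardF hq1)
    obtain ⟨a, ha, b, hb, hab, hap, hbp, hb1, hind⟩ := hE.resolve_left (by omega)
    by_cases hF2 : (2 : F) = 0
    · refine row_E2 (alt_form hF2) (fun _ _ => trivial) (isQ2_qS hF2)
        (fun q hq A hA => exists_sing_q2 (alt_form hF2) hq A hA) hp hp5 ?_ nd_form ha hb hab hap
        hbp hb1 hind
      intro i hi hi3 h
      apply hd
      interval_cases i
      · rw [pow_one] at h
        have : Nat.card F - 1 ∣ Nat.card F ^ 2 - 1 := by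
          have := Nat.sub_dvd_pow_sub_pow (Nat.card F) 1 2
          rwa [one_pow] at this
        exact h.trans this
      · exact h
    · refine row_E (r := r) hp hp5 hpF (κ := 1) (by norm_num) κ_form ?_ (lam_form hF2) nd_form
        ha hb hab hap hbp hb1 hind
      intro i hi hi1
      omega

/-- **The row for `PSp_{2m}(q)`, `m ≥ 2`.** -/
theorem row_PSp [Finite F] (hm : 2 ≤ m) (hm2 : m = 2 → 3 ≤ Nat.card F) {p : ℕ} (hp : p.Prime)
    (hpF : (p : F) ≠ 0) (hE : p = 2 ∨ ∃ P : Sylow p (PSp m F), ¬ IsCyclic P) :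
    FprRow (2 * p - 1) (p - 1) p (PSp m F) := by
  have hfin : Finite ((Fin m ⊕ Fin m → F) ≃ₗ[F] (Fin m ⊕ Fin m → F)) := instFin
  let e : SG (pq m F) ≃* isos (form m F) := MulEquiv.subgroupCongr SG_pq
  let f : SG (pq m F) →* PSp m F := toPSp.comp e.toMonoidHom
  have hf : Function.Surjective f := toPSp_surjective.comp e.surjective
  refine FprRow.of_surjective hp f hf ?_
  apply row_isos hm hm2 hp hpF
  rcases eq_or_ne p 2 with rfl | hp2
  · exact Or.inl rfl
  · right
    obtain ⟨P, hP⟩ := hE.resolve_left hp2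
    have := Fact.mk hp
    obtain ⟨a, b, hab, ha, hb, hb1, hind⟩ := exists_rank_two hp2 f hf P hP
    refine ⟨a, a.2, b, b.2, congrArg Subtype.val hab, congrArg Subtype.val ha,
      congrArg Subtype.val hb, fun h => hb1 (Subtype.ext h), fun i h => hind i (Subtype.ext h)⟩

end Cfsg.Agent.H110.Fpr
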