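import Cfsg.Agent.H110.Fpr.FamL
import Cfsg.Agent.H110.Fpr.FamSp
import Cfsg.Agent.H110.Fpr.FamO
import Cfsg.Agent.H110.Fpr.FamU
import Cfsg.Agent.H398.FPR.PslTwo
import Cfsg.Agent.H398.FPR.PsuThree
import Cfsg.Prelude.Def_LieTypeChar

/-!
# All classical groups, cross characteristic
-/

set_option autoImplicit false

namespace Cfsg.Agent.H110.Fpr

open Cfsg Cfsg.Agent.H409

universe u

theorem sylow_transfer {p : ℕ} [Fact p.Prime] {G H : Type*} [Group G] [Group H] [Finite G]
    (e : G ≃* H) (h : ∃ P : Sylow p G, ¬ IsCyclic P) : ∃ P : Sylow p H, ¬ IsCyclic P := by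
  obtain ⟨P, hP⟩ := h
  have : Finite H := Finite.of_equiv G e.toEquiv
  refine ⟨P.mapSurjective (f := e.toMonoidHom) e.surjective, fun hc => hP ?_⟩
  have e1 : P ≃* ((P : Subgroup G).map e.toMonoidHom) :=
    (P : Subgroup G).equivMapOfInjective e.toMonoidHom e.injective
  have hc' : IsCyclic ((P : Subgroup G).map e.toMonoidHom) := hc
  exact isCyclic_of_surjective e1.symm e1.symm.surjective

theorem charP_of {p : ℕ} (hp : p.Prime) {F : Type*} [Field F] (h : (p : F) = 0) : CharP F p := by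
  obtain ⟨r, hr⟩ := CharP.exists F
  have hrp := CharP.char_is_prime_or_zero F r
  have h1 : r ∣ p := (CharP.cast_eq_zero_iff F r p).1 h
  rcases (Nat.dvd_prime hp).1 h1 with h2 | h2
  · subst h2
    rcases hrp with h3 | h3
    · exact absurd h3 Nat.not_prime_one
    · omega
  · rw [← h2]; exact hr

/-- **The classical rows of S3569.** -/
theorem row_classical {p : ℕ} (hp : p.Prime) {G : Type u} [Group G] [Finite G]
    (h : IsPSL G ∨ IsPSp G ∨ IsPSU G ∨ IsPOmegaOdd G ∨ IsPOmegaPlus G ∨ IsPOmegaMinus G)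
    (hchar : ¬ IsLieTypeChar p G) (hE : p = 2 ∨ ∃ P : Sylow p G, ¬ IsCyclic P) :
    FprRow (2 * p - 1) (p - 1) p G := by
  have hpf : Fact p.Prime := ⟨hp⟩
  have tr : ∀ {H : Type} [Group H], (e : G ≃* H) → p = 2 ∨ ∃ P : Sylow p H, ¬ IsCyclic P := by
    intro H _ e
    rcases hE with h | h
    · exact Or.inl h
    · exact Or.inr (sylow_transfer e h)
  rcases h with h | h | h | h | h | h
  · obtain ⟨F, i1, i2, n, hn, hn2, ⟨e⟩⟩ := h
    have hpF : (p : F) ≠ 0 := fun h0 => hchar (Or.inl
      ⟨F, i1, i2, charP_of hp h0, n, hn, hn2, ⟨e⟩⟩)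
    have : Finite (Matrix.ProjectiveSpecialLinearGroup (Fin n) F) := Finite.of_equiv G e.toEquiv
    rcases Nat.lt_or_ge n 3 with h3 | h3
    · have h2 : n = 2 := by omega
      subst h2
      by_cases hp2 : p = 2
      · subst hp2
        have hodd : Odd (Fintype.card F) := by
          have h1 := not_dvd_card hp hpF
          rw [Nat.card_eq_fintype_card] at h1
          exact Nat.odd_iff.2 (by omega)
        have h4 := hn2 rfl
        have h5 : 5 ≤ Fintype.card F := by
          rcases Nat.lt_or_ge (Fintype.card F) 5 with h6 | h6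
          · have h7 : Fintype.card F = 4 := by omega
            rw [h7] at hodd
            exact absurd hodd (by decide)
          · exact h6
        have hrow : FprRow (2 * 2 - 1) (2 - 1) 2 (Matrix.ProjectiveSpecialLinearGroup (Fin 2) F) :=
          H398.FPR.PslTwo.row_psl_two hodd h5
        exact hrow.of_mulEquiv hp e.symm
      · -- `p` odd: the rank two argument
        have hfin0 : Finite ((Fin 2 → F) ≃ₗ[F] (Fin 2 → F)) := instFin
        have hfin : Finite (SpecialLinearGroup F (Fin 2 → F)) := inferInstance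
        let e' : SpecialLinearGroup F (Fin 2 → F) ≃* Matrix.SpecialLinearGroup (Fin 2) F :=
          Matrix.SpecialLinearGroup.toLin'_equiv.symm
        let f : SpecialLinearGroup F (Fin 2 → F) →* Matrix.ProjectiveSpecialLinearGroup (Fin 2) F :=
          (QuotientGroup.mk' (Subgroup.center (Matrix.SpecialLinearGroup (Fin 2) F))).comp
            e'.toMonoidHom
        have hf : Function.Surjective f := (QuotientGroup.mk'_surjective _).comp e'.surjective
        obtain ⟨P, hP⟩ := (tr e).resolve_left hp2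
        obtain ⟨a, b, hab, ha, hb, hb1, hind⟩ := exists_rank_two hp2 f hf P hP
        exact (FprRow.of_surjective hp f hf
          (row_lin_E hp hp2 hpF hab ha hb hb1 hind)).of_mulEquiv hp e.symm
    · exact (row_PSL h3 hp hpF (tr e)).of_mulEquiv hp e.symm
  · obtain ⟨F, i1, i2, m, hm, hm2, ⟨e⟩⟩ := h
    have hpF : (p : F) ≠ 0 := fun h0 => hchar (Or.inr (Or.inl
      ⟨F, i1, i2, charP_of hp h0, m, hm, hm2, ⟨e⟩⟩))
    have : Finite (PSp m F) := Finite.of_equiv G e.toEquiv
    exact (row_PSp hm (by rw [Nat.card_eq_fintype_card]; exact hm2) hp hpF (tr e)).of_mulEquiv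
      hp e.symm
  · obtain ⟨F, i1, i2, n, q, hF, hn, hn3, ⟨e⟩⟩ := h
    have hpF : (p : F) ≠ 0 := fun h0 => hchar (Or.inr (Or.inr (Or.inl
      ⟨F, i1, i2, charP_of hp h0, n, q, hF, hn, hn3, ⟨e⟩⟩)))
    have : Finite (PSU n F q) := Finite.of_equiv G e.toEquiv
    rcases Nat.lt_or_ge n 4 with h4 | h4
    · have h3 : n = 3 := by omega
      subst h3
      have hq2 : 2 ≤ q := by
        have h1 := Fintype.one_lt_card (α := F)
        rw [hF] at h1
        by_contra hlt
        push Not at hlt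
        interval_cases q <;> omega
      have hq3 : 3 ≤ q := by
        rcases Nat.lt_or_ge q 3 with h6 | h6
        · exact absurd ⟨rfl, by omega⟩ hn3
        · exact h6
      have hpq : ¬ p ∣ q := by
        intro h
        have h1 := not_dvd_card hp hpF
        apply h1
        rw [Nat.card_eq_fintype_card, hF]
        exact dvd_pow h two_ne_zero
      refine (H398.FPR.PsuThree.row_psu_three hF hq3 hpq ?_).of_mulEquiv hp e.symm
      intro hp2 P hP
      obtain ⟨Q, hQ⟩ := (tr e).resolve_left hp2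
      exact hQ (isCyclic_of_surjective (P.equiv Q) (P.equiv Q).surjective)
    · exact (row_PSU hF h4 hp hpF (tr e)).of_mulEquiv hp e.symm
  · obtain ⟨F, i1, i2, m, hm, hodd, ⟨e⟩⟩ := h
    have hpF : (p : F) ≠ 0 := fun h0 => hchar (Or.inr (Or.inr (Or.inr (Or.inl
      ⟨F, i1, i2, charP_of hp h0, m, hm, hodd, ⟨e⟩⟩))))
    have : Finite (POmega F (quadFormOdd m F)) := Finite.of_equiv G e.toEquiv
    exact (row_POmegaOdd hm hodd hp hpF (tr e)).of_mulEquiv hp e.symm
  · obtain ⟨F, i1, i2, m, hm, ⟨e⟩⟩ := h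
    have hpF : (p : F) ≠ 0 := fun h0 => hchar (Or.inr (Or.inr (Or.inr (Or.inr (Or.inl
      ⟨F, i1, i2, charP_of hp h0, m, hm, ⟨e⟩⟩)))))
    have : Finite (POmega F (quadFormPlus m F)) := Finite.of_equiv G e.toEquiv
    exact (row_POmegaPlus hm hp hpF (tr e)).of_mulEquiv hp e.symm
  · obtain ⟨F, i1, i2, m, a, b, hm, hab, ⟨e⟩⟩ := h
    have hpF : (p : F) ≠ 0 := fun h0 => hchar (Or.inr (Or.inr (Or.inr (Or.inr (Or.inr (Or.inl
      ⟨F, i1, i2, charP_of hp h0, m, a, b, hm, hab, ⟨e⟩⟩))))))
    have : Finite (POmega F (quadFormMinus (m - 1) F a b)) := Finite.of_equiv G e.toEquiv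
    exact (row_POmegaMinus hm hab hp hpF (tr e)).of_mulEquiv hp e.symm

end Cfsg.Agent.H110.Fpr
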