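import Cfsg.Agent.H110.Fpr.Row
import Cfsg.Agent.H435.Fpr.Sharp

/-!
# Radical data and the two ratios
-/

set_option autoImplicit false
open Subgroup MulAction

namespace Cfsg.Agent.H110.Fpr

open Cfsg.Agent.H398.FPR Cfsg.Agent.H409 Cfsg.Agent.H435.Fpr
open Cfsg.Agent.TitsThree.Siegel Cfsg.Agent.TitsThree.SiegelGen

section Abs

variable {A : Type*} [Group A]

/-- `m` radicals (`r`-groups `R i` with `[R i, x ^ p ^ j] = R i`) which generate `K` with the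
`p`-element `x`. -/
def RadData (r p j m : ℕ) (K : Subgroup A) : Prop :=
  ∃ (x : A) (k : ℕ) (ι : Type) (_ : Fintype ι) (R : ι → Subgroup A), x ∈ K ∧ x ^ p ^ k = 1 ∧
    (∀ i, R i ≤ K) ∧ (∀ i, Pair p j x (R i)) ∧ (∀ i, IsPGroup r (R i)) ∧ Fintype.card ι ≤ m ∧
    K ≤ closure ({x} ∪ ⋃ i, (R i : Set A))

theorem RadData.mono {r p j m m' : ℕ} {K : Subgroup A} (h : RadData r p j m K) (hm : m ≤ m') :
    RadData r p j m' K := by
  obtain ⟨x, k, ι, i1, R, h1, h2, h3, h4, h5, h6, h7⟩ := h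
  exact ⟨x, k, ι, i1, R, h1, h2, h3, h4, h5, h6.trans hm, h7⟩

/-- The ratio of S3569. -/
theorem RadData.row {r p j m : ℕ} {K : Subgroup A} [Finite K] (hp : p.Prime)
    (h : RadData r p j m K) (hm : m ≤ (p - 1) * p ^ j) : FprRow (2 * p - 1) (p - 1) p K := by
  obtain ⟨x, k, ι, i1, R, h1, h2, h3, h4, h5, h6, h7⟩ := h
  refine row_of_gen hp h1 h2 R h3 h4 1 one_pos ?_ (by rw [mul_one]; exact h6.trans hm)
  intro J hJ
  have hJu : J = Set.univ := by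
    refine Set.eq_of_subset_of_ncard_le (Set.subset_univ J) ?_ (Set.toFinite _)
    rw [Set.ncard_univ, Nat.card_eq_fintype_card]
    omega
  subst hJu
  refine h7.trans (closure_mono ?_)
  apply Set.union_subset_union_right
  intro z hz
  rw [Set.mem_iUnion] at hz
  obtain ⟨i, hi⟩ := hz
  exact Set.mem_iUnion₂.2 ⟨i, trivial, hi⟩

theorem closure_subgroupOf_eq_top {K : Subgroup A} {x : A} (hx : x ∈ K) {ι : Type*}
    {R : ι → Subgroup A} (hR : ∀ i, R i ≤ K) (h : K ≤ closure ({x} ∪ ⋃ i, (R i : Set A))) :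
    closure ({(⟨x, hx⟩ : K)} ∪ ⋃ i, ((R i).subgroupOf K : Set K)) = ⊤ := by
  rw [eq_top_iff]
  intro g _
  have h1 : ({x} ∪ ⋃ i, (R i : Set A)) =
      K.subtype '' ({(⟨x, hx⟩ : K)} ∪ ⋃ i, ((R i).subgroupOf K : Set K)) := by
    ext a
    constructor
    · rintro (ha | ha)
      · rw [Set.mem_singleton_iff] at ha
        subst ha
        exact ⟨⟨a, hx⟩, Or.inl rfl, rfl⟩
      · rw [Set.mem_iUnion] at ha
        obtain ⟨i, hi⟩ := ha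
        exact ⟨⟨a, hR i hi⟩, Or.inr (Set.mem_iUnion.2 ⟨i, hi⟩), rfl⟩
    · rintro ⟨b, hb | hb, rfl⟩
      · rw [Set.mem_singleton_iff] at hb
        left
        rw [hb]
        rfl
      · rw [Set.mem_iUnion] at hb
        obtain ⟨i, hi⟩ := hb
        exact Or.inr (Set.mem_iUnion.2 ⟨i, hi⟩)
  rw [h1, ← MonoidHom.map_closure] at h
  obtain ⟨b, hb, hbg⟩ := h g.2
  have h2 : b = g := Subtype.ext hbg
  rwa [h2] at hb

/-- The ratio of S3578. -/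
theorem RadData.sharp {r p m : ℕ} {K : Subgroup A} [Finite K] (hp : p.Prime) (hr : r.Prime)
    (h : RadData r p 0 m K) (hm : 0 < m)
    (hM : ∀ t : ℕ, t ≠ 0 → r ^ t ≡ 1 [MOD p] → m * p + 1 ≤ r ^ t) : FprRow (p + 1) 1 p K := by
  obtain ⟨x, k, ι, i1, R, h1, h2, h3, h4, h5, h6, h7⟩ := h
  obtain ⟨x', hx'⟩ : ∃ x' : K, x' = ⟨x, h1⟩ := ⟨_, rfl⟩
  have hx'p : x' ^ p ^ k = 1 := by rw [hx']; exact Subtype.ext h2
  have hG := T3M_uGood (M := m * p + 1) (by omega) (x := x') (fun i => (R i).subgroupOf K)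
    (fun i => by
      have h8 : IsPGroup r ((R i).subgroupOf K) :=
        (h5 i).of_injective (subgroupOfEquivOfLe (h3 i)).toMonoidHom
          (subgroupOfEquivOfLe (h3 i)).injective
      refine PairM.of_pair hp hr hx'p h8 ?_ hM
      rw [hx']
      exact pair_subgroupOf (h3 i) h1 (h4 i))
    (by rw [hx']; exact closure_subgroupOf_eq_top h1 h3 h7)
  obtain ⟨n, -, hn⟩ := (Nat.dvd_prime_pow hp).1 (orderOf_dvd_of_pow_eq_one hx'p)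
  intro H hH
  refine ⟨x', ⟨n, hn⟩, ?_⟩
  have h9 := hG H hH
  obtain ⟨f, hf⟩ : ∃ f, f = Nat.card (fixedBy (K ⧸ H) x') := ⟨_, rfl⟩
  obtain ⟨N, hN⟩ : ∃ N, N = Nat.card (K ⧸ H) := ⟨_, rfl⟩
  obtain ⟨c, hc⟩ : ∃ c, c = Fintype.card ι := ⟨_, rfl⟩
  rw [← hf, ← hN, ← hc] at h9
  rw [← hc] at h6
  rw [← hf, ← hN, one_mul]
  have e1 : m * p + 1 + c - 1 = m * p + c := by omega
  rw [e1] at h9
  have h10 : 0 < m * p := Nat.mul_pos hm hp.pos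
  rcases Nat.eq_zero_or_pos c with h0 | h0
  · rw [h0, zero_mul, add_zero] at h9
    have : f = 0 := by
      rcases Nat.eq_zero_or_pos f with h | h
      · exact h
      · exact absurd (Nat.mul_pos h10 h) (by omega)
    rw [this, mul_zero]
    exact Nat.zero_le _
  · apply Nat.le_of_mul_le_mul_left _ h0
    calc c * ((p + 1) * f) = (c * p + c) * f := by ring
      _ ≤ (m * p + c) * f := by
          apply Nat.mul_le_mul_right
          exact Nat.add_le_add_right (Nat.mul_le_mul_right _ h6) _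
      _ ≤ c * N := h9

end Abs

section

variable {F : Type*} [Field F] {V : Type*} [AddCommGroup V] [Module F V]
variable {H : HForm F V} {P P₁ : PQ H}

theorem isPGroup_of_le_flagU {r : ℕ} [hr : Fact r.Prime] [CharP F r]
    {A B : Submodule F V} (hAB : A ≤ B) {R : Subgroup (V ≃ₗ[F] V)}
    (hR : R ≤ flagU A B hAB) : IsPGroup r R := by
  rintro ⟨g, hg⟩
  obtain ⟨k, hk⟩ := flagU_isPGroup (r := r) A B hAB ⟨g, hR hg⟩
  have hk' : g ^ r ^ k = 1 := congrArg Subtype.val hk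
  exact ⟨k, Subtype.ext hk'⟩

/-- **Type IV**: several radicals `[U_T, x]`. -/
theorem data_IV [Finite V] {r : ℕ} [Fact r.Prime] [CharP F r] {p j k : ℕ}
    {x : V ≃ₗ[F] V} (hxK : x ∈ SG P) (hx : x ^ p ^ k = 1)
    (hx₁ : ∀ w c, P₁.ok w c → P₁.ok (x w) c) (hPP : ∀ w c, P₁.ok w c → P.ok w c)
    {V1 V2 : Submodule F V} (htop : V1 ⊔ V2 = ⊤) (h12 : ∀ m ∈ V1, ∀ v ∈ V2, H.h m v = 0)
    (hx1 : ∀ w ∈ V1, x w ∈ V1) (hx2 : ∀ w ∈ V2, x w = w)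
    (hsurj : ∀ w ∈ V1, ∃ w' ∈ V1, (x ^ p ^ j) w' - w' = w)
    (hlam : ∀ c, P₁.ok 0 c → ∃ m, c = m - H.ε⁻¹ * H.σ m)
    {ι : Type} [Fintype ι] (T : ι → Submodule F V)
    (hT2 : ∀ i, T i ≤ V2) (hTs : ∀ i, ∀ u ∈ T i, P.ok u 0)
    (hTT : ∀ i, ∀ u ∈ T i, ∀ u' ∈ T i, H.h u u' = 0) (hspan : V2 ≤ ⨆ i, T i)
    (hpair : ∃ i, ∃ u ∈ T i, ∃ i', ∃ u' ∈ T i', H.h u u' ≠ 0)
    {a a' : V} (ha : a ∈ V1) (has : P₁.ok a 0) (ha' : a' ∈ V1) (has' : P₁.ok a' 0)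
    (haa' : H.h a' a ≠ 0)
    (h4 : ∀ D : Subgroup (V ≃ₗ[F] V), (∀ i, rad P₁ (T i) V1 ≤ D) →
      Zt P D {0} a ∧ Zt P D {0} a')
    (hVnd : ∀ v : V, P.ok v 0 → v ≠ 0 → ∃ w, H.h v w ≠ 0) :
    RadData r p j (Fintype.card ι) (SG P) := by
  obtain ⟨hxi, hxok, -⟩ := SG_iso hxK
  have hT1 : ∀ i, ∀ u ∈ T i, ∀ w ∈ V1, H.h u w = 0 := fun i u hu w hw =>
    H.orth_symm (h12 w hw u (hT2 i hu))
  refine ⟨x, k, ι, inferInstance, fun i => rad P₁ (T i) V1, hxK, hx, ?_, ?_, ?_, le_rfl, ?_⟩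
  · intro i
    apply rad_le
    intro u w c hu hw huT hwW hwc
    exact sie_mem_SG P hu hw (hTs i u huT) (hPP w c hwc)
  · intro i
    obtain ⟨A, B, hAB, hle⟩ := rad_le_flagU (P₁ := P₁) (hTT i) (hT1 i)
    refine ⟨nilpotent_of_le_flagU (r := r) hAB hle, ?_, ?_⟩
    · apply mem_normalizer_of_conj
      exact rad_conj hxi hx₁ (fun u hu => by rw [hx2 u (hT2 i hu)]; exact hu) hx1
    · refine rad_commFull (isIso_pow hxi _) (pow_ok hx₁ _) ?_ (pow_mem_sub hx1 _) hsurj (hT1 i)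
        hlam ⟨a', ha', a, ha, haa'⟩
      intro u hu
      exact pow_fix hx2 _ u (hT2 i hu)
  · intro i
    obtain ⟨A, B, hAB, hle⟩ := rad_le_flagU (P₁ := P₁) (hTT i) (hT1 i)
    exact isPGroup_of_le_flagU (r := r) hAB hle
  · obtain ⟨D, hD⟩ : ∃ D, D = Subgroup.closure
      ({x} ∪ ⋃ i, ((rad P₁ (T i) V1 : Subgroup (V ≃ₗ[F] V)) : Set (V ≃ₗ[F] V))) := ⟨_, rfl⟩
    rw [← hD]
    have hDi : ∀ i, rad P₁ (T i) V1 ≤ D := by
      intro i g hg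
      rw [hD]
      apply Subgroup.subset_closure
      right
      rw [Set.mem_iUnion]
      exact ⟨i, hg⟩
    obtain ⟨i, u, hu, i', u', hu', huu'⟩ := hpair
    have hRt : ∀ b ∈ V1, P₁.ok b 0 → ∀ u ∈ ⋃ i, (T i : Set V), Rt H D u b := by
      intro b hb hbs u hu s huu hub
      rw [Set.mem_iUnion] at hu
      obtain ⟨i, hu⟩ := hu
      exact hDi i (sie_mem_rad huu hub hu (V1.smul_mem _ hb) (P₁.sing_smul hbs s))
    refine radIV_gen (V1 := V1) (V2 := V2) (S := ⋃ i, (T i : Set V)) htop h12 ?_ ?_ ?_ ha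
      (hPP _ _ has) ha' (hPP _ _ has') haa' (hRt a ha has) (hRt a' ha' has') ?_ (h4 D hDi).1
      (h4 D hDi).2 ?_ hVnd
    · intro u hu
      rw [Set.mem_iUnion] at hu
      obtain ⟨i, hu⟩ := hu
      exact hTs i u hu
    · intro u hu
      rw [Set.mem_iUnion] at hu
      obtain ⟨i, hu⟩ := hu
      exact hT2 i hu
    · refine hspan.trans (iSup_le fun i => ?_)
      intro u hu
      exact Submodule.subset_span (Set.mem_iUnion.2 ⟨i, hu⟩)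
    · intro u hu m hm
      rw [Set.mem_iUnion] at hu
      obtain ⟨i, hu⟩ := hu
      obtain ⟨c, hc⟩ := P₁.ex m
      exact ⟨c, hTT i u hu u hu, hT1 i u hu m hm, hPP _ _ hc,
        hDi i (sie_mem_rad _ _ hu hm hc)⟩
    · exact ⟨u, Set.mem_iUnion.2 ⟨i, hu⟩, u', Set.mem_iUnion.2 ⟨i', hu'⟩, huu'⟩

/-- **Type IV** when `Λ` is minimal. -/
theorem data_IV_min [Finite V] {r : ℕ} [Fact r.Prime] [CharP F r] {p j k : ℕ}
    {x : V ≃ₗ[F] V} (hxK : x ∈ SG P) (hx : x ^ p ^ k = 1)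
    {V1 V2 : Submodule F V} (htop : V1 ⊔ V2 = ⊤) (h12 : ∀ m ∈ V1, ∀ v ∈ V2, H.h m v = 0)
    (hx1 : ∀ w ∈ V1, x w ∈ V1) (hx2 : ∀ w ∈ V2, x w = w)
    (hsurj : ∀ w ∈ V1, ∃ w' ∈ V1, (x ^ p ^ j) w' - w' = w)
    (hlam : ∀ c, P.ok 0 c → ∃ m, c = m - H.ε⁻¹ * H.σ m)
    {ι : Type} [Fintype ι] (T : ι → Submodule F V)
    (hT2 : ∀ i, T i ≤ V2) (hTs : ∀ i, ∀ u ∈ T i, P.ok u 0)
    (hTT : ∀ i, ∀ u ∈ T i, ∀ u' ∈ T i, H.h u u' = 0) (hspan : V2 ≤ ⨆ i, T i)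
    (hpair : ∃ i, ∃ u ∈ T i, ∃ i', ∃ u' ∈ T i', H.h u u' ≠ 0)
    {a a' : V} (ha : a ∈ V1) (has : P.ok a 0) (ha' : a' ∈ V1) (has' : P.ok a' 0)
    (haa' : H.h a' a ≠ 0)
    (hVnd : ∀ v : V, P.ok v 0 → v ≠ 0 → ∃ w, H.h v w ≠ 0) :
    RadData r p j (Fintype.card ι) (SG P) := by
  obtain ⟨hxi, hxok, -⟩ := SG_iso hxK
  refine data_IV hxK hx hxok (fun _ _ h => h) htop h12 hx1 hx2 hsurj hlam T hT2 hTs hTT
    hspan hpair ha has ha' has' haa' ?_ hVnd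
  intro D hD
  obtain ⟨i, u, hu, i', u', hu', huu'⟩ := hpair
  have hRt : ∀ b ∈ V1, P.ok b 0 → ∀ i, ∀ u ∈ T i, Rt H D b u := by
    intro b hb hbs i u hu
    have hub : H.h u b = 0 := H.orth_symm (h12 b hb u (hT2 i hu))
    refine Rt.symm (hTT i u hu u hu) (P.iso hbs) hub ?_
    intro s huu hub'
    exact hD i (sie_mem_rad huu hub' hu (V1.smul_mem _ hb) (P.sing_smul hbs s))
  exact ⟨zt_zero_of_comm (h12 a ha u (hT2 i hu)) (h12 a ha u' (hT2 i' hu')) huu'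
      (hRt a ha has i u hu) (hRt a ha has i' u' hu') hlam,
    zt_zero_of_comm (h12 a' ha' u (hT2 i hu)) (h12 a' ha' u' (hT2 i' hu')) huu'
      (hRt a' ha' has' i u hu) (hRt a' ha' has' i' u' hu') hlam⟩

/-- **Type I.** -/
theorem data_I [Finite V] {r : ℕ} [Fact r.Prime] [CharP F r] {p j k : ℕ}
    {x : V ≃ₗ[F] V} (hxK : x ∈ SG P) (hx : x ^ p ^ k = 1)
    {T T' M : Submodule F V} (htop : T ⊔ M ⊔ T' = ⊤)
    (hxT : ∀ w ∈ T, x w ∈ T) (hxT' : ∀ w ∈ T', x w ∈ T') (hxM : ∀ w ∈ M, x w = w)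
    (hsurj : ∀ w ∈ T, ∃ w' ∈ T, (x ^ p ^ j) w' - w' = w)
    (hsurj' : ∀ w ∈ T', ∃ w' ∈ T', (x ^ p ^ j) w' - w' = w)
    (hTs : ∀ u ∈ T, P.ok u 0) (hTT : ∀ u ∈ T, ∀ u' ∈ T, H.h u u' = 0)
    (hTs' : ∀ u ∈ T', P.ok u 0) (hTT' : ∀ u ∈ T', ∀ u' ∈ T', H.h u u' = 0)
    (hTM : ∀ u ∈ T, ∀ w ∈ M, H.h u w = 0) (hTM' : ∀ u ∈ T', ∀ w ∈ M, H.h u w = 0)
    (hnd : ∃ m ∈ M, ∃ m' ∈ M, H.h m m' ≠ 0)
    (hpair : ∃ p ∈ T, ∃ r ∈ T', H.h r p ≠ 0)
    (hVnd : ∀ v : V, P.ok v 0 → v ≠ 0 → ∃ w, H.h v w ≠ 0) :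
    RadData r p j 2 (SG P) := by
  obtain ⟨hxi, hxok, -⟩ := SG_iso hxK
  have aux : ∀ T : Submodule F V, (∀ w ∈ T, x w ∈ T) →
      (∀ w ∈ T, ∃ w' ∈ T, (x ^ p ^ j) w' - w' = w) → (∀ u ∈ T, P.ok u 0) →
      (∀ u ∈ T, ∀ u' ∈ T, H.h u u' = 0) → (∀ u ∈ T, ∀ w ∈ M, H.h u w = 0) →
      rad P T (T ⊔ M) ≤ SG P ∧ Pair p j x (rad P T (T ⊔ M)) ∧
        IsPGroup r (rad P T (T ⊔ M)) := by
    intro T hxT hsurj hTs hTT hTM
    have hTW : ∀ u ∈ T, ∀ w ∈ T ⊔ M, H.h u w = 0 := by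
      intro u hu w hw
      obtain ⟨t, ht, m, hm, rfl⟩ := Submodule.mem_sup.1 hw
      rw [H.add_right, hTT u hu t ht, hTM u hu m hm, add_zero]
    obtain ⟨A, B, hAB, hle⟩ := rad_le_flagU (P₁ := P) hTT hTW
    refine ⟨?_, ⟨nilpotent_of_le_flagU (r := r) hAB hle, ?_, ?_⟩,
      isPGroup_of_le_flagU (r := r) hAB hle⟩
    · apply rad_le
      intro u w c hu hw huT hwW hwc
      exact sie_mem_SG P hu hw (hTs u huT) hwc
    · apply mem_normalizer_of_conj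
      refine rad_conj hxi hxok hxT ?_
      intro w hw
      obtain ⟨t, ht, m, hm, rfl⟩ := Submodule.mem_sup.1 hw
      rw [map_add, hxM m hm]
      exact Submodule.add_mem_sup (hxT t ht) hm
    · exact radI_commFull (isIso_pow hxi _) (pow_ok hxok _) (pow_mem_sub hxT _)
        (pow_fix hxM _) hsurj hTs hTT hTM hnd
  obtain ⟨a1, a2, a3⟩ := aux T hxT hsurj hTs hTT hTM
  obtain ⟨b1, b2, b3⟩ := aux T' hxT' hsurj' hTs' hTT' hTM'
  refine ⟨x, k, Bool, inferInstance, fun b : Bool => cond b (rad P T (T ⊔ M))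
    (rad P T' (T' ⊔ M)), hxK, hx, ?_, ?_, ?_, by rw [Fintype.card_bool], ?_⟩
  · rintro (_ | _)
    · exact b1
    · exact a1
  · rintro (_ | _)
    · exact b2
    · exact a2
  · rintro (_ | _)
    · exact b3
    · exact a3
  · refine radI_gen (T := T) (T' := T') (M := M) ?_ ?_ htop hTs hTT hTs' hTT' hTM hTM' hnd
      hpair hVnd
    · intro g hg
      apply Subgroup.subset_closure
      right
      rw [Set.mem_iUnion]
      exact ⟨true, hg⟩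
    · intro g hg
      apply Subgroup.subset_closure
      right
      rw [Set.mem_iUnion]
      exact ⟨false, hg⟩

end

end Cfsg.Agent.H110.Fpr
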