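import Cfsg.Agent.H110.Fpr.Even

/-!
# Four-dimensional symplectic groups in characteristic two
-/

set_option autoImplicit false
set_option linter.unusedSimpArgs false

namespace Cfsg.Agent.H110.Fpr

open Cfsg.Agent.TitsThree.Siegel Cfsg.Agent.TitsThree.SiegelGen Cfsg.Agent.H398.FPR
open Cfsg.Agent.H409

variable {F : Type*} [Field F] {V : Type*} [AddCommGroup V] [Module F V]
variable {H : HForm F V} {P : PQ H}

/-- adding a multiple of `u` to `w` changes nothing -/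
theorem sie_add_self (hA : Alt2 H) (u w : V) (c a : F) (hu : H.h u u = 0) (hw : H.h u w = 0)
    (hw' : H.h u (w + a • u) = 0) : H.sie u (w + a • u) c hu hw' = H.sie u w c hu hw := by
  rw [H.sie_add_smul u w c a hu hw]
  apply H.sie_congr _ _ _ _ rfl rfl
  rw [hA.eps, hA.sig, inv_one, one_mul]; ring

/-- modification of a quadratic function -/
theorem exists_hypq [Finite F] (hA : Alt2 H) {q : V → F} (hq : IsQ2 H q) {u1 u2 : V}
    (h12 : H.h u1 u2 ≠ 0) :
    ∃ q' : V → F, IsQ2 H q' ∧ q' u1 = 0 ∧ q' u2 = 0 ∧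
      ∀ m, H.h m u1 = 0 → H.h m u2 = 0 → q' m = q m := by
  obtain ⟨a, ha⟩ := exists_sq hA.two (q u1)
  obtain ⟨b, hb⟩ := exists_sq hA.two (q u2)
  have h21 : H.h u2 u1 = H.h u1 u2 := hA.comm _ _
  refine ⟨fun v => q v + (a / H.h u1 u2 * H.h v u2 + b / H.h u1 u2 * H.h v u1) ^ 2,
    ⟨fun v w => ?_, fun s v => ?_⟩, ?_, ?_, ?_⟩
  · rw [hq.add, H.add_left, H.add_left]
    have h2 := hA.two
    linear_combination ((a / H.h u1 u2 * H.h v u2 + b / H.h u1 u2 * H.h v u1) *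
      (a / H.h u1 u2 * H.h w u2 + b / H.h u1 u2 * H.h w u1)) * h2
  · rw [hq.smul, H.smul_left, H.smul_left]
    ring
  · change q u1 + (a / H.h u1 u2 * H.h u1 u2 + b / H.h u1 u2 * H.h u1 u1) ^ 2 = 0
    rw [hA.alt, mul_zero, add_zero, div_mul_cancel₀ _ h12, ha]
    exact hA.add_self _
  · change q u2 + (a / H.h u1 u2 * H.h u2 u2 + b / H.h u1 u2 * H.h u2 u1) ^ 2 = 0
    rw [hA.alt, mul_zero, zero_add, h21, div_mul_cancel₀ _ h12, hb]
    exact hA.add_self _
  · intro m h1 h2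
    change q m + (a / H.h u1 u2 * H.h m u2 + b / H.h u1 u2 * H.h m u1) ^ 2 = q m
    rw [h1, h2]
    ring

/-- The orthogonal group generated by two of the radicals. -/
theorem SG_P2_le [Finite F] (hA : Alt2 H) {q q' : V → F} (hq' : IsQ2 H q')
    {V1 : Submodule F V} {u1 u2 : V} (h12 : H.h u1 u2 ≠ 0)
    (hm1 : ∀ m ∈ V1, H.h m u1 = 0) (hm2 : ∀ m ∈ V1, H.h m u2 = 0)
    (htop : ∀ v : V, ∃ m ∈ V1, ∃ s t : F, v = m + (s • u1 + t • u2))
    (hu1 : q' u1 = 0) (hu2 : q' u2 = 0) (hqq : ∀ m ∈ V1, q' m = q m)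
    (hND : ∀ v : V, v ≠ 0 → ∃ w, H.h v w ≠ 0)
    {D : Subgroup (V ≃ₗ[F] V)}
    (hD1 : ∀ m ∈ V1, ∀ (h1 : H.h u1 u1 = 0) (h2 : H.h u1 m = 0), H.sie u1 m (q m) h1 h2 ∈ D)
    (hD2 : ∀ m ∈ V1, ∀ (h1 : H.h u2 u2 = 0) (h2 : H.h u2 m = 0), H.sie u2 m (q m) h1 h2 ∈ D) :
    SG (P2 hA hq') ≤ D := by
  have h21 : H.h u2 u1 = H.h u1 u2 := hA.comm _ _
  refine all_of_pair (P := P2 hA hq') (p := u1) (r := u2) ?_ ?_ hu1.symm hu2.symm
    (by rw [h21]; exact h12) (fun v _ hv => hND v hv)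
  · intro w c h1 hw _ hc
    rw [P2_ok] at hc
    obtain ⟨m, hm, s, t, rfl⟩ := htop w
    have hu1m : H.h u1 m = 0 := H.orth_symm (hm1 m hm)
    have ht : t = 0 := by
      rw [H.add_right, H.add_right, H.smul_right, H.smul_right, hu1m, hA.alt, hA.sig, hA.sig,
        mul_zero, zero_add, zero_add] at hw
      exact (mul_eq_zero.1 hw).resolve_right h12
    subst ht
    have e1 : m + (s • u1 + (0 : F) • u2) = m + s • u1 := by rw [zero_smul, add_zero]
    have hw2 : H.h u1 (m + s • u1) = 0 := by rw [← e1]; exact hw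
    rw [H.sie_congr h1 hw h1 hw2 rfl e1 rfl, sie_add_self hA u1 m c s h1 hu1m hw2]
    have hc2 : c = q m := by
      rw [hc, e1, hq'.add, hq'.smul, hu1, hqq m hm, H.smul_right, hm1 m hm]
      ring
    rw [hc2]
    exact hD1 m hm h1 hu1m
  · intro w c h1 hw _ hc
    rw [P2_ok] at hc
    obtain ⟨m, hm, s, t, rfl⟩ := htop w
    have hu2m : H.h u2 m = 0 := H.orth_symm (hm2 m hm)
    have hs : s = 0 := by
      rw [H.add_right, H.add_right, H.smul_right, H.smul_right, hu2m, hA.alt, hA.sig, hA.sig,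
        mul_zero, zero_add, add_zero, h21] at hw
      exact (mul_eq_zero.1 hw).resolve_right h12
    subst hs
    have e1 : m + ((0 : F) • u1 + t • u2) = m + t • u2 := by rw [zero_smul, zero_add]
    have hw2 : H.h u2 (m + t • u2) = 0 := by rw [← e1]; exact hw
    rw [H.sie_congr h1 hw h1 hw2 rfl e1 rfl, sie_add_self hA u2 m c t h1 hu2m hw2]
    have hc2 : c = q m := by
      rw [hc, e1, hq'.add, hq'.smul, hu2, hqq m hm, H.smul_right, hm2 m hm]
      ring
    rw [hc2]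
    exact hD2 m hm h1 hu2m

/-- **Three radicals give the transvections.** -/
theorem zt_three [Finite F] (hF4 : 3 ≤ Nat.card F) (hA : Alt2 H) {q : V → F} (hq : IsQ2 H q)
    {V1 : Submodule F V} {u1 u2 u3 : V} (h12 : H.h u1 u2 ≠ 0)
    (hm1 : ∀ m ∈ V1, H.h m u1 = 0) (hm2 : ∀ m ∈ V1, H.h m u2 = 0)
    (htop : ∀ v : V, ∃ m ∈ V1, ∃ s t : F, v = m + (s • u1 + t • u2))
    {α β : F} (hα : α ≠ 0) (hβ : β ≠ 0) (hu3 : u3 = α • u1 + β • u2)
    (hND : ∀ v : V, v ≠ 0 → ∃ w, H.h v w ≠ 0)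
    (hnd : ∃ m ∈ V1, ∃ m' ∈ V1, H.h m m' ≠ 0)
    {D : Subgroup (V ≃ₗ[F] V)}
    (hD1 : ∀ m ∈ V1, ∀ (h1 : H.h u1 u1 = 0) (h2 : H.h u1 m = 0), H.sie u1 m (q m) h1 h2 ∈ D)
    (hD2 : ∀ m ∈ V1, ∀ (h1 : H.h u2 u2 = 0) (h2 : H.h u2 m = 0), H.sie u2 m (q m) h1 h2 ∈ D)
    (hD3 : ∀ m ∈ V1, ∀ (h1 : H.h u3 u3 = 0) (h2 : H.h u3 m = 0), H.sie u3 m (q m) h1 h2 ∈ D) :
    Zt P D {0} u3 := by
  obtain ⟨q', hq', hu1, hu2, hqq⟩ := exists_hypq hA hq h12
  have hqq' : ∀ m ∈ V1, q' m = q m := fun m hm => hqq m (hm1 m hm) (hm2 m hm)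
  have hSG := SG_P2_le hA hq' h12 hm1 hm2 htop hu1 hu2 hqq' hND hD1 hD2
  have hm3 : ∀ m ∈ V1, H.h m u3 = 0 := by
    intro m hm
    rw [hu3, H.add_right, H.smul_right, H.smul_right, hm1 m hm, hm2 m hm]; ring
  obtain ⟨ρ, hρ⟩ : ∃ ρ, ρ = q' u3 := ⟨_, rfl⟩
  have hρ0 : ρ ≠ 0 := by
    rw [hρ, hu3, hq'.add, hq'.smul, hq'.smul, hu1, hu2, H.smul_left, H.smul_right, hA.sig,
      mul_zero, mul_zero, add_zero, zero_add]
    exact mul_ne_zero hα (mul_ne_zero hβ h12)
  obtain ⟨m1, hm1', m0, hm0, hη⟩ := hnd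
  obtain ⟨μ, hμ⟩ := exists_sq hA.two (q m0 / ρ)
  have hμρ : μ ^ 2 * ρ = q m0 := by rw [hμ, div_mul_cancel₀ _ hρ0]
  -- the scalar `s`
  obtain ⟨s, hs0, hs1⟩ : ∃ s : F, s ≠ 0 ∧ 1 + s * ρ * μ ≠ 0 := by
    classical
    have := Fintype.ofFinite F
    rw [Nat.card_eq_fintype_card, ← Finset.card_univ] at hF4
    by_cases hμ0 : ρ * μ = 0
    · refine ⟨1, one_ne_zero, ?_⟩
      rw [mul_assoc, hμ0, mul_zero, add_zero]
      exact one_ne_zero
    · obtain ⟨s, hs⟩ : ∃ s : F, s ∉ ({0, (ρ * μ)⁻¹} : Finset F) := by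
        by_contra hcon
        push Not at hcon
        have h1 : (Finset.univ : Finset F) ⊆ {0, (ρ * μ)⁻¹} := fun s _ => hcon s
        have h2 := Finset.card_le_card h1
        have h3 : Finset.card ({0, (ρ * μ)⁻¹} : Finset F) ≤ 2 := Finset.card_le_two
        omega
      rw [Finset.mem_insert, Finset.mem_singleton, not_or] at hs
      refine ⟨s, hs.1, fun h => hs.2 ?_⟩
      apply eq_inv_of_mul_eq_one_left
      have h4 := hA.neg (s * ρ * μ)
      have h5 : s * ρ * μ = 1 := by rw [← h4]; linear_combination -h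
      rw [← h5]; ring
  -- the singular vector `v` and the element `g`
  obtain ⟨v, hv⟩ : ∃ v, v = m0 + μ • u3 := ⟨_, rfl⟩
  have hqv : q' v = 0 := by
    rw [hv, hq'.add, hq'.smul, hqq' m0 hm0, H.smul_right, hm3 m0 hm0, ← hρ, hμρ, mul_zero,
      add_zero]
    exact hA.add_self _
  have hvs : H.h v (s • u3) = 0 := by
    rw [hv, H.smul_right, H.add_left, H.smul_left, hm3 m0 hm0, hA.alt]; ring
  have hg : H.sie v (s • u3) (s ^ 2 * ρ) (hA.alt v) hvs ∈ D := by
    apply hSG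
    apply sie_mem_SG
    · exact hqv.symm
    · rw [P2_ok, hq'.smul, hρ]
  have hokg : ∀ y d, (P2 hA hq').ok y d →
      (P2 hA hq').ok (H.sie v (s • u3) (s ^ 2 * ρ) (hA.alt v) hvs y) d := by
    intro y d hy
    refine (P2 hA hq').ok_sie _ _ hqv.symm ?_ hy
    rw [P2_ok, hq'.smul, hρ]
  have hgi : H.IsIso (H.sie v (s • u3) (s ^ 2 * ρ) (hA.alt v) hvs) := by
    refine (P2 hA hq').isIso_sie _ _ ?_
    rw [P2_ok, hq'.smul, hρ]
  intro w c h33 hw0 hw _
  rw [Set.mem_singleton_iff] at hw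
  subst hw
  obtain ⟨l, hl⟩ := exists_sq hA.two (c / ρ)
  have hlρ : l ^ 2 * ρ = c := by rw [hl, div_mul_cancel₀ _ hρ0]
  -- the vector `m`
  obtain ⟨m, hmdef⟩ : ∃ m, m = (l / (H.h m1 m0 * s * (1 + s * ρ * μ))) • m1 := ⟨_, rfl⟩
  have hm : m ∈ V1 := hmdef ▸ V1.smul_mem _ hm1'
  obtain ⟨η, hηdef⟩ : ∃ η, η = H.h m m0 := ⟨_, rfl⟩
  have hηl : η * s * (1 + s * ρ * μ) = l := by
    rw [hηdef, hmdef, H.smul_left]
    field_simp
  have hmv : H.h m v = η := by
    rw [hv, H.add_right, H.smul_right, hm3 m hm, mul_zero, add_zero, hηdef]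
  have h3m : H.h u3 m = 0 := H.orth_symm (hm3 m hm)
  have h3v : H.h u3 v = 0 := by
    rw [hv, H.add_right, H.smul_right, hA.alt, H.orth_symm (hm3 m0 hm0)]; ring
  obtain ⟨m', hm'def⟩ : ∃ m', m' = m + (s ^ 2 * ρ * η) • m0 := ⟨_, rfl⟩
  have hm' : m' ∈ V1 := by rw [hm'def]; exact V1.add_mem hm (V1.smul_mem _ hm0)
  have e1 : H.sie v (s • u3) (s ^ 2 * ρ) (hA.alt v) hvs u3 = u3 := by
    rw [H.sie_apply, h3v, H.smul_right, hA.alt]; simp
  have e2 : H.sie v (s • u3) (s ^ 2 * ρ) (hA.alt v) hvs m = m' + l • u3 := by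
    rw [H.sie_apply, hmv, H.smul_right, hm3 m hm, hm'def, ← hηl, hv]
    module
  have h3m' : H.h u3 m' = 0 := H.orth_symm (hm3 m' hm')
  have h4 : H.h u3 (m' + l • u3) = 0 := by rw [H.add_right, H.smul_right, h3m', hA.alt]; ring
  have k1 := conj_mem hg hgi h33 h3m (hD3 m hm h33 h3m) h33 h4 e1 e2
  rw [sie_add_self hA u3 m' (q m) l h33 h3m' h4] at k1
  have k2 := hD3 m' hm' h33 h3m'
  have k3 := D.mul_mem k1 (D.inv_mem k2)
  rw [H.sie_inv, H.sie_mul] at k3
  rwa [H.sie_congr _ _ h33 hw0 rfl (add_neg_cancel m') (c' := c)] at k3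
  -- the scalar
  have h5 := hokg m (q' m) rfl
  rw [P2_ok, e2, hq'.add, hq'.smul, hqq' m hm, hqq' m' hm', H.smul_right, hm3 m' hm',
    mul_zero, add_zero, ← hρ, hlρ] at h5
  rw [h5, hA.alt, H.neg_left, hA.alt, hA.eps, inv_one]
  ring

/-- An explicit element on a hyperbolic plane. -/
theorem exists_quad {t : F} {e f : V} (se : P.ok e 0) (sf : P.ok f 0)
    (hef : H.h e f = 1) {b c : F} (hb : P.ok 0 b) (hc : P.ok 0 c) (hbc : H.ε * b * c = t - 2) :
    ∃ x ∈ SG P, IsQuad x (Submodule.span F {e, f}) t ∧ (∀ w ∈ perp H {e, f}, x w = w) ∧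
      Submodule.span F {e, f} ⊔ perp H {e, f} = (⊤ : Submodule F V) := by
  have hee := P.iso se
  have hff := P.iso sf
  have hfe : H.h f e = H.ε := by rw [H.swap e f, hef, map_one, mul_one]
  have hε := H.ε_ne
  obtain ⟨x, hx⟩ : ∃ x, x = H.sie e 0 b hee (H.zero_right e) * H.sie f 0 c hff (H.zero_right f) :=
    ⟨_, rfl⟩
  have hxK : x ∈ SG P := by
    rw [hx]
    exact mul_mem (sie_mem_SG P _ _ se hb) (sie_mem_SG P _ _ sf hc)
  have app : ∀ v, x v = H.sie e 0 b hee (H.zero_right e) (H.sie f 0 c hff (H.zero_right f) v) := by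
    intro v; rw [hx]; rfl
  have xe : x e = (t - 1) • e + c • f := by
    rw [app]
    simp only [H.sie_apply, H.add_left, H.sub_left, H.smul_left, H.zero_right, hef, hee, hfe,
      smul_zero, zero_smul, mul_zero, add_zero, sub_zero, mul_one, zero_add]
    have e1 : b * (c * H.ε) = t - 2 := by rw [← hbc]; ring
    rw [e1]
    module
  have xf : x f = f + (b * H.ε) • e := by
    rw [app]
    simp only [H.sie_apply, H.add_left, H.sub_left, H.smul_left, H.zero_right, hff, hfe,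
      smul_zero, zero_smul, mul_zero, add_zero, sub_zero]
  refine ⟨x, hxK, ?_, ?_, ?_⟩
  · have m0 : e ∈ Submodule.span F ({e, f} : Set V) :=
      Submodule.subset_span (Set.mem_insert _ _)
    have m1 : f ∈ Submodule.span F ({e, f} : Set V) :=
      Submodule.subset_span (Set.mem_insert_of_mem _ rfl)
    have e2 : b * H.ε * c = t - 2 := by rw [← hbc]; ring
    apply IsQuad.of_span
    · rintro w (rfl | rfl)
      · rw [xe]; exact Submodule.add_mem _ (Submodule.smul_mem _ _ m0) (Submodule.smul_mem _ _ m1)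
      · rw [xf]; exact Submodule.add_mem _ m1 (Submodule.smul_mem _ _ m0)
    · rintro w (rfl | rfl)
      · simp only [xe, xf, map_add, map_smul, smul_add, smul_smul, mul_comm c, e2]
        match_scalars <;> ring
      · simp only [xe, xf, map_add, map_smul, smul_add, smul_smul, e2]
        match_scalars <;> ring
  · intro w hw
    have w0 : H.h w e = 0 := hw e (by simp)
    have w1 : H.h w f = 0 := hw f (by simp)
    have a1 : H.sie f 0 c hff (H.zero_right f) w = w := by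
      rw [H.sie_apply, w1, H.zero_right]; simp
    rw [app, a1, H.sie_apply, w0, H.zero_right]; simp
  · rw [eq_top_iff]
    intro v _
    obtain ⟨m, hm⟩ : ∃ m, m = v - (H.h v f • e + (H.ε⁻¹ * H.h v e) • f) := ⟨_, rfl⟩
    have hv : v = (H.h v f • e + (H.ε⁻¹ * H.h v e) • f) + m := by rw [hm]; abel
    rw [hv]
    refine Submodule.add_mem_sup (Submodule.mem_span_pair.2 ⟨_, _, rfl⟩) ?_
    rw [hm]
    rintro u (rfl | rfl)
    · simp only [H.sub_left, H.add_left, H.smul_left, hee, hfe]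
      field_simp
      ring
    · simp only [H.sub_left, H.add_left, H.smul_left, hef, hff]
      ring

/-- **`Sp₄(2^a)`, `a ≥ 2`, and primes dividing `q² - 1`.** -/
theorem row_four [Finite F] [Finite V] (hF4 : 4 ≤ Nat.card F) (hA : Alt2 H)
    (hPall : ∀ w c, P.ok w c) {q : V → F} (hq : IsQ2 H q) {p : ℕ} (hp : p.Prime) (hp2 : p ≠ 2)
    (hd : p ∣ (Nat.card F) ^ 2 - 1) (hND : ∀ v : V, v ≠ 0 → ∃ w, H.h v w ≠ 0)
    {e f e0 f0 : V} (hef : H.h e f = 1) (hef0 : H.h e0 f0 = 1)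
    (hperp : perp H {e, f} = Submodule.span F {e0, f0}) :
    FprRow (2 * p - 1) (p - 1) p (SG P) := by
  have hodd : Odd p := hp.odd_of_ne_two hp2
  have hpF : (p : F) ≠ 0 := by
    obtain ⟨k, hk⟩ := hodd
    rw [hk]
    push_cast
    rw [hA.two, zero_mul, zero_add]
    exact one_ne_zero
  have hch : CharP F 2 := CharTwo.of_one_ne_zero_of_two_eq_zero one_ne_zero hA.two
  obtain ⟨t, j, k, hj, ht⟩ := exists_good2 (F := F) hp hpF hd
  obtain ⟨x, hxK, hquad, hx2, htop⟩ := exists_quad (P := P) (t := t) (e := e) (f := f)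
    (hPall _ _) (hPall _ _) hef (b := t - 2) (c := 1) (hPall _ _) (hPall _ _)
    (by rw [hA.eps]; ring)
  obtain ⟨hxi, hxok, -⟩ := SG_iso hxK
  have hxp : x ^ p ^ k = 1 := by
    ext v
    have hv : v ∈ Submodule.span F {e, f} ⊔ perp H {e, f} := by rw [htop]; trivial
    obtain ⟨a, ha, d, hd, rfl⟩ := Submodule.mem_sup.1 hv
    rw [map_add, hquad.pow_eq ht a ha, pow_fix hx2 _ d hd]
    rfl
  obtain ⟨q', hq', hq'x⟩ := exists_inv hA (hodd.pow) hxp hxi hq
  obtain ⟨V1, hV1⟩ : ∃ V1, V1 = Submodule.span F ({e, f} : Set V) := ⟨_, rfl⟩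
  rw [← hV1] at hquad htop
  have hfe0 : H.h f0 e0 = 1 := by rw [hA.comm e0 f0, hef0]
  have horth : ∀ m ∈ V1, ∀ v ∈ Submodule.span F {e0, f0}, H.h m v = 0 := by
    intro m hm v hv
    rw [← hperp] at hv
    rw [hV1] at hm
    exact perp_orth m hm v hv
  -- the lines
  obtain ⟨u, hu⟩ : ∃ u : F → V, u = fun s => e0 + s • f0 := ⟨_, rfl⟩
  have hu2 : ∀ s, u s ∈ Submodule.span F ({e0, f0} : Set V) := by
    intro s
    rw [hu]
    exact Submodule.add_mem _ (Submodule.subset_span (by simp))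
      (Submodule.smul_mem _ _ (Submodule.subset_span (by simp)))
  have huu : ∀ s s', H.h (u s) (u s') = s + s' := by
    intro s s'
    rw [hu]
    simp only [H.add_left, H.add_right, H.smul_left, H.smul_right, hA.alt, hA.sig, hef0, hfe0]
    ring
  have hune : ∀ s s', s ≠ s' → H.h (u s) (u s') ≠ 0 := by
    intro s s' hne h
    rw [huu] at h
    apply hne
    have := hA.neg s'
    rw [← this]
    exact eq_neg_of_add_eq_zero_left h
  -- four parameters
  obtain ⟨ps, hps⟩ : ∃ ps : Fin 4 → F, Function.Injective ps := by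
    have := Fintype.ofFinite F
    rw [Nat.card_eq_fintype_card] at hF4
    obtain ⟨g⟩ := Function.Embedding.nonempty_of_card_le (α := Fin 4) (β := F) (by simpa using hF4)
    exact ⟨g, g.injective⟩
  have hnd : ∃ m ∈ V1, ∃ m' ∈ V1, H.h m m' ≠ 0 := by
    refine ⟨e, hV1 ▸ Submodule.subset_span (by simp), f, hV1 ▸ Submodule.subset_span (by simp), ?_⟩
    rw [hef]
    exact one_ne_zero
  have hT1 : ∀ i, ∀ y ∈ Submodule.span F {u (ps i)}, ∀ w ∈ V1, H.h y w = 0 := by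
    intro i y hy w hw
    obtain ⟨s, rfl⟩ := Submodule.mem_span_singleton.1 hy
    rw [H.smul_left, H.orth_symm (horth w hw _ (hu2 _)), mul_zero]
  have hTT : ∀ i, ∀ y ∈ Submodule.span F {u (ps i)}, ∀ w ∈ Submodule.span F {u (ps i)},
      H.h y w = 0 := fun i => span_orth (by rintro y rfl w rfl; exact hA.alt _)
  refine row_of_gen (A := V ≃ₗ[F] V) hp hxK hxp
    (fun i : Fin 4 => rad (P2 hA hq') (Submodule.span F {u (ps i)}) V1) (j := j) ?_ ?_ 2
    two_pos ?_ ?_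
  · intro i
    apply rad_le
    intro y w c hy hw _ _ _
    exact sie_mem_SG P hy hw (hPall _ _) (hPall _ _)
  · intro i
    obtain ⟨A, B, hAB, hle⟩ := rad_le_flagU (P₁ := P2 hA hq') (hTT i) (hT1 i)
    have hfixu : ∀ y ∈ Submodule.span F {u (ps i)}, x y = y := by
      intro y hy
      apply hx2
      rw [hperp]
      exact (Submodule.span_singleton_le_iff_mem _ _).2 (hu2 _) hy
    have hok1 : ∀ w c, (P2 hA hq').ok w c → (P2 hA hq').ok (x w) c := by
      intro w c hc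
      rw [P2_ok] at hc ⊢
      rw [hq'x]; exact hc
    refine ⟨nilpotent_of_le_flagU (r := 2) hAB hle, ?_, ?_⟩
    · apply mem_normalizer_of_conj
      exact rad_conj hxi hok1 (fun y hy => by rw [hfixu y hy]; exact hy) hquad.inv
    · refine rad_commFull (isIso_pow hxi _) (pow_ok hok1 _) ?_ (pow_mem_sub hquad.inv _)
        (hquad.surj ht) (hT1 i) (P2_lam hA hq') hnd
      intro y hy
      exact pow_fix hfixu _ y hy
  · intro J hJ
    rw [Fintype.card_fin] at hJ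
    obtain ⟨D, hD⟩ : ∃ D, D = Subgroup.closure
      ({x} ∪ ⋃ i ∈ J, ((rad (P2 hA hq') (Submodule.span F {u (ps i)}) V1 :
        Subgroup (V ≃ₗ[F] V)) : Set (V ≃ₗ[F] V))) := ⟨_, rfl⟩
    rw [← hD]
    have hDi : ∀ i ∈ J, ∀ m ∈ V1, ∀ (h1 : H.h (u (ps i)) (u (ps i)) = 0)
        (h2 : H.h (u (ps i)) m = 0), H.sie (u (ps i)) m (q' m) h1 h2 ∈ D := by
      intro i hi m hm h1 h2
      rw [hD]
      apply Subgroup.subset_closure
      right
      rw [Set.mem_iUnion₂]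
      exact ⟨i, hi, sie_mem_rad h1 h2 (Submodule.mem_span_singleton_self _) hm rfl⟩
    -- three indices
    obtain ⟨a, ha, b, hb, c, hc, hab, hac, hbc⟩ : ∃ a ∈ J, ∃ b ∈ J, ∃ c ∈ J,
        a ≠ b ∧ a ≠ c ∧ b ≠ c := by
      have h3 : 2 < J.ncard := by omega
      rw [Set.two_lt_ncard (Set.toFinite _)] at h3
      exact h3
    have hpab := hps.ne hab
    have hpac := hps.ne hac
    have hpbc := hps.ne hbc
    have dec : ∀ s s' s'' : F, s ≠ s' → s'' ≠ s → s'' ≠ s' → ∃ α β : F, α ≠ 0 ∧ β ≠ 0 ∧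
        u s'' = α • u s + β • u s' := by
      intro s s' s'' h1 h2 h3
      have h4 : s - s' ≠ 0 := sub_ne_zero.2 h1
      refine ⟨(s'' - s') / (s - s'), (s - s'') / (s - s'), div_ne_zero (sub_ne_zero.2 h3) h4,
        div_ne_zero (sub_ne_zero.2 (Ne.symm h2)) h4, ?_⟩
      rw [hu]
      change e0 + s'' • f0 = ((s'' - s') / (s - s')) • (e0 + s • f0) +
        ((s - s'') / (s - s')) • (e0 + s' • f0)
      match_scalars <;> field_simp <;> ring
    have tops : ∀ s s' : F, s ≠ s' → ∀ v : V, ∃ m ∈ V1, ∃ α β : F,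
        v = m + (α • u s + β • u s') := by
      intro s s' h1 v
      have h4 : s - s' ≠ 0 := sub_ne_zero.2 h1
      have hv : v ∈ V1 ⊔ perp H {e, f} := by rw [htop]; trivial
      obtain ⟨m, hm, w, hw, rfl⟩ := Submodule.mem_sup.1 hv
      rw [hperp] at hw
      obtain ⟨y, z, rfl⟩ := Submodule.mem_span_pair.1 hw
      refine ⟨m, hm, (z - y * s') / (s - s'), (y * s - z) / (s - s'), ?_⟩
      rw [hu]
      change m + (y • e0 + z • f0) = m + (((z - y * s') / (s - s')) • (e0 + s • f0) +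
        ((y * s - z) / (s - s')) • (e0 + s' • f0))
      match_scalars <;> field_simp <;> ring
    have hm1 : ∀ s, ∀ m ∈ V1, H.h m (u s) = 0 := fun s m hm => horth m hm _ (hu2 s)
    have z : ∀ i ∈ J, ∀ i' ∈ J, ∀ i'' ∈ J, i ≠ i' → i'' ≠ i → i'' ≠ i' →
        Zt P D {0} (u (ps i'')) := by
      intro i hi i' hi' i'' hi'' h1 h2 h3
      obtain ⟨α, β, hα, hβ, hαβ⟩ := dec (ps i) (ps i') (ps i'') (hps.ne h1) (hps.ne h2) (hps.ne h3)
      exact zt_three (by omega) hA hq' (hune _ _ (hps.ne h1)) (hm1 _) (hm1 _)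
        (tops _ _ (hps.ne h1)) hα hβ hαβ hND hnd (hDi i hi) (hDi i' hi') (hDi i'' hi'')
    have z1 := z b hb c hc a ha hbc hab hac
    have z2 := z a ha c hc b hb hac (Ne.symm hab) hbc
    have zz : ∀ i ∈ J, ∀ i' ∈ J, i ≠ i' → Zt P D {0} (u (ps i)) →
        Zt P D Set.univ (u (ps i)) := by
      intro i hi i' hi' h1 hz w d h2 hw _ _
      obtain ⟨m, hm, α, β, rfl⟩ := tops (ps i) (ps i') (hps.ne h1) w
      have hum : H.h (u (ps i)) m = 0 := H.orth_symm (hm1 _ m hm)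
      have hβ : β = 0 := by
        rw [H.add_right, H.add_right, H.smul_right, H.smul_right, hum, hA.alt, hA.sig, hA.sig,
          mul_zero, zero_add, zero_add] at hw
        exact (mul_eq_zero.1 hw).resolve_right (hune _ _ (hps.ne h1))
      subst hβ
      have e1 : m + (α • u (ps i) + (0 : F) • u (ps i')) = m + α • u (ps i) := by
        rw [zero_smul, add_zero]
      have hw2 : H.h (u (ps i)) (m + α • u (ps i)) = 0 := by rw [← e1]; exact hw
      rw [H.sie_congr h2 hw h2 hw2 rfl e1 rfl, sie_add_self hA _ m d α h2 hum hw2]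
      have k1 := hDi i hi m hm h2 hum
      have k2 := hz 0 (d - q' m) h2 (H.zero_right _) rfl (hPall _ _)
      have k3 := D.mul_mem k1 k2
      rwa [H.sie_mul, H.sie_congr _ _ h2 hum rfl (add_zero m) (c' := d)
        (by rw [H.zero_left]; ring)] at k3
    exact all_of_pair (zz a ha b hb hab z1) (zz b hb a ha (Ne.symm hab) z2) (hPall _ _)
      (hPall _ _) (hune _ _ hpab.symm) (fun v _ hv => hND v hv)
  · rw [Fintype.card_fin]
    have h3 : 3 ≤ p := by
      have := hp.two_le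
      omega
    have h4 : 1 ≤ p ^ j := Nat.one_le_pow _ _ hp.pos
    have h5 : 2 * 2 * 1 ≤ (p - 1) * 2 * p ^ j := Nat.mul_le_mul (by omega) h4
    omega

end Cfsg.Agent.H110.Fpr
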