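import Cfsg.Agent.H110.Fpr.Data
import Cfsg.Agent.H110.Fpr.Four

/-!
# Radical data for primes dividing `q² - 1`
-/

set_option autoImplicit false
set_option linter.unusedSimpArgs false

namespace Cfsg.Agent.H110.Fpr

open Cfsg.Agent.TitsThree.Siegel Cfsg.Agent.TitsThree.SiegelGen Cfsg.Agent.H398.FPR
open Cfsg.Agent.H409

variable {F : Type*} [Field F] {V : Type*} [AddCommGroup V] [Module F V]
variable {H : HForm F V} {P : PQ H}

theorem exists_good2' [Finite F] {p : ℕ} (hp : p.Prime) (hpF : (p : F) ≠ 0)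
    (hd : p ∣ (Nat.card F) ^ 2 - 1) :
    ∃ (t : F) (j k : ℕ), (p = 2 → 1 ≤ j) ∧ (p ≠ 2 → j = 0) ∧ Good2 p j k t := by
  classical
  have := Fintype.ofFinite F
  rcases eq_or_ne p 2 with rfl | hp2
  · refine ⟨0, 1, 2, fun _ => le_rfl, fun h => absurd rfl h, ?_, ?_⟩
    · norm_num [lu]
    · have h2 : (2 : F) ≠ 0 := by exact_mod_cast hpF
      norm_num [lu]
      intro h4
      apply h2
      have h5 : (2 : F) * 2 = 0 := by rw [← h4]; norm_num
      exact (mul_self_eq_zero.1 h5)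
  -- an element of order `p` in `SL₂`
  have hdvd : p ∣ Nat.card (Matrix.SpecialLinearGroup (Fin 2) F) := by
    rw [Cfsg.Agent.ClassicalGeometry.PSL2Basic.card_SL2]
    rw [← Nat.card_eq_fintype_card]
    exact hd.mul_left _
  have := Fact.mk hp
  obtain ⟨Y, hY⟩ := exists_prime_orderOf_dvd_card' p hdvd
  obtain ⟨t, ht⟩ : ∃ t, t = (Y : Matrix (Fin 2) (Fin 2) F).trace := ⟨_, rfl⟩
  have hdet : (Y : Matrix (Fin 2) (Fin 2) F).det = 1 := Y.2
  have hquad : (Y : Matrix (Fin 2) (Fin 2) F) * (Y : Matrix (Fin 2) (Fin 2) F) =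
      t • (Y : Matrix (Fin 2) (Fin 2) F) - 1 := by
    rw [Matrix.det_fin_two] at hdet
    rw [Matrix.trace_fin_two] at ht
    ext a b
    fin_cases a <;> fin_cases b <;>
      simp [Matrix.mul_apply, Fin.sum_univ_two, ht] <;>
      first | ring1 | linear_combination -hdet
  have hpow : (Y : Matrix (Fin 2) (Fin 2) F) ^ p = 1 := by
    have h1 := pow_orderOf_eq_one Y
    rw [hY] at h1
    have h2 := congrArg (fun Z : Matrix.SpecialLinearGroup (Fin 2) F =>
      (Z : Matrix (Fin 2) (Fin 2) F)) h1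
    simpa using h2
  have hY1 : Y ≠ 1 := by
    intro h
    rw [h, orderOf_one] at hY
    exact hp.one_lt.ne hY
  have h3 := lu_ring hquad p
  rw [hpow] at h3
  have ha : (lu t p).1 = 0 := by
    by_contra ha
    -- `Y` is scalar
    obtain ⟨s, hs⟩ : ∃ s : F, (Y : Matrix (Fin 2) (Fin 2) F) = s • 1 := by
      refine ⟨(lu t p).1⁻¹ * (1 - (lu t p).2), ?_⟩
      have h4 : (lu t p).1 • (Y : Matrix (Fin 2) (Fin 2) F) = (1 - (lu t p).2) • 1 := by
        rw [sub_smul, one_smul, eq_sub_iff_add_eq]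
        exact h3.symm
      rw [mul_smul, ← h4, smul_smul, inv_mul_cancel₀ ha, one_smul]
    have hs2 : s ^ 2 = 1 := by
      rw [hs, Matrix.det_smul, Matrix.det_one, mul_one, Fintype.card_fin] at hdet
      exact hdet
    have hsp : s ^ p = 1 := by
      rw [hs, smul_pow, one_pow] at hpow
      have h5 := congrFun (congrFun hpow 0) 0
      simpa using h5
    have hs1 : s = 1 := by
      have h5 : orderOf s ∣ 2 := orderOf_dvd_of_pow_eq_one hs2
      have h6 : orderOf s ∣ p := orderOf_dvd_of_pow_eq_one hsp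
      have h7 : Nat.Coprime 2 p := (Nat.coprime_primes Nat.prime_two hp).2 hp2.symm
      have h8 : orderOf s = 1 := Nat.eq_one_of_dvd_coprimes h7 h5 h6
      exact orderOf_eq_one_iff.1 h8
    apply hY1
    ext a b
    rw [hs, hs1, one_smul]
    rfl
  have hb : (lu t p).2 = 1 := by
    rw [ha, zero_smul, zero_add] at h3
    have h5 := congrFun (congrFun h3 0) 0
    simpa using h5.symm
  refine ⟨t, 0, 1, fun h => absurd h hp2, fun _ => rfl, ?_, ?_⟩
  · rw [pow_one]; exact Prod.ext ha hb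
  · rw [pow_zero]
    have h6 : lu t 1 = (1, 0) := by simp [lu]
    rw [h6]
    intro h7
    have h8 : t = 2 := by
      have : (1 : F) ^ 2 + 1 * (0 - 1) * t + (0 - 1) ^ 2 = 2 - t := by ring
      have h9 : 2 - t = 0 := this ▸ h7
      exact (sub_eq_zero.1 h9).symm
    rw [h8, lu_two] at ha
    exact hpF ha

/-- **Type I, explicit.** -/
theorem data_I_explicit [Finite V] {r : ℕ} [Fact r.Prime] [CharP F r] {p j k : ℕ}
    {t : F} (ht : Good2 p j k t) {e0 e1 f0 f1 : V}
    (se0 : P.ok e0 0) (se1 : P.ok e1 0) (sf0 : P.ok f0 0) (sf1 : P.ok f1 0)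
    (h00 : H.h e0 f0 = 1) (h11 : H.h e1 f1 = 1) (h01 : H.h e0 f1 = 0) (h10 : H.h e1 f0 = 0)
    (hee : H.h e0 e1 = 0) (hff : H.h f0 f1 = 0)
    (hnd : ∃ m ∈ perp H {e0, e1, f0, f1}, ∃ m' ∈ perp H {e0, e1, f0, f1}, H.h m m' ≠ 0)
    (hVnd : ∀ v : V, P.ok v 0 → v ≠ 0 → ∃ w, H.h v w ≠ 0) :
    RadData r p j 2 (SG P) := by
  have e00 := P.iso se0
  have e11 := P.iso se1
  have f00 := P.iso sf0
  have f11 := P.iso sf1
  have hee' : H.h e1 e0 = 0 := H.orth_symm hee
  have hff' : H.h f1 f0 = 0 := H.orth_symm hff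
  have h01' : H.h f1 e0 = 0 := H.orth_symm h01
  have h10' : H.h f0 e1 = 0 := H.orth_symm h10
  have h00' : H.h f0 e0 = H.ε := by rw [H.swap e0 f0, h00, map_one, mul_one]
  have h11' : H.h f1 e1 = H.ε := by rw [H.swap e1 f1, h11, map_one, mul_one]
  have hε := H.ε_ne
  obtain ⟨b, hb⟩ : ∃ b, b = H.σ (-(H.ε * (t - 2))) := ⟨_, rfl⟩
  obtain ⟨c, hc⟩ : ∃ c, c = H.σ (-H.ε) := ⟨_, rfl⟩
  have hb1 : H.h e0 (b • f1) = 0 := by rw [H.smul_right, h01, mul_zero]
  have hc1 : H.h e1 (c • f0) = 0 := by rw [H.smul_right, h10, mul_zero]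
  have hσb : H.σ b = -(H.ε * (t - 2)) := by rw [hb, H.σσ]
  have hσc : H.σ c = -H.ε := by rw [hc, H.σσ]
  have hεb : H.ε * b = -H.σ (t - 2) := by
    rw [hb, map_neg, map_mul, H.σε]
    field_simp
  have hεc : H.ε * c = -1 := by
    rw [hc, map_neg, H.σε]
    field_simp
  obtain ⟨x, hx⟩ : ∃ x, x = H.sie e0 (b • f1) 0 e00 hb1 * H.sie e1 (c • f0) 0 e11 hc1 := ⟨_, rfl⟩
  have hxK : x ∈ SG P := by
    rw [hx]
    exact mul_mem (sie_mem_SG P _ _ se0 (P.sing_smul sf1 b))
      (sie_mem_SG P _ _ se1 (P.sing_smul sf0 c))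
  have app : ∀ v, x v = H.sie e0 (b • f1) 0 e00 hb1 (H.sie e1 (c • f0) 0 e11 hc1 v) := by
    intro v; rw [hx]; rfl
  have i1 : H.ε⁻¹ * H.ε = 1 := inv_mul_cancel₀ hε
  -- action on the four vectors
  have xe0 : x e0 = (t - 1) • e0 + e1 := by
    rw [app]
    simp only [H.sie_apply, H.add_left, H.sub_left, H.smul_left, H.smul_right, hee, h00, e00,
      h01, hee', h10, e11, h11, hσb, hσc]
    have i2 : H.ε⁻¹ * (-H.ε * 1) = -1 := by rw [mul_one, mul_neg, i1]
    simp only [i2]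
    match_scalars <;> field_simp <;> ring
  have xe1 : x e1 = e1 + (t - 2) • e0 := by
    rw [app]
    simp only [H.sie_apply, H.add_left, H.sub_left, H.smul_left, H.smul_right, hee, h00, e00,
      h01, hee', h10, e11, h11, hσb, hσc]
    match_scalars <;> field_simp <;> ring
  have xf0 : x f0 = f0 - H.σ (t - 2) • f1 := by
    rw [app]
    simp only [H.sie_apply, H.add_left, H.sub_left, H.smul_left, H.smul_right, h10', f00, hff,
      h00', mul_zero, zero_smul, add_zero, sub_zero, zero_mul, smul_smul, hεb]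
    module
  have xf1 : x f1 = f1 - f0 + H.σ (t - 2) • f1 := by
    rw [app]
    simp only [H.sie_apply, H.add_left, H.sub_left, H.smul_left, H.smul_right, h10', f00, hff,
      h00', h11', h01', hff', f11, mul_zero, zero_smul, add_zero, sub_zero, zero_mul, smul_smul,
      hεb, hεc, add_zero, zero_add]
    match_scalars <;> first | ring1 | linear_combination -hεb
  have qT : IsQuad x (Submodule.span F {e0, e1}) t := by
    have m0 : e0 ∈ Submodule.span F ({e0, e1} : Set V) :=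
      Submodule.subset_span (Set.mem_insert _ _)
    have m1 : e1 ∈ Submodule.span F ({e0, e1} : Set V) :=
      Submodule.subset_span (Set.mem_insert_of_mem _ rfl)
    apply IsQuad.of_span
    · rintro w (rfl | rfl)
      · rw [xe0]; exact Submodule.add_mem _ (Submodule.smul_mem _ _ m0) m1
      · rw [xe1]; exact Submodule.add_mem _ m1 (Submodule.smul_mem _ _ m0)
    · rintro w (rfl | rfl)
      · simp only [xe0, xe1, map_add, map_smul]; module
      · simp only [xe0, xe1, map_add, map_smul]; module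
  have qT' : IsQuad x (Submodule.span F {f0, f1}) (H.σ t) := by
    have m0 : f0 ∈ Submodule.span F ({f0, f1} : Set V) :=
      Submodule.subset_span (Set.mem_insert _ _)
    have m1 : f1 ∈ Submodule.span F ({f0, f1} : Set V) :=
      Submodule.subset_span (Set.mem_insert_of_mem _ rfl)
    have hσt : H.σ (t - 2) = H.σ t - 2 := by rw [map_sub, map_ofNat]
    rw [hσt] at xf0 xf1
    apply IsQuad.of_span
    · rintro w (rfl | rfl)
      · rw [xf0]; exact Submodule.sub_mem _ m0 (Submodule.smul_mem _ _ m1)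
      · rw [xf1]
        exact Submodule.add_mem _ (Submodule.sub_mem _ m1 m0) (Submodule.smul_mem _ _ m1)
    · rintro w (rfl | rfl)
      · simp only [xf0, xf1, map_add, map_sub, map_smul]; module
      · simp only [xf0, xf1, map_add, map_sub, map_smul]; module
  have ht' : Good2 p j k (H.σ t) := ht.map (H.σ : F →+* F)
  have xM : ∀ w ∈ perp H {e0, e1, f0, f1}, x w = w := by
    intro w hw
    have w0 : H.h w e0 = 0 := hw e0 (by simp)
    have w1 : H.h w e1 = 0 := hw e1 (by simp)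
    have w2 : H.h w f0 = 0 := hw f0 (by simp)
    have w3 : H.h w f1 = 0 := hw f1 (by simp)
    have a1 : H.sie e1 (c • f0) 0 e11 hc1 w = w := by
      rw [H.sie_apply, w1, H.smul_right, w2]; simp
    rw [app, a1, H.sie_apply, w0, H.smul_right, w3]; simp
  have htop : Submodule.span F {e0, e1} ⊔ perp H {e0, e1, f0, f1} ⊔ Submodule.span F {f0, f1} =
      (⊤ : Submodule F V) := by
    rw [eq_top_iff]
    intro v _
    obtain ⟨m, hm⟩ : ∃ m, m = v - (H.h v f0 • e0 + H.h v f1 • e1 +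
      ((H.ε⁻¹ * H.h v e0) • f0 + (H.ε⁻¹ * H.h v e1) • f1)) := ⟨_, rfl⟩
    have hv : v = (H.h v f0 • e0 + H.h v f1 • e1) + m +
        ((H.ε⁻¹ * H.h v e0) • f0 + (H.ε⁻¹ * H.h v e1) • f1) := by rw [hm]; abel
    rw [hv]
    refine Submodule.add_mem_sup (Submodule.add_mem_sup ?_ ?_) ?_
    · exact Submodule.mem_span_pair.2 ⟨_, _, rfl⟩
    · rw [hm]
      rintro u (rfl | rfl | rfl | rfl)
      · simp only [H.sub_left, H.add_left, H.smul_left, e00, hee', h00', h01']
        field_simp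
        ring
      · simp only [H.sub_left, H.add_left, H.smul_left, e11, hee, h10', h11']
        field_simp
        ring
      · simp only [H.sub_left, H.add_left, H.smul_left, h00, h10, f00, hff']
        ring
      · simp only [H.sub_left, H.add_left, H.smul_left, h01, h11, f11, hff]
        ring
    · exact Submodule.mem_span_pair.2 ⟨_, _, rfl⟩
  have hTT : ∀ u ∈ ({e0, e1} : Set V), ∀ v ∈ ({e0, e1} : Set V), H.h u v = 0 := by
    rintro u (rfl | rfl) v (rfl | rfl) <;> assumption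
  have hTT' : ∀ u ∈ ({f0, f1} : Set V), ∀ v ∈ ({f0, f1} : Set V), H.h u v = 0 := by
    rintro u (rfl | rfl) v (rfl | rfl) <;> assumption
  refine data_I (r := r) hxK (k := k) ?_ htop qT.inv qT'.inv xM (qT.surj ht)
    (qT'.surj ht') (span_sing hTT ?_) (span_orth hTT) (span_sing hTT' ?_) (span_orth hTT')
    ?_ ?_ hnd ⟨e0, Submodule.subset_span (by simp), f0, Submodule.subset_span (by simp), ?_⟩ hVnd
  · ext v
    have hv : v ∈ Submodule.span F {e0, e1} ⊔ perp H {e0, e1, f0, f1} ⊔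
        Submodule.span F {f0, f1} := by rw [htop]; trivial
    obtain ⟨y, hy, d, hd, rfl⟩ := Submodule.mem_sup.1 hv
    obtain ⟨a, ha, m, hm, rfl⟩ := Submodule.mem_sup.1 hy
    rw [map_add, map_add, qT.pow_eq ht a ha, qT'.pow_eq ht' d hd, pow_fix xM _ m hm]
    rfl
  · rintro u (rfl | rfl) <;> assumption
  · rintro u (rfl | rfl) <;> assumption
  · intro u hu w hw
    exact perp_orth u hu w (perp_anti (by
      rintro a (rfl | rfl) <;> simp) hw)
  · intro u hu w hw
    exact perp_orth u hu w (perp_anti (by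
      rintro a (rfl | rfl) <;> simp) hw)
  · rw [h00']; exact hε

/-- **Type IV, explicit**, with two radicals. -/
theorem data_IV_explicit [Finite V] {r : ℕ} [Fact r.Prime] [CharP F r] {p j k : ℕ}
    {t : F} (ht : Good2 p j k t) {e f : V} (se : P.ok e 0) (sf : P.ok f 0)
    (hef : H.h e f = 1) {b c : F} (hb : P.ok 0 b) (hc : P.ok 0 c) (hbc : H.ε * b * c = t - 2)
    (hlam : ∀ c, P.ok 0 c → ∃ m, c = m - H.ε⁻¹ * H.σ m)
    {T T' : Submodule F V} (hspan : perp H {e, f} = T ⊔ T')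
    (hTs : ∀ u ∈ T, P.ok u 0) (hTT : ∀ u ∈ T, ∀ u' ∈ T, H.h u u' = 0)
    (hTs' : ∀ u ∈ T', P.ok u 0) (hTT' : ∀ u ∈ T', ∀ u' ∈ T', H.h u u' = 0)
    (hpair : ∃ u ∈ T, ∃ u' ∈ T', H.h u u' ≠ 0)
    (hVnd : ∀ v : V, P.ok v 0 → v ≠ 0 → ∃ w, H.h v w ≠ 0) :
    RadData r p j 2 (SG P) := by
  have hee := P.iso se
  have hff := P.iso sf
  have hfe : H.h f e = H.ε := by rw [H.swap e f, hef, map_one, mul_one]
  have hε := H.ε_ne
  obtain ⟨x, hx⟩ : ∃ x, x = H.sie e 0 b hee (H.zero_right e) * H.sie f 0 c hff (H.zero_right f) :=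
    ⟨_, rfl⟩
  have hxK : x ∈ SG P := by
    rw [hx]
    exact mul_mem (sie_mem_SG P _ _ se hb) (sie_mem_SG P _ _ sf hc)
  have app : ∀ v, x v = H.sie e 0 b hee (H.zero_right e) (H.sie f 0 c hff (H.zero_right f) v) := by
    intro v; rw [hx]; rfl
  have xe : x e = (t - 1) • e + c • f := by
    rw [app]
    simp only [H.sie_apply, H.add_left, H.sub_left, H.smul_left, H.zero_right, hef, hee, hfe,
      smul_zero, zero_smul, mul_zero, add_zero, sub_zero, mul_one, zero_add]
    have e1 : b * (c * H.ε) = t - 2 := by rw [← hbc]; ring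
    rw [e1]
    module
  have xf : x f = f + (b * H.ε) • e := by
    rw [app]
    simp only [H.sie_apply, H.add_left, H.sub_left, H.smul_left, H.zero_right, hff, hfe,
      smul_zero, zero_smul, mul_zero, add_zero, sub_zero]
  have qT : IsQuad x (Submodule.span F {e, f}) t := by
    have m0 : e ∈ Submodule.span F ({e, f} : Set V) :=
      Submodule.subset_span (Set.mem_insert _ _)
    have m1 : f ∈ Submodule.span F ({e, f} : Set V) :=
      Submodule.subset_span (Set.mem_insert_of_mem _ rfl)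
    have e2 : b * H.ε * c = t - 2 := by rw [← hbc]; ring
    apply IsQuad.of_span
    · rintro w (rfl | rfl)
      · rw [xe]; exact Submodule.add_mem _ (Submodule.smul_mem _ _ m0) (Submodule.smul_mem _ _ m1)
      · rw [xf]; exact Submodule.add_mem _ m1 (Submodule.smul_mem _ _ m0)
    · rintro w (rfl | rfl)
      · simp only [xe, xf, map_add, map_smul, smul_add, smul_smul, mul_comm c, e2]
        match_scalars <;> ring
      · simp only [xe, xf, map_add, map_smul, smul_add, smul_smul, e2]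
        match_scalars <;> ring
  have x2 : ∀ w ∈ perp H {e, f}, x w = w := by
    intro w hw
    have w0 : H.h w e = 0 := hw e (by simp)
    have w1 : H.h w f = 0 := hw f (by simp)
    have a1 : H.sie f 0 c hff (H.zero_right f) w = w := by
      rw [H.sie_apply, w1, H.zero_right]; simp
    rw [app, a1, H.sie_apply, w0, H.zero_right]; simp
  have htop : Submodule.span F {e, f} ⊔ perp H {e, f} = (⊤ : Submodule F V) := by
    rw [eq_top_iff]
    intro v _
    obtain ⟨m, hm⟩ : ∃ m, m = v - (H.h v f • e + (H.ε⁻¹ * H.h v e) • f) := ⟨_, rfl⟩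
    have hv : v = (H.h v f • e + (H.ε⁻¹ * H.h v e) • f) + m := by rw [hm]; abel
    rw [hv]
    refine Submodule.add_mem_sup (Submodule.mem_span_pair.2 ⟨_, _, rfl⟩) ?_
    rw [hm]
    rintro u (rfl | rfl)
    · simp only [H.sub_left, H.add_left, H.smul_left, hee, hfe]
      field_simp
      ring
    · simp only [H.sub_left, H.add_left, H.smul_left, hef, hff]
      ring
  have hT2 : T ≤ perp H {e, f} := hspan ▸ le_sup_left
  have hT2' : T' ≤ perp H {e, f} := hspan ▸ le_sup_right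
  obtain ⟨u, hu, u', hu', huu'⟩ := hpair
  refine data_IV_min (r := r) (j := j) (k := k) hxK ?_ htop perp_orth qT.inv x2 (qT.surj ht)
    hlam (fun b : Bool => cond b T T') ?_ ?_ ?_ ?_
    ⟨true, u, hu, false, u', hu', huu'⟩ (a := e) (a' := f)
    (Submodule.subset_span (by simp)) se (Submodule.subset_span (by simp)) sf
    (by rw [hfe]; exact hε) hVnd
  · ext v
    have hv : v ∈ Submodule.span F {e, f} ⊔ perp H {e, f} := by rw [htop]; trivial
    obtain ⟨a, ha, d, hd, rfl⟩ := Submodule.mem_sup.1 hv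
    rw [map_add, qT.pow_eq ht a ha, pow_fix x2 _ d hd]
    rfl
  · rintro (_ | _)
    · exact hT2'
    · exact hT2
  · rintro (_ | _)
    · exact hTs'
    · exact hTs
  · rintro (_ | _)
    · exact hTT'
    · exact hTT
  · rw [hspan]
    exact sup_le (le_iSup (fun b : Bool => cond b T T') true)
      (le_iSup (fun b : Bool => cond b T T') false)

/-- **Type I** for all primes dividing `q² - 1` in dimension at least five. -/
theorem data_small [Finite F] [Finite V] {r : ℕ} [Fact r.Prime] [CharP F r] {p : ℕ}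
    (hp : p.Prime) (hpF : (p : F) ≠ 0) (hd : p ∣ (Nat.card F) ^ 2 - 1) {κ : ℕ} (hκ3 : κ ≤ 3)
    (hκ : ∀ A : Submodule F V, κ ≤ Module.finrank F A → ∃ w ∈ A, w ≠ 0 ∧ P.ok w 0)
    (hND : ∀ v : V, v ≠ 0 → ∃ w, H.h v w ≠ 0) (hdim : 5 ≤ Module.finrank F V) :
    ∃ j, (p = 2 → 1 ≤ j) ∧ (p ≠ 2 → j = 0) ∧ RadData r p j 2 (SG P) := by
  obtain ⟨t, j, k, hj, hj2, ht⟩ := exists_good2' (F := F) hp hpF hd
  refine ⟨j, hj, hj2, ?_⟩
  have hnd0 : ∀ v ∈ (⊤ : Submodule F V), v ≠ 0 → ∃ w ∈ (⊤ : Submodule F V), H.h v w ≠ 0 := by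
    intro v _ hv
    obtain ⟨w, hw⟩ := hND v hv
    exact ⟨w, trivial, hw⟩
  have hfr : Module.finrank F (⊤ : Submodule F V) = Module.finrank F V := finrank_top F V
  obtain ⟨e0, he0, he0n, se0⟩ := hκ ⊤ (by omega)
  obtain ⟨f0, hf0, sf0, h00⟩ := exists_hyp hnd0 he0 se0 he0n
  obtain ⟨hnd1, hd1⟩ := split_hyp hnd0 he0 hf0 se0 sf0 h00
  rw [top_inf_eq] at hnd1 hd1
  obtain ⟨e1, he1, he1n, se1⟩ := hκ (perp H {e0, f0}) (by omega)
  obtain ⟨f1, hf1, sf1, h11⟩ := exists_hyp hnd1 he1 se1 he1n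
  obtain ⟨hnd2, hd2⟩ := split_hyp hnd1 he1 hf1 se1 sf1 h11
  have he1e : H.h e1 e0 = 0 := he1 e0 (by simp)
  have he1f : H.h e1 f0 = 0 := he1 f0 (by simp)
  have hf1e : H.h f1 e0 = 0 := hf1 e0 (by simp)
  have hf1f : H.h f1 f0 = 0 := hf1 f0 (by simp)
  have hperp : perp H {e0, f0} ⊓ perp H {e1, f1} = perp H {e0, e1, f0, f1} := by
    ext w
    rw [Submodule.mem_inf, mem_perp, mem_perp, mem_perp]
    simp only [Set.mem_insert_iff, Set.mem_singleton_iff, forall_eq_or_imp, forall_eq]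
    tauto
  rw [hperp] at hnd2 hd2
  obtain ⟨m, hm, hm0⟩ : ∃ m ∈ perp H {e0, e1, f0, f1}, m ≠ 0 := by
    by_contra hcon
    push Not at hcon
    have : perp H {e0, e1, f0, f1} = ⊥ := by
      rw [eq_bot_iff]
      intro v hv
      exact hcon v hv
    rw [this, finrank_bot] at hd2
    omega
  obtain ⟨m', hm', hmm⟩ := hnd2 m hm hm0
  exact data_I_explicit (r := r) ht se0 se1 sf0 sf1 h00 h11 (H.orth_symm hf1e) he1f
    (H.orth_symm he1e) (H.orth_symm hf1f) ⟨m, hm, m', hm', hmm⟩ (fun v _ hv => hND v hv)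


/-- **`Sp₄(2^a)`, `a ≥ 2`, and primes dividing `q² - 1`.** -/
theorem data_four [Finite F] [Finite V] (hF4 : 4 ≤ Nat.card F) (hA : Alt2 H)
    (hPall : ∀ w c, P.ok w c) {q : V → F} (hq : IsQ2 H q) {p : ℕ} (hp : p.Prime) (hp2 : p ≠ 2)
    (hd : p ∣ (Nat.card F) ^ 2 - 1) (hND : ∀ v : V, v ≠ 0 → ∃ w, H.h v w ≠ 0)
    {e f e0 f0 : V} (hef : H.h e f = 1) (hef0 : H.h e0 f0 = 1)
    (hperp : perp H {e, f} = Submodule.span F {e0, f0}) :
    RadData 2 p 0 3 (SG P) := by
  have hodd : Odd p := hp.odd_of_ne_two hp2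
  have hpF : (p : F) ≠ 0 := by
    obtain ⟨k, hk⟩ := hodd
    rw [hk]
    push_cast
    rw [hA.two, zero_mul, zero_add]
    exact one_ne_zero
  have hch : CharP F 2 := CharTwo.of_one_ne_zero_of_two_eq_zero one_ne_zero hA.two
  obtain ⟨t, j, k, hj, hj0, ht⟩ := exists_good2' (F := F) hp hpF hd
  obtain rfl := hj0 hp2
  obtain ⟨x, hxK, hquad, hx2, htop⟩ := exists_quad (P := P) (t := t) (e := e) (f := f)
    (hPall _ _) (hPall _ _) hef (b := t - 2) (c := 1) (hPall _ _) (hPall _ _)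
    (by rw [hA.eps]; ring)
  obtain ⟨hxi, hxok, -⟩ := SG_iso hxK
  have hxp : x ^ p ^ k = 1 := by
    ext v
    have hv : v ∈ Submodule.span F {e, f} ⊔ perp H {e, f} := by rw [htop]; trivial
    obtain ⟨a, ha, d, hd, rfl⟩ := Submodule.mem_sup.1 hv
    rw [map_add, hquad.pow_eq ht a ha, pow_fix hx2 _ d hd]
    rfl
  obtain ⟨q', hq', hq'x⟩ := exists_inv hA (hodd.pow) hxp hxi hq
  obtain ⟨V1, hV1⟩ : ∃ V1, V1 = Submodule.span F ({e, f} : Set V) := ⟨_, rfl⟩
  rw [← hV1] at hquad htop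
  have hfe0 : H.h f0 e0 = 1 := by rw [hA.comm e0 f0, hef0]
  have horth : ∀ m ∈ V1, ∀ v ∈ Submodule.span F {e0, f0}, H.h m v = 0 := by
    intro m hm v hv
    rw [← hperp] at hv
    rw [hV1] at hm
    exact perp_orth m hm v hv
  -- the lines
  obtain ⟨u, hu⟩ : ∃ u : F → V, u = fun s => e0 + s • f0 := ⟨_, rfl⟩
  have hu2 : ∀ s, u s ∈ Submodule.span F ({e0, f0} : Set V) := by
    intro s
    rw [hu]
    exact Submodule.add_mem _ (Submodule.subset_span (by simp))
      (Submodule.smul_mem _ _ (Submodule.subset_span (by simp)))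
  have huu : ∀ s s', H.h (u s) (u s') = s + s' := by
    intro s s'
    rw [hu]
    simp only [H.add_left, H.add_right, H.smul_left, H.smul_right, hA.alt, hA.sig, hef0, hfe0]
    ring
  have hune : ∀ s s', s ≠ s' → H.h (u s) (u s') ≠ 0 := by
    intro s s' hne h
    rw [huu] at h
    apply hne
    have := hA.neg s'
    rw [← this]
    exact eq_neg_of_add_eq_zero_left h
  -- four parameters
  obtain ⟨ps, hps⟩ : ∃ ps : Fin 3 → F, Function.Injective ps := by
    have := Fintype.ofFinite F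
    rw [Nat.card_eq_fintype_card] at hF4
    obtain ⟨g⟩ := Function.Embedding.nonempty_of_card_le (α := Fin 3) (β := F) (by
      rw [Fintype.card_fin]; omega)
    exact ⟨g, g.injective⟩
  have hnd : ∃ m ∈ V1, ∃ m' ∈ V1, H.h m m' ≠ 0 := by
    refine ⟨e, hV1 ▸ Submodule.subset_span (by simp), f, hV1 ▸ Submodule.subset_span (by simp), ?_⟩
    rw [hef]
    exact one_ne_zero
  have hT1 : ∀ i, ∀ y ∈ Submodule.span F {u (ps i)}, ∀ w ∈ V1, H.h y w = 0 := by
    intro i y hy w hw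
    obtain ⟨s, rfl⟩ := Submodule.mem_span_singleton.1 hy
    rw [H.smul_left, H.orth_symm (horth w hw _ (hu2 _)), mul_zero]
  have hTT : ∀ i, ∀ y ∈ Submodule.span F {u (ps i)}, ∀ w ∈ Submodule.span F {u (ps i)},
      H.h y w = 0 := fun i => span_orth (by rintro y rfl w rfl; exact hA.alt _)
  refine ⟨x, k, Fin 3, inferInstance, fun i : Fin 3 => rad (P2 hA hq')
    (Submodule.span F {u (ps i)}) V1, hxK, hxp, ?_, ?_, ?_, by rw [Fintype.card_fin], ?_⟩
  · intro i
    apply rad_le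
    intro y w c hy hw _ _ _
    exact sie_mem_SG P hy hw (hPall _ _) (hPall _ _)
  · intro i
    obtain ⟨A, B, hAB, hle⟩ := rad_le_flagU (P₁ := P2 hA hq') (hTT i) (hT1 i)
    have hfixu : ∀ y ∈ Submodule.span F {u (ps i)}, x y = y := by
      intro y hy
      apply hx2
      rw [hperp]
      exact (Submodule.span_singleton_le_iff_mem _ _).2 (hu2 _) hy
    have hok1 : ∀ w c, (P2 hA hq').ok w c → (P2 hA hq').ok (x w) c := by
      intro w c hc
      rw [P2_ok] at hc ⊢
      rw [hq'x]; exact hc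
    refine ⟨nilpotent_of_le_flagU (r := 2) hAB hle, ?_, ?_⟩
    · apply mem_normalizer_of_conj
      exact rad_conj hxi hok1 (fun y hy => by rw [hfixu y hy]; exact hy) hquad.inv
    · refine rad_commFull (isIso_pow hxi _) (pow_ok hok1 _) ?_ (pow_mem_sub hquad.inv _)
        (hquad.surj ht) (hT1 i) (P2_lam hA hq') hnd
      intro y hy
      exact pow_fix hfixu _ y hy
  · intro i
    obtain ⟨A, B, hAB, hle⟩ := rad_le_flagU (P₁ := P2 hA hq') (hTT i) (hT1 i)
    exact isPGroup_of_le_flagU (r := 2) hAB hle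
  · obtain ⟨D, hD⟩ : ∃ D, D = Subgroup.closure
      ({x} ∪ ⋃ i, ((rad (P2 hA hq') (Submodule.span F {u (ps i)}) V1 :
        Subgroup (V ≃ₗ[F] V)) : Set (V ≃ₗ[F] V))) := ⟨_, rfl⟩
    rw [← hD]
    obtain ⟨J, hJ⟩ : ∃ J : Set (Fin 3), J = Set.univ := ⟨_, rfl⟩
    have hDi : ∀ i ∈ J, ∀ m ∈ V1, ∀ (h1 : H.h (u (ps i)) (u (ps i)) = 0)
        (h2 : H.h (u (ps i)) m = 0), H.sie (u (ps i)) m (q' m) h1 h2 ∈ D := by
      intro i _ m hm h1 h2
      rw [hD]
      apply Subgroup.subset_closure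
      right
      rw [Set.mem_iUnion]
      exact ⟨i, sie_mem_rad h1 h2 (Submodule.mem_span_singleton_self _) hm rfl⟩
    -- three indices
    obtain ⟨a, ha, b, hb, c, hc, hab, hac, hbc⟩ : ∃ a ∈ J, ∃ b ∈ J, ∃ c ∈ J,
        a ≠ b ∧ a ≠ c ∧ b ≠ c := by
      rw [hJ]
      exact ⟨0, trivial, 1, trivial, 2, trivial, by decide, by decide, by decide⟩
    have hpab := hps.ne hab
    have hpac := hps.ne hac
    have hpbc := hps.ne hbc
    have dec : ∀ s s' s'' : F, s ≠ s' → s'' ≠ s → s'' ≠ s' → ∃ α β : F, α ≠ 0 ∧ β ≠ 0 ∧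
        u s'' = α • u s + β • u s' := by
      intro s s' s'' h1 h2 h3
      have h4 : s - s' ≠ 0 := sub_ne_zero.2 h1
      refine ⟨(s'' - s') / (s - s'), (s - s'') / (s - s'), div_ne_zero (sub_ne_zero.2 h3) h4,
        div_ne_zero (sub_ne_zero.2 (Ne.symm h2)) h4, ?_⟩
      rw [hu]
      change e0 + s'' • f0 = ((s'' - s') / (s - s')) • (e0 + s • f0) +
        ((s - s'') / (s - s')) • (e0 + s' • f0)
      match_scalars <;> field_simp <;> ring
    have tops : ∀ s s' : F, s ≠ s' → ∀ v : V, ∃ m ∈ V1, ∃ α β : F,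
        v = m + (α • u s + β • u s') := by
      intro s s' h1 v
      have h4 : s - s' ≠ 0 := sub_ne_zero.2 h1
      have hv : v ∈ V1 ⊔ perp H {e, f} := by rw [htop]; trivial
      obtain ⟨m, hm, w, hw, rfl⟩ := Submodule.mem_sup.1 hv
      rw [hperp] at hw
      obtain ⟨y, z, rfl⟩ := Submodule.mem_span_pair.1 hw
      refine ⟨m, hm, (z - y * s') / (s - s'), (y * s - z) / (s - s'), ?_⟩
      rw [hu]
      change m + (y • e0 + z • f0) = m + (((z - y * s') / (s - s')) • (e0 + s • f0) +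
        ((y * s - z) / (s - s')) • (e0 + s' • f0))
      match_scalars <;> field_simp <;> ring
    have hm1 : ∀ s, ∀ m ∈ V1, H.h m (u s) = 0 := fun s m hm => horth m hm _ (hu2 s)
    have z : ∀ i ∈ J, ∀ i' ∈ J, ∀ i'' ∈ J, i ≠ i' → i'' ≠ i → i'' ≠ i' →
        Zt P D {0} (u (ps i'')) := by
      intro i hi i' hi' i'' hi'' h1 h2 h3
      obtain ⟨α, β, hα, hβ, hαβ⟩ := dec (ps i) (ps i') (ps i'') (hps.ne h1) (hps.ne h2) (hps.ne h3)
      exact zt_three (by omega) hA hq' (hune _ _ (hps.ne h1)) (hm1 _) (hm1 _)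
        (tops _ _ (hps.ne h1)) hα hβ hαβ hND hnd (hDi i hi) (hDi i' hi') (hDi i'' hi'')
    have z1 := z b hb c hc a ha hbc hab hac
    have z2 := z a ha c hc b hb hac (Ne.symm hab) hbc
    have zz : ∀ i ∈ J, ∀ i' ∈ J, i ≠ i' → Zt P D {0} (u (ps i)) →
        Zt P D Set.univ (u (ps i)) := by
      intro i hi i' hi' h1 hz w d h2 hw _ _
      obtain ⟨m, hm, α, β, rfl⟩ := tops (ps i) (ps i') (hps.ne h1) w
      have hum : H.h (u (ps i)) m = 0 := H.orth_symm (hm1 _ m hm)
      have hβ : β = 0 := by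
        rw [H.add_right, H.add_right, H.smul_right, H.smul_right, hum, hA.alt, hA.sig, hA.sig,
          mul_zero, zero_add, zero_add] at hw
        exact (mul_eq_zero.1 hw).resolve_right (hune _ _ (hps.ne h1))
      subst hβ
      have e1 : m + (α • u (ps i) + (0 : F) • u (ps i')) = m + α • u (ps i) := by
        rw [zero_smul, add_zero]
      have hw2 : H.h (u (ps i)) (m + α • u (ps i)) = 0 := by rw [← e1]; exact hw
      rw [H.sie_congr h2 hw h2 hw2 rfl e1 rfl, sie_add_self hA _ m d α h2 hum hw2]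
      have k1 := hDi i hi m hm h2 hum
      have k2 := hz 0 (d - q' m) h2 (H.zero_right _) rfl (hPall _ _)
      have k3 := D.mul_mem k1 k2
      rwa [H.sie_mul, H.sie_congr _ _ h2 hum rfl (add_zero m) (c' := d)
        (by rw [H.zero_left]; ring)] at k3
    exact all_of_pair (zz a ha b hb hab z1) (zz b hb a ha (Ne.symm hab) z2) (hPall _ _)
      (hPall _ _) (hune _ _ hpab.symm) (fun v _ hv => hND v hv)


end Cfsg.Agent.H110.Fpr
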