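import Cfsg.Agent.H110.Fpr.Small

/-!
# Symplectic groups in characteristic two
-/

set_option autoImplicit false
set_option linter.unusedSimpArgs false

namespace Cfsg.Agent.H110.Fpr

open Cfsg.Agent.TitsThree.Siegel Cfsg.Agent.TitsThree.SiegelGen Cfsg.Agent.H398.FPR
open Cfsg.Agent.H409

variable {F : Type*} [Field F] {V : Type*} [AddCommGroup V] [Module F V]
variable {H : HForm F V} {P : PQ H}

/-- quadratic functions polarising to `h` -/
structure IsQ2 (H : HForm F V) (q : V → F) : Prop where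
  add : ∀ v w, q (v + w) = q v + q w + H.h v w
  smul : ∀ (s : F) v, q (s • v) = s ^ 2 * q v

theorem IsQ2.zero {q : V → F} (hq : IsQ2 H q) : q 0 = 0 := by
  have := hq.smul 0 0
  simpa using this

/-- conditions on the form: alternating in characteristic two -/
structure Alt2 (H : HForm F V) : Prop where
  two : (2 : F) = 0
  eps : H.ε = 1
  sig : ∀ x, H.σ x = x
  alt : ∀ v, H.h v v = 0

theorem Alt2.add_self (hA : Alt2 H) (x : F) : x + x = 0 := by
  have := hA.two
  linear_combination x * this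

theorem Alt2.neg (hA : Alt2 H) (x : F) : -x = x := by
  have := hA.add_self x
  linear_combination -this

theorem Alt2.comm (hA : Alt2 H) (v w : V) : H.h w v = H.h v w := by
  rw [H.swap v w, hA.eps, hA.sig, one_mul]

/-- The pseudoquadratic structure of a quadratic function. -/
def P2 (hA : Alt2 H) {q : V → F} (hq : IsQ2 H q) : PQ H where
  ok w c := c = q w
  ex w := ⟨_, rfl⟩
  zero := hq.zero.symm
  rel := by
    rintro w c rfl
    rw [hA.eps, hA.sig, hA.alt, one_mul, hA.add_self, neg_zero]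
  add := by
    rintro w c w' c' rfl rfl
    rw [hq.add, hA.eps, inv_one, one_mul, hA.comm w w', sub_eq_add_neg, hA.neg]
  smul := by
    rintro w c a rfl
    rw [hA.sig, hq.smul]; ring
  lam := by
    rintro w c m rfl
    rw [hA.eps, hA.sig, inv_one, one_mul]; ring

theorem P2_ok (hA : Alt2 H) {q : V → F} (hq : IsQ2 H q) {w : V} {c : F} :
    (P2 hA hq).ok w c ↔ c = q w := Iff.rfl

theorem P2_lam (hA : Alt2 H) {q : V → F} (hq : IsQ2 H q) : ∀ c, (P2 hA hq).ok 0 c →
    ∃ m, c = m - H.ε⁻¹ * H.σ m := by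
  intro c hc
  rw [P2_ok, hq.zero] at hc
  exact ⟨0, by rw [hc]; simp⟩

/-- averaging -/
theorem exists_inv {p : ℕ} {x : V ≃ₗ[F] V} (hA : Alt2 H) (hp2 : Odd p) (hx : x ^ p = 1)
    (hxi : H.IsIso x) {q : V → F} (hq : IsQ2 H q) :
    ∃ q' : V → F, IsQ2 H q' ∧ ∀ v, q' (x v) = q' v := by
  have hpF : (p : F) = 1 := by
    obtain ⟨k, hk⟩ := hp2
    rw [hk]
    push_cast
    rw [hA.two, zero_mul, zero_add]
  refine ⟨fun v => ∑ i ∈ Finset.range p, q ((x ^ i) v), ⟨fun v w => ?_, fun s v => ?_⟩,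
    fun v => ?_⟩
  · have h1 : ∀ i, q ((x ^ i) (v + w)) = q ((x ^ i) v) + q ((x ^ i) w) + H.h v w := by
      intro i
      rw [map_add, hq.add, isIso_pow hxi i]
    simp only [h1]
    rw [Finset.sum_add_distrib, Finset.sum_add_distrib, Finset.sum_const, Finset.card_range,
      nsmul_eq_mul, hpF, one_mul]
  · have h1 : ∀ i, q ((x ^ i) (s • v)) = s ^ 2 * q ((x ^ i) v) := by
      intro i
      rw [map_smul, hq.smul]
    simp only [h1]
    rw [Finset.mul_sum]
  · have h1 : ∀ i, (x ^ i) (x v) = (x ^ (i + 1)) v := by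
      intro i; rw [pow_succ]; rfl
    simp only [h1]
    have h2 := Finset.sum_range_succ' (fun i => q ((x ^ i) v)) p
    have h3 := Finset.sum_range_succ (fun i => q ((x ^ i) v)) p
    rw [h3, hx, pow_zero] at h2
    exact (add_right_cancel h2).symm

/-- all elements are squares -/
theorem exists_sq [Finite F] (h2 : (2 : F) = 0) (c : F) : ∃ s : F, s ^ 2 = c := by
  have hch : CharP F 2 := CharTwo.of_one_ne_zero_of_two_eq_zero one_ne_zero h2
  have h1 : Function.Injective (frobenius F 2) := frobenius_inj F 2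
  obtain ⟨s, hs⟩ := (Finite.injective_iff_surjective.1 h1) c
  exact ⟨s, hs⟩

/-- **The row from a rank two subgroup, symplectic groups in characteristic two.** -/
theorem row_E2 [Finite F] [Finite V] (hA : Alt2 H) (hPall : ∀ w c, P.ok w c)
    {q : V → F} (hq : IsQ2 H q) (hκ : ∀ q : V → F, IsQ2 H q → ∀ A : Submodule F V,
      3 ≤ Module.finrank F A → ∃ w ∈ A, w ≠ 0 ∧ q w = 0) {p : ℕ} (hp : p.Prime)
    (hp5 : 5 ≤ p) (hpκ : ∀ i, 0 < i → i < 3 → ¬ p ∣ (Nat.card F) ^ i - 1)
    (hND : ∀ v : V, v ≠ 0 → ∃ w, H.h v w ≠ 0)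
    {a b : V ≃ₗ[F] V} (haK : a ∈ SG P) (hbK : b ∈ SG P) (hab : a * b = b * a)
    (ha : a ^ p = 1) (hb : b ^ p = 1) (hb1 : b ≠ 1) (hind : ∀ i : ℕ, a * b ^ i ≠ 1) :
    FprRow (2 * p - 1) (p - 1) p (SG P) := by
  have hodd : Odd p := hp.odd_of_ne_two (by omega)
  have hpF : (p : F) ≠ 0 := by
    obtain ⟨k, hk⟩ := hodd
    rw [hk]
    push_cast
    rw [hA.two, zero_mul, zero_add]
    exact one_ne_zero
  have hch : CharP F 2 := CharTwo.of_one_ne_zero_of_two_eq_zero one_ne_zero hA.two
  obtain ⟨i, v, hv, hbv⟩ := exists_fix_of_rank_two hp hpF hab ha hb hb1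
  obtain ⟨x, hx⟩ : ∃ x, x = a * b ^ i := ⟨_, rfl⟩
  rw [← hx] at hv
  have hx1 : x ≠ 1 := hx ▸ hind i
  have hxK : x ∈ SG P := hx ▸ mul_mem haK (pow_mem hbK i)
  have hxp : x ^ p = 1 := by
    have h1 : Commute a (b ^ i) := (show Commute a b from hab).pow_right i
    rw [hx, h1.mul_pow, ha, one_mul, ← pow_mul, mul_comm, pow_mul, hb, one_pow]
  have hxb : x * b = b * x := by
    rw [hx]
    exact (show Commute a b from hab).mul_left ((Commute.refl b).pow_left i)
  obtain ⟨hxi, hxok, -⟩ := SG_iso hxK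
  have hcardF := not_dvd_card hp hpF
  obtain ⟨nd1, nd2⟩ := nd_pieces hpF hxi hxp hND
  have d1 : 3 ≤ Module.finrank F (movS p x) :=
    le_finrank_of_moved hp hxp (movS_inv rfl) hpκ (exists_moved hpF hxp hx1) hcardF
  have hbfix : ∀ w ∈ fixS x, b w ∈ fixS x := by
    intro w hw
    rw [mem_fixS]
    have h1 : x (b w) = b (x w) := congrArg (fun g : V ≃ₗ[F] V => g w) hxb
    rw [h1, show x w = w from hw]
  have d2 : 3 ≤ Module.finrank F (fixS x) :=
    le_finrank_of_moved hp hb hbfix hpκ ⟨v, hv, hbv⟩ hcardF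
  -- the invariant quadratic form
  obtain ⟨q', hq', hq'x⟩ := exists_inv hA hodd hxp hxi hq
  obtain ⟨e, he, he0, hes⟩ := hκ q' hq' _ d1
  obtain ⟨f, hf, hfs, hef⟩ := exists_hyp (P := P2 hA hq') nd1 he (hes.symm) he0
  -- the totally isotropic subspaces
  obtain ⟨T, T', A, h1, h2, h3, h4, h5, h6, h7⟩ := witt (P := P) _ (fixS x) le_rfl nd2
  have hA0 : A = ⊥ := by
    rw [eq_bot_iff]
    intro u hu
    exact (Submodule.mem_bot F).2 (h6 u hu (hPall _ _))
  rw [hA0, sup_bot_eq] at h1
  obtain ⟨w0, hw0, hw0n, -⟩ := hκ q' hq' _ d2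
  obtain ⟨u, hu, u', hu', huu', -⟩ := h7 ⟨w0, hw0, hw0n, hPall _ _⟩
  have hTf : T ≤ fixS x := by rw [h1]; exact le_sup_left
  have hTf' : T' ≤ fixS x := by rw [h1]; exact le_sup_right
  refine row_IV (r := 2) (P₁ := P2 hA hq') (j := 0) (k := 1) hp hxK (by rw [pow_one]; exact hxp)
    (fun w c hc => by rw [P2_ok] at hc ⊢; rw [hq'x]; exact hc) (fun w c _ => hPall w c)
    (fixS_sup_movS hxp hpF) (orth_mov_fix hpF hxi) (movS_inv rfl) (fun w hw => hw) ?_
    (P2_lam hA hq') ![T, T', Submodule.span F {u + u'}] ?_ ?_ (fun i u _ => hPall _ _) ?_ ?_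
    ⟨0, u, hu, 1, u', hu', by rw [huu']; exact one_ne_zero⟩ he hes.symm hf hfs
    (fun h => ?_) ?_ (fun v _ hv0 => hND v hv0)
  · rw [pow_zero, pow_one]
    exact movS_surj hpF
  · rw [Fintype.card_fin, pow_zero, mul_one]
    omega
  · intro i
    fin_cases i
    · exact hTf
    · exact hTf'
    · change Submodule.span F {u + u'} ≤ fixS x
      rw [Submodule.span_singleton_le_iff_mem]
      exact (fixS x).add_mem (hTf hu) (hTf' hu')
  · intro i
    fin_cases i
    · exact h3
    · exact h5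
    · change ∀ y ∈ Submodule.span F {u + u'}, ∀ y' ∈ Submodule.span F {u + u'}, H.h y y' = 0
      refine span_orth ?_
      rintro y rfl y' rfl
      exact hA.alt _
  · rw [h1]
    exact sup_le (le_iSup (fun i => (![T, T', Submodule.span F {u + u'}] : Fin 3 → _) i) 0)
      (le_iSup (fun i => (![T, T', Submodule.span F {u + u'}] : Fin 3 → _) i) 1)
  · rw [H.orth_symm h] at hef
    exact zero_ne_one hef
  · -- all the transvections
    intro D hD
    have key : ∀ a ∈ movS p x, q' a = 0 → Zt P D {0} a := by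
      intro a ha haq w c haa haw hw _
      rw [Set.mem_singleton_iff] at hw
      subst hw
      have hRt : ∀ (i : Fin 3) (y : V),
          y ∈ (![T, T', Submodule.span F {u + u'}] : Fin 3 → Submodule F V) i →
          H.h a y = 0 → Rt H D a y := by
        intro i y hy hay
        refine Rt.symm (hA.alt y) haa (H.orth_symm hay) ?_
        intro s hyy hys
        refine hD i (sie_mem_rad hyy hys hy ((movS p x).smul_mem _ ha) ?_)
        exact (P2 hA hq').sing_smul (by rw [P2_ok, haq]) s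
      have hau : H.h a u = 0 := orth_mov_fix hpF hxi a ha u (hTf hu)
      have hau' : H.h a u' = 0 := orth_mov_fix hpF hxi a ha u' (hTf' hu')
      have hauu : H.h a (u + u') = 0 := by rw [H.add_right, hau, hau', add_zero]
      obtain ⟨s, hs⟩ := exists_sq hA.two c
      have hsu : H.h a (s • u) = 0 := by rw [H.smul_right, hau, mul_zero]
      have hsu' : H.h a (s • u') = 0 := by rw [H.smul_right, hau', mul_zero]
      have hsuu : H.h a (s • (u + u')) = 0 := by rw [H.smul_right, hauu, mul_zero]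
      have m1 := hRt 0 u hu hau s haa hsu
      have m2 := hRt 1 u' hu' hau' s haa hsu'
      have m3 := hRt 2 (u + u') (Submodule.mem_span_singleton_self _) hauu s haa hsuu
      have m4 := D.mul_mem (D.mul_mem m1 m2) (D.inv_mem m3)
      rw [H.sie_inv, H.sie_mul, H.sie_mul] at m4
      rwa [H.sie_congr _ _ haa haw rfl (by module : s • u + s • u' + -(s • (u + u')) = 0)
        (c' := c)] at m4
      have e1 : H.h u' u = 1 := by rw [hA.comm u u', huu']
      simp only [H.neg_left, H.neg_right, H.smul_left, H.smul_right, H.add_left, H.add_right,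
        hA.alt, huu', e1, hA.eps, hA.sig, inv_one, one_mul, ← hs]
      have h8 := hA.add_self (s * s)
      linear_combination -h8
    exact ⟨key e he hes, key f hf hfs.symm⟩

end Cfsg.Agent.H110.Fpr
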