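import Cfsg.Agent.H110.Fpr.Quad

/-!
# Explicit elements for types I and IV
-/

set_option autoImplicit false
set_option linter.unusedSimpArgs false

namespace Cfsg.Agent.H110.Fpr

open Cfsg.Agent.TitsThree.Siegel Cfsg.Agent.TitsThree.SiegelGen Cfsg.Agent.H398.FPR
open Cfsg.Agent.H409

variable {F : Type*} [Field F] {V : Type*} [AddCommGroup V] [Module F V]
variable {H : HForm F V} {P : PQ H}

/-- The orthogonal complement of a set. -/
def perp (H : HForm F V) (S : Set V) : Submodule F V where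
  carrier := {v | ∀ u ∈ S, H.h v u = 0}
  add_mem' := fun {a b} ha hb u hu => by rw [H.add_left, ha u hu, hb u hu, add_zero]
  zero_mem' := fun u _ => H.zero_left u
  smul_mem' := fun c v hv u hu => by rw [H.smul_left, hv u hu, mul_zero]

theorem mem_perp {S : Set V} {v : V} : v ∈ perp H S ↔ ∀ u ∈ S, H.h v u = 0 := Iff.rfl

/-- everything in the span is orthogonal as soon as the generators are -/
theorem span_orth {S S' : Set V} (h : ∀ u ∈ S, ∀ v ∈ S', H.h u v = 0) :
    ∀ u ∈ Submodule.span F S, ∀ v ∈ Submodule.span F S', H.h u v = 0 := by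
  intro u hu v hv
  induction hu using Submodule.span_induction with
  | mem u hu =>
    induction hv using Submodule.span_induction with
    | mem v hv => exact h u hu v hv
    | zero => exact H.zero_right _
    | add v w _ _ ih1 ih2 => rw [H.add_right, ih1, ih2, add_zero]
    | smul s v _ ih => rw [H.smul_right, ih, mul_zero]
  | zero => exact H.zero_left _
  | add v w _ _ ih1 ih2 => rw [H.add_left, ih1, ih2, add_zero]
  | smul s v _ ih => rw [H.smul_left, ih, mul_zero]

theorem span_sing {S : Set V} (h : ∀ u ∈ S, ∀ v ∈ S, H.h u v = 0) (hs : ∀ u ∈ S, P.ok u 0) :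
    ∀ u ∈ Submodule.span F S, P.ok u 0 := by
  intro u hu
  induction hu using Submodule.span_induction with
  | mem u hu => exact hs u hu
  | zero => exact P.zero
  | add v w hv hw ih1 ih2 => exact P.sing_add ih1 ih2 (span_orth h w hw v hv)
  | smul s v _ ih => exact P.sing_smul ih s

theorem perp_orth {S : Set V} : ∀ u ∈ Submodule.span F S, ∀ w ∈ perp H S, H.h u w = 0 := by
  intro u hu w hw
  induction hu using Submodule.span_induction with
  | mem u hu => exact H.orth_symm (hw u hu)
  | zero => exact H.zero_left _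
  | add v w _ _ ih1 ih2 => rw [H.add_left, ih1, ih2, add_zero]
  | smul s v _ ih => rw [H.smul_left, ih, mul_zero]

theorem perp_anti {S S' : Set V} (h : S ⊆ S') : perp H S' ≤ perp H S :=
  fun _ hv u hu => hv u (h hu)

/-- **Type I, explicit.** -/
theorem row_I_explicit [Finite V] {r : ℕ} [Fact r.Prime] [CharP F r] {p j k : ℕ} (hp : p.Prime)
    (hj : p = 2 → 1 ≤ j) {t : F} (ht : Good2 p j k t) {e0 e1 f0 f1 : V}
    (se0 : P.ok e0 0) (se1 : P.ok e1 0) (sf0 : P.ok f0 0) (sf1 : P.ok f1 0)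
    (h00 : H.h e0 f0 = 1) (h11 : H.h e1 f1 = 1) (h01 : H.h e0 f1 = 0) (h10 : H.h e1 f0 = 0)
    (hee : H.h e0 e1 = 0) (hff : H.h f0 f1 = 0)
    (hnd : ∃ m ∈ perp H {e0, e1, f0, f1}, ∃ m' ∈ perp H {e0, e1, f0, f1}, H.h m m' ≠ 0)
    (hVnd : ∀ v : V, P.ok v 0 → v ≠ 0 → ∃ w, H.h v w ≠ 0) :
    FprRow (2 * p - 1) (p - 1) p (SG P) := by
  have e00 := P.iso se0
  have e11 := P.iso se1
  have f00 := P.iso sf0
  have f11 := P.iso sf1
  have hee' : H.h e1 e0 = 0 := H.orth_symm hee
  have hff' : H.h f1 f0 = 0 := H.orth_symm hff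
  have h01' : H.h f1 e0 = 0 := H.orth_symm h01
  have h10' : H.h f0 e1 = 0 := H.orth_symm h10
  have h00' : H.h f0 e0 = H.ε := by rw [H.swap e0 f0, h00, map_one, mul_one]
  have h11' : H.h f1 e1 = H.ε := by rw [H.swap e1 f1, h11, map_one, mul_one]
  have hε := H.ε_ne
  obtain ⟨b, hb⟩ : ∃ b, b = H.σ (-(H.ε * (t - 2))) := ⟨_, rfl⟩
  obtain ⟨c, hc⟩ : ∃ c, c = H.σ (-H.ε) := ⟨_, rfl⟩
  have hb1 : H.h e0 (b • f1) = 0 := by rw [H.smul_right, h01, mul_zero]
  have hc1 : H.h e1 (c • f0) = 0 := by rw [H.smul_right, h10, mul_zero]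
  have hσb : H.σ b = -(H.ε * (t - 2)) := by rw [hb, H.σσ]
  have hσc : H.σ c = -H.ε := by rw [hc, H.σσ]
  have hεb : H.ε * b = -H.σ (t - 2) := by
    rw [hb, map_neg, map_mul, H.σε]
    field_simp
  have hεc : H.ε * c = -1 := by
    rw [hc, map_neg, H.σε]
    field_simp
  obtain ⟨x, hx⟩ : ∃ x, x = H.sie e0 (b • f1) 0 e00 hb1 * H.sie e1 (c • f0) 0 e11 hc1 := ⟨_, rfl⟩
  have hxK : x ∈ SG P := by
    rw [hx]
    exact mul_mem (sie_mem_SG P _ _ se0 (P.sing_smul sf1 b))
      (sie_mem_SG P _ _ se1 (P.sing_smul sf0 c))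
  have app : ∀ v, x v = H.sie e0 (b • f1) 0 e00 hb1 (H.sie e1 (c • f0) 0 e11 hc1 v) := by
    intro v; rw [hx]; rfl
  have i1 : H.ε⁻¹ * H.ε = 1 := inv_mul_cancel₀ hε
  -- action on the four vectors
  have xe0 : x e0 = (t - 1) • e0 + e1 := by
    rw [app]
    simp only [H.sie_apply, H.add_left, H.sub_left, H.smul_left, H.smul_right, hee, h00, e00,
      h01, hee', h10, e11, h11, hσb, hσc]
    have i2 : H.ε⁻¹ * (-H.ε * 1) = -1 := by rw [mul_one, mul_neg, i1]
    simp only [i2]
    match_scalars <;> field_simp <;> ring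
  have xe1 : x e1 = e1 + (t - 2) • e0 := by
    rw [app]
    simp only [H.sie_apply, H.add_left, H.sub_left, H.smul_left, H.smul_right, hee, h00, e00,
      h01, hee', h10, e11, h11, hσb, hσc]
    match_scalars <;> field_simp <;> ring
  have xf0 : x f0 = f0 - H.σ (t - 2) • f1 := by
    rw [app]
    simp only [H.sie_apply, H.add_left, H.sub_left, H.smul_left, H.smul_right, h10', f00, hff,
      h00', mul_zero, zero_smul, add_zero, sub_zero, zero_mul, smul_smul, hεb]
    module
  have xf1 : x f1 = f1 - f0 + H.σ (t - 2) • f1 := by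
    rw [app]
    simp only [H.sie_apply, H.add_left, H.sub_left, H.smul_left, H.smul_right, h10', f00, hff,
      h00', h11', h01', hff', f11, mul_zero, zero_smul, add_zero, sub_zero, zero_mul, smul_smul,
      hεb, hεc, add_zero, zero_add]
    match_scalars <;> first | ring1 | linear_combination -hεb
  have qT : IsQuad x (Submodule.span F {e0, e1}) t := by
    have m0 : e0 ∈ Submodule.span F ({e0, e1} : Set V) :=
      Submodule.subset_span (Set.mem_insert _ _)
    have m1 : e1 ∈ Submodule.span F ({e0, e1} : Set V) :=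
      Submodule.subset_span (Set.mem_insert_of_mem _ rfl)
    apply IsQuad.of_span
    · rintro w (rfl | rfl)
      · rw [xe0]; exact Submodule.add_mem _ (Submodule.smul_mem _ _ m0) m1
      · rw [xe1]; exact Submodule.add_mem _ m1 (Submodule.smul_mem _ _ m0)
    · rintro w (rfl | rfl)
      · simp only [xe0, xe1, map_add, map_smul]; module
      · simp only [xe0, xe1, map_add, map_smul]; module
  have qT' : IsQuad x (Submodule.span F {f0, f1}) (H.σ t) := by
    have m0 : f0 ∈ Submodule.span F ({f0, f1} : Set V) :=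
      Submodule.subset_span (Set.mem_insert _ _)
    have m1 : f1 ∈ Submodule.span F ({f0, f1} : Set V) :=
      Submodule.subset_span (Set.mem_insert_of_mem _ rfl)
    have hσt : H.σ (t - 2) = H.σ t - 2 := by rw [map_sub, map_ofNat]
    rw [hσt] at xf0 xf1
    apply IsQuad.of_span
    · rintro w (rfl | rfl)
      · rw [xf0]; exact Submodule.sub_mem _ m0 (Submodule.smul_mem _ _ m1)
      · rw [xf1]
        exact Submodule.add_mem _ (Submodule.sub_mem _ m1 m0) (Submodule.smul_mem _ _ m1)
    · rintro w (rfl | rfl)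
      · simp only [xf0, xf1, map_add, map_sub, map_smul]; module
      · simp only [xf0, xf1, map_add, map_sub, map_smul]; module
  have ht' : Good2 p j k (H.σ t) := ht.map (H.σ : F →+* F)
  have xM : ∀ w ∈ perp H {e0, e1, f0, f1}, x w = w := by
    intro w hw
    have w0 : H.h w e0 = 0 := hw e0 (by simp)
    have w1 : H.h w e1 = 0 := hw e1 (by simp)
    have w2 : H.h w f0 = 0 := hw f0 (by simp)
    have w3 : H.h w f1 = 0 := hw f1 (by simp)
    have a1 : H.sie e1 (c • f0) 0 e11 hc1 w = w := by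
      rw [H.sie_apply, w1, H.smul_right, w2]; simp
    rw [app, a1, H.sie_apply, w0, H.smul_right, w3]; simp
  have htop : Submodule.span F {e0, e1} ⊔ perp H {e0, e1, f0, f1} ⊔ Submodule.span F {f0, f1} =
      (⊤ : Submodule F V) := by
    rw [eq_top_iff]
    intro v _
    obtain ⟨m, hm⟩ : ∃ m, m = v - (H.h v f0 • e0 + H.h v f1 • e1 +
      ((H.ε⁻¹ * H.h v e0) • f0 + (H.ε⁻¹ * H.h v e1) • f1)) := ⟨_, rfl⟩
    have hv : v = (H.h v f0 • e0 + H.h v f1 • e1) + m +
        ((H.ε⁻¹ * H.h v e0) • f0 + (H.ε⁻¹ * H.h v e1) • f1) := by rw [hm]; abel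
    rw [hv]
    refine Submodule.add_mem_sup (Submodule.add_mem_sup ?_ ?_) ?_
    · exact Submodule.mem_span_pair.2 ⟨_, _, rfl⟩
    · rw [hm]
      rintro u (rfl | rfl | rfl | rfl)
      · simp only [H.sub_left, H.add_left, H.smul_left, e00, hee', h00', h01']
        field_simp
        ring
      · simp only [H.sub_left, H.add_left, H.smul_left, e11, hee, h10', h11']
        field_simp
        ring
      · simp only [H.sub_left, H.add_left, H.smul_left, h00, h10, f00, hff']
        ring
      · simp only [H.sub_left, H.add_left, H.smul_left, h01, h11, f11, hff]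
        ring
    · exact Submodule.mem_span_pair.2 ⟨_, _, rfl⟩
  have hTT : ∀ u ∈ ({e0, e1} : Set V), ∀ v ∈ ({e0, e1} : Set V), H.h u v = 0 := by
    rintro u (rfl | rfl) v (rfl | rfl) <;> assumption
  have hTT' : ∀ u ∈ ({f0, f1} : Set V), ∀ v ∈ ({f0, f1} : Set V), H.h u v = 0 := by
    rintro u (rfl | rfl) v (rfl | rfl) <;> assumption
  refine row_I (r := r) hp hj hxK (k := k) ?_ htop qT.inv qT'.inv xM (qT.surj ht)
    (qT'.surj ht') (span_sing hTT ?_) (span_orth hTT) (span_sing hTT' ?_) (span_orth hTT')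
    ?_ ?_ hnd ⟨e0, Submodule.subset_span (by simp), f0, Submodule.subset_span (by simp), ?_⟩ hVnd
  · ext v
    have hv : v ∈ Submodule.span F {e0, e1} ⊔ perp H {e0, e1, f0, f1} ⊔
        Submodule.span F {f0, f1} := by rw [htop]; trivial
    obtain ⟨y, hy, d, hd, rfl⟩ := Submodule.mem_sup.1 hv
    obtain ⟨a, ha, m, hm, rfl⟩ := Submodule.mem_sup.1 hy
    rw [map_add, map_add, qT.pow_eq ht a ha, qT'.pow_eq ht' d hd, pow_fix xM _ m hm]
    rfl
  · rintro u (rfl | rfl) <;> assumption
  · rintro u (rfl | rfl) <;> assumption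
  · intro u hu w hw
    exact perp_orth u hu w (perp_anti (by
      rintro a (rfl | rfl) <;> simp) hw)
  · intro u hu w hw
    exact perp_orth u hu w (perp_anti (by
      rintro a (rfl | rfl) <;> simp) hw)
  · rw [h00']; exact hε

/-- **Type IV, explicit**, with two radicals. -/
theorem row_IV_explicit [Finite V] {r : ℕ} [Fact r.Prime] [CharP F r] {p j k : ℕ} (hp : p.Prime)
    (hj : p = 2 → 1 ≤ j) {t : F} (ht : Good2 p j k t) {e f : V} (se : P.ok e 0) (sf : P.ok f 0)
    (hef : H.h e f = 1) {b c : F} (hb : P.ok 0 b) (hc : P.ok 0 c) (hbc : H.ε * b * c = t - 2)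
    (hlam : ∀ c, P.ok 0 c → ∃ m, c = m - H.ε⁻¹ * H.σ m)
    {T T' : Submodule F V} (hspan : perp H {e, f} = T ⊔ T')
    (hTs : ∀ u ∈ T, P.ok u 0) (hTT : ∀ u ∈ T, ∀ u' ∈ T, H.h u u' = 0)
    (hTs' : ∀ u ∈ T', P.ok u 0) (hTT' : ∀ u ∈ T', ∀ u' ∈ T', H.h u u' = 0)
    (hpair : ∃ u ∈ T, ∃ u' ∈ T', H.h u u' ≠ 0)
    (hVnd : ∀ v : V, P.ok v 0 → v ≠ 0 → ∃ w, H.h v w ≠ 0) :
    FprRow (2 * p - 1) (p - 1) p (SG P) := by
  have hee := P.iso se
  have hff := P.iso sf
  have hfe : H.h f e = H.ε := by rw [H.swap e f, hef, map_one, mul_one]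
  have hε := H.ε_ne
  obtain ⟨x, hx⟩ : ∃ x, x = H.sie e 0 b hee (H.zero_right e) * H.sie f 0 c hff (H.zero_right f) :=
    ⟨_, rfl⟩
  have hxK : x ∈ SG P := by
    rw [hx]
    exact mul_mem (sie_mem_SG P _ _ se hb) (sie_mem_SG P _ _ sf hc)
  have app : ∀ v, x v = H.sie e 0 b hee (H.zero_right e) (H.sie f 0 c hff (H.zero_right f) v) := by
    intro v; rw [hx]; rfl
  have xe : x e = (t - 1) • e + c • f := by
    rw [app]
    simp only [H.sie_apply, H.add_left, H.sub_left, H.smul_left, H.zero_right, hef, hee, hfe,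
      smul_zero, zero_smul, mul_zero, add_zero, sub_zero, mul_one, zero_add]
    have e1 : b * (c * H.ε) = t - 2 := by rw [← hbc]; ring
    rw [e1]
    module
  have xf : x f = f + (b * H.ε) • e := by
    rw [app]
    simp only [H.sie_apply, H.add_left, H.sub_left, H.smul_left, H.zero_right, hff, hfe,
      smul_zero, zero_smul, mul_zero, add_zero, sub_zero]
  have qT : IsQuad x (Submodule.span F {e, f}) t := by
    have m0 : e ∈ Submodule.span F ({e, f} : Set V) :=
      Submodule.subset_span (Set.mem_insert _ _)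
    have m1 : f ∈ Submodule.span F ({e, f} : Set V) :=
      Submodule.subset_span (Set.mem_insert_of_mem _ rfl)
    have e2 : b * H.ε * c = t - 2 := by rw [← hbc]; ring
    apply IsQuad.of_span
    · rintro w (rfl | rfl)
      · rw [xe]; exact Submodule.add_mem _ (Submodule.smul_mem _ _ m0) (Submodule.smul_mem _ _ m1)
      · rw [xf]; exact Submodule.add_mem _ m1 (Submodule.smul_mem _ _ m0)
    · rintro w (rfl | rfl)
      · simp only [xe, xf, map_add, map_smul, smul_add, smul_smul, mul_comm c, e2]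
        match_scalars <;> ring
      · simp only [xe, xf, map_add, map_smul, smul_add, smul_smul, e2]
        match_scalars <;> ring
  have x2 : ∀ w ∈ perp H {e, f}, x w = w := by
    intro w hw
    have w0 : H.h w e = 0 := hw e (by simp)
    have w1 : H.h w f = 0 := hw f (by simp)
    have a1 : H.sie f 0 c hff (H.zero_right f) w = w := by
      rw [H.sie_apply, w1, H.zero_right]; simp
    rw [app, a1, H.sie_apply, w0, H.zero_right]; simp
  have htop : Submodule.span F {e, f} ⊔ perp H {e, f} = (⊤ : Submodule F V) := by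
    rw [eq_top_iff]
    intro v _
    obtain ⟨m, hm⟩ : ∃ m, m = v - (H.h v f • e + (H.ε⁻¹ * H.h v e) • f) := ⟨_, rfl⟩
    have hv : v = (H.h v f • e + (H.ε⁻¹ * H.h v e) • f) + m := by rw [hm]; abel
    rw [hv]
    refine Submodule.add_mem_sup (Submodule.mem_span_pair.2 ⟨_, _, rfl⟩) ?_
    rw [hm]
    rintro u (rfl | rfl)
    · simp only [H.sub_left, H.add_left, H.smul_left, hee, hfe]
      field_simp
      ring
    · simp only [H.sub_left, H.add_left, H.smul_left, hef, hff]
      ring
  have hT2 : T ≤ perp H {e, f} := hspan ▸ le_sup_left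
  have hT2' : T' ≤ perp H {e, f} := hspan ▸ le_sup_right
  obtain ⟨u, hu, u', hu', huu'⟩ := hpair
  refine row_IV_min (r := r) (j := j) (k := k) hp hxK ?_ htop perp_orth qT.inv x2 (qT.surj ht)
    hlam (fun b : Bool => cond b T T') ?_ ?_ ?_ ?_ ?_
    ⟨true, u, hu, false, u', hu', huu'⟩ (a := e) (a' := f)
    (Submodule.subset_span (by simp)) se (Submodule.subset_span (by simp)) sf
    (by rw [hfe]; exact hε) hVnd
  · ext v
    have hv : v ∈ Submodule.span F {e, f} ⊔ perp H {e, f} := by rw [htop]; trivial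
    obtain ⟨a, ha, d, hd, rfl⟩ := Submodule.mem_sup.1 hv
    rw [map_add, qT.pow_eq ht a ha, pow_fix x2 _ d hd]
    rfl
  · rw [Fintype.card_bool]
    rcases eq_or_ne p 2 with rfl | h2
    · have h3 : 2 ^ 1 ≤ 2 ^ j := Nat.pow_le_pow_right (by norm_num) (hj rfl)
      omega
    · have h3 : 3 ≤ p := by
        have := hp.two_le
        omega
      have h4 : 1 ≤ p ^ j := Nat.one_le_pow _ _ hp.pos
      have h5 : 2 * 1 ≤ (p - 1) * p ^ j := Nat.mul_le_mul (by omega) h4
      omega
  · rintro (_ | _)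
    · exact hT2'
    · exact hT2
  · rintro (_ | _)
    · exact hTs'
    · exact hTs
  · rintro (_ | _)
    · exact hTT'
    · exact hTT
  · rw [hspan]
    exact sup_le (le_iSup (fun b : Bool => cond b T T') true)
      (le_iSup (fun b : Bool => cond b T T') false)

end Cfsg.Agent.H110.Fpr
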