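import Cfsg.Agent.H110.Fpr.Master

/-!
# Families of totally singular subspaces, general version
-/

set_option autoImplicit false

namespace Cfsg.Agent.H110.Fpr

open Cfsg.Agent.TitsThree.Siegel Cfsg.Agent.TitsThree.SiegelGen Cfsg.Agent.H398.FPR
open Cfsg.Agent.H409

variable {F : Type*} [Field F] {V : Type*} [AddCommGroup V] [Module F V]
variable {H : HForm F V} {P : PQ H}

/-- **Witt decomposition**, with orthogonality. -/
theorem witt' [Finite V] (n : ℕ) : ∀ W : Submodule F V, Module.finrank F W ≤ n →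
    (∀ v ∈ W, v ≠ 0 → ∃ w ∈ W, H.h v w ≠ 0) →
    ∃ T T' A : Submodule F V, W = T ⊔ T' ⊔ A ∧
      (∀ u ∈ T, P.ok u 0) ∧ (∀ u ∈ T, ∀ u' ∈ T, H.h u u' = 0) ∧
      (∀ u ∈ T', P.ok u 0) ∧ (∀ u ∈ T', ∀ u' ∈ T', H.h u u' = 0) ∧
      (∀ u ∈ A, P.ok u 0 → u = 0) ∧
      (∀ t ∈ T, ∀ a ∈ A, H.h t a = 0) ∧ (∀ t ∈ T', ∀ a ∈ A, H.h t a = 0) ∧
      ((∃ e ∈ W, e ≠ 0 ∧ P.ok e 0) → ∃ e ∈ T, ∃ f ∈ T', H.h e f = 1) := by
  induction n with
  | zero =>
    intro W hW _
    have h0 : W = ⊥ := by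
      rw [← Submodule.finrank_eq_zero (R := F)]
      omega
    refine ⟨⊥, ⊥, ⊥, by rw [h0, sup_bot_eq, sup_bot_eq], ?_, ?_, ?_, ?_, ?_, ?_, ?_, ?_⟩
    · intro u hu
      rw [(Submodule.mem_bot F).1 hu]; exact P.zero
    · intro u hu u' hu'
      rw [(Submodule.mem_bot F).1 hu]; exact H.zero_left _
    · intro u hu
      rw [(Submodule.mem_bot F).1 hu]; exact P.zero
    · intro u hu u' hu'
      rw [(Submodule.mem_bot F).1 hu]; exact H.zero_left _
    · intro u hu _
      exact (Submodule.mem_bot F).1 hu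
    · intro u hu u' hu'
      rw [(Submodule.mem_bot F).1 hu]; exact H.zero_left _
    · intro u hu u' hu'
      rw [(Submodule.mem_bot F).1 hu]; exact H.zero_left _
    · rintro ⟨e, he, he0, _⟩
      rw [h0] at he
      exact absurd ((Submodule.mem_bot F).1 he) he0
  | succ n ih =>
    intro W hW hnd
    by_cases hex : ∃ e ∈ W, e ≠ 0 ∧ P.ok e 0
    swap
    · push Not at hex
      refine ⟨⊥, ⊥, W, by rw [sup_bot_eq, bot_sup_eq], ?_, ?_, ?_, ?_, ?_, ?_, ?_, ?_⟩
      · intro u hu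
        rw [(Submodule.mem_bot F).1 hu]; exact P.zero
      · intro u hu u' hu'
        rw [(Submodule.mem_bot F).1 hu]; exact H.zero_left _
      · intro u hu
        rw [(Submodule.mem_bot F).1 hu]; exact P.zero
      · intro u hu u' hu'
        rw [(Submodule.mem_bot F).1 hu]; exact H.zero_left _
      · intro u hu hus
        by_contra h
        exact hex u hu h hus
      · intro u hu u' hu'
        rw [(Submodule.mem_bot F).1 hu]; exact H.zero_left _
      · intro u hu u' hu'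
        rw [(Submodule.mem_bot F).1 hu]; exact H.zero_left _
      · rintro ⟨e, he, he0, hes⟩
        exact absurd hes (hex e he he0)
    obtain ⟨e, he, he0, hes⟩ := hex
    obtain ⟨f, hf, hfs, hef⟩ := exists_hyp hnd he hes he0
    have hee := P.iso hes
    have hff := P.iso hfs
    have hfe : H.h f e = H.ε := by rw [H.swap e f, hef, map_one, mul_one]
    obtain ⟨W', hW'⟩ : ∃ W', W' = W ⊓ perp H {e, f} := ⟨_, rfl⟩
    have hmem : ∀ w, w ∈ W' ↔ w ∈ W ∧ H.h w e = 0 ∧ H.h w f = 0 := by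
      intro w
      rw [hW', Submodule.mem_inf, mem_perp]
      simp
    -- projection
    have hproj : ∀ v ∈ W, ∃ w ∈ W', v = w + (H.h v f • e + (H.ε⁻¹ * H.h v e) • f) := by
      intro v hv
      refine ⟨v - (H.h v f • e + (H.ε⁻¹ * H.h v e) • f), ?_, by abel⟩
      rw [hmem]
      refine ⟨W.sub_mem hv (W.add_mem (W.smul_mem _ he) (W.smul_mem _ hf)), ?_, ?_⟩
      · simp only [H.sub_left, H.add_left, H.smul_left, hee, hfe]
        field_simp [H.ε_ne]
        ring
      · simp only [H.sub_left, H.add_left, H.smul_left, hef, hff]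
        ring
    have hlt : Module.finrank F W' ≤ n := by
      have h1 : W' < W := by
        refine lt_of_le_of_ne (by rw [hW']; exact inf_le_left) ?_
        intro h
        have h2 : e ∈ W' := by rw [h]; exact he
        rw [hmem] at h2
        rw [hef] at h2
        exact one_ne_zero h2.2.2
      have := Submodule.finrank_lt_finrank_of_lt h1
      omega
    have hnd' : ∀ v ∈ W', v ≠ 0 → ∃ w ∈ W', H.h v w ≠ 0 := by
      intro v hv hv0
      rw [hmem] at hv
      obtain ⟨w, hw, hvw⟩ := hnd v hv.1 hv0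
      obtain ⟨w', hw', hww⟩ := hproj w hw
      refine ⟨w', hw', ?_⟩
      rw [hww, H.add_right, H.add_right, H.smul_right, H.smul_right, hv.2.1, hv.2.2, mul_zero,
        mul_zero, add_zero, add_zero] at hvw
      exact hvw
    obtain ⟨T, T', A, h1, h2, h3, h4, h5, h6, h7, h8, -⟩ := ih W' hlt hnd'
    have hTW : T ≤ W' := by rw [h1]; exact le_sup_left.trans le_sup_left
    have hTW' : T' ≤ W' := by rw [h1]; exact le_sup_right.trans le_sup_left
    have hAW' : A ≤ W' := by rw [h1]; exact le_sup_right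
    have key : ∀ (T : Submodule F V) (e : V), T ≤ W' → (∀ u ∈ T, P.ok u 0) →
        (∀ u ∈ T, ∀ u' ∈ T, H.h u u' = 0) → (∀ u ∈ T, ∀ a ∈ A, H.h u a = 0) → P.ok e 0 →
        (∀ w ∈ W', H.h w e = 0) →
        (∀ u ∈ Submodule.span F {e} ⊔ T, P.ok u 0) ∧
        (∀ u ∈ Submodule.span F {e} ⊔ T, ∀ u' ∈ Submodule.span F {e} ⊔ T, H.h u u' = 0) ∧
        (∀ u ∈ Submodule.span F {e} ⊔ T, ∀ a ∈ A, H.h u a = 0) := by
      intro T e hTW h2 h3 h3' hes he
      have hT : ∀ u ∈ T, H.h u e = 0 := fun u hu => he u (hTW hu)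
      have hT' : ∀ u ∈ T, H.h e u = 0 := fun u hu => H.orth_symm (hT u hu)
      refine ⟨?_, ?_, ?_⟩
      · intro u hu
        obtain ⟨y, hy, z, hz, rfl⟩ := Submodule.mem_sup.1 hu
        obtain ⟨s, rfl⟩ := Submodule.mem_span_singleton.1 hy
        exact P.sing_add (P.sing_smul hes s) (h2 z hz) (by rw [H.smul_right, hT z hz, mul_zero])
      · intro u hu u' hu'
        obtain ⟨y, hy, z, hz, rfl⟩ := Submodule.mem_sup.1 hu
        obtain ⟨s, rfl⟩ := Submodule.mem_span_singleton.1 hy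
        obtain ⟨y', hy', z', hz', rfl⟩ := Submodule.mem_sup.1 hu'
        obtain ⟨s', rfl⟩ := Submodule.mem_span_singleton.1 hy'
        simp only [H.add_left, H.add_right, H.smul_left, H.smul_right, P.iso hes, hT z hz,
          hT' z' hz', h3 z hz z' hz', mul_zero, add_zero]
      · intro u hu a ha
        obtain ⟨y, hy, z, hz, rfl⟩ := Submodule.mem_sup.1 hu
        obtain ⟨s, rfl⟩ := Submodule.mem_span_singleton.1 hy
        rw [H.add_left, H.smul_left, h3' z hz a ha, H.orth_symm (he a (hAW' ha)), mul_zero,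
          add_zero]
    have k1 := key T e hTW h2 h3 h7 hes (fun w hw => ((hmem w).1 hw).2.1)
    have k2 := key T' f hTW' h4 h5 h8 hfs (fun w hw => ((hmem w).1 hw).2.2)
    refine ⟨Submodule.span F {e} ⊔ T, Submodule.span F {f} ⊔ T', A, ?_, k1.1, k1.2.1, k2.1,
      k2.2.1, h6, k1.2.2, k2.2.2, ?_⟩
    · apply le_antisymm
      · intro v hv
        obtain ⟨w, hw, hvw⟩ := hproj v hv
        rw [h1] at hw
        rw [hvw]
        have hle : T ⊔ T' ⊔ A ≤ Submodule.span F {e} ⊔ T ⊔ (Submodule.span F {f} ⊔ T') ⊔ A :=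
          sup_le_sup_right (sup_le_sup le_sup_right le_sup_right) A
        refine Submodule.add_mem _ (hle hw) (Submodule.add_mem _ ?_ ?_)
        · exact (le_sup_left.trans (le_sup_left.trans le_sup_left) : Submodule.span F {e} ≤ _)
            (Submodule.smul_mem _ _ (Submodule.mem_span_singleton_self e))
        · exact (le_sup_left.trans (le_sup_right.trans le_sup_left) : Submodule.span F {f} ≤ _)
            (Submodule.smul_mem _ _ (Submodule.mem_span_singleton_self f))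
      · have hW'W : W' ≤ W := by rw [hW']; exact inf_le_left
        refine sup_le (sup_le (sup_le ?_ (hTW.trans hW'W)) (sup_le ?_ (hTW'.trans hW'W)))
          (hAW'.trans hW'W)
        · rw [Submodule.span_singleton_le_iff_mem]; exact he
        · rw [Submodule.span_singleton_le_iff_mem]; exact hf
    · intro _
      exact ⟨e, (le_sup_left : _ ≤ Submodule.span F {e} ⊔ T)
        (Submodule.mem_span_singleton_self e), f,
        (le_sup_left : _ ≤ Submodule.span F {f} ⊔ T') (Submodule.mem_span_singleton_self f),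
        hef⟩

/-- The family of totally singular subspaces. -/
theorem exists_family_of [Finite V] {κ : ℕ} {W T T' A : Submodule F V}
    (hAκ : Module.finrank F A ≤ κ - 1)
    (h1 : W = T ⊔ T' ⊔ A) (h2 : ∀ u ∈ T, P.ok u 0) (h3 : ∀ u ∈ T, ∀ u' ∈ T, H.h u u' = 0)
    (h4 : ∀ u ∈ T', P.ok u 0) (h5 : ∀ u ∈ T', ∀ u' ∈ T', H.h u u' = 0)
    (hTA : ∀ t ∈ T, ∀ a ∈ A, H.h t a = 0) (hTA' : ∀ t ∈ T', ∀ a ∈ A, H.h t a = 0)
    {e f : V} (he : e ∈ T) (hf : f ∈ T') (hef : H.h e f = 1) :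
    ∃ T : Bool ⊕ Fin (κ - 1) → Submodule F V, (∀ i, T i ≤ W) ∧ (∀ i, ∀ u ∈ T i, P.ok u 0) ∧
      (∀ i, ∀ u ∈ T i, ∀ u' ∈ T i, H.h u u' = 0) ∧ W ≤ (⨆ i, T i) ∧
      (∃ i, ∃ u ∈ T i, ∃ i', ∃ u' ∈ T i', H.h u u' ≠ 0) := by
  have hA : ∀ a ∈ A, H.h e a = 0 ∧ H.h f a = 0 := fun a ha => ⟨hTA e he a ha, hTA' f hf a ha⟩
  have hee := h3 e he e he
  have hff := h5 f hf f hf
  have hTW : T ≤ W := by rw [h1]; exact le_sup_left.trans le_sup_left
  have hTW' : T' ≤ W := by rw [h1]; exact le_sup_right.trans le_sup_left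
  have hAW' : A ≤ W := by rw [h1]; exact le_sup_right
  -- a spanning family of `A`
  obtain ⟨a, ha, haspan⟩ : ∃ a : Fin (κ - 1) → V, (∀ i, a i ∈ A) ∧
      A ≤ Submodule.span F (Set.range a) := by
    have : Module.Finite F V := Module.Finite.of_finite
    let b := Module.finBasis F A
    refine ⟨fun i => if h : (i : ℕ) < Module.finrank F A then (b ⟨i, h⟩ : V) else 0, ?_, ?_⟩
    · intro i
      dsimp only
      split_ifs with h
      · exact (b _).2
      · exact A.zero_mem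
    · intro v hv
      have h8 := b.sum_repr ⟨v, hv⟩
      have h9 : v = ∑ i, (b.repr ⟨v, hv⟩ i) • (b i : V) := by
        have := congrArg Subtype.val h8
        rw [Submodule.coe_sum] at this
        exact this.symm
      rw [h9]
      apply Submodule.sum_mem
      intro i _
      apply Submodule.smul_mem
      apply Submodule.subset_span
      refine ⟨⟨i, lt_of_lt_of_le i.2 hAκ⟩, ?_⟩
      simp
  choose c hc using fun i => P.ex (a i)
  have hfa : ∀ i, H.h f (a i) = 0 := fun i => (hA _ (ha i)).2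
  have hea : ∀ i, H.h e (a i) = 0 := fun i => (hA _ (ha i)).1
  -- the singular vectors `w i = e + a i + c i f`
  have hws : ∀ i, P.ok (H.sie f (a i) (c i) hff (hfa i) e) 0 := fun i =>
    P.ok_sie hff (hfa i) (h4 f hf) (hc i) (h2 e he)
  have hw : ∀ i, H.sie f (a i) (c i) hff (hfa i) e = e + a i + c i • f := by
    intro i
    rw [H.sie_apply, hef, hea]
    simp
  obtain ⟨Tf, hTf⟩ : ∃ Tf : Bool ⊕ Fin (κ - 1) → Submodule F V,
    Tf = Sum.elim (fun b => cond b T T') (fun i => Submodule.span F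
      {H.sie f (a i) (c i) hff (hfa i) e}) := ⟨_, rfl⟩
  have t1 : Tf (Sum.inl true) = T := by rw [hTf]; rfl
  have t2 : Tf (Sum.inl false) = T' := by rw [hTf]; rfl
  have t3 : ∀ i, Tf (Sum.inr i) = Submodule.span F {H.sie f (a i) (c i) hff (hfa i) e} := by
    intro i; rw [hTf]; rfl
  refine ⟨Tf, ?_, ?_, ?_, ?_, Sum.inl true, e, by rw [t1]; exact he, Sum.inl false, f,
    by rw [t2]; exact hf, by rw [hef]; exact one_ne_zero⟩
  · rintro ((_ | _) | i)
    · rw [t2]; exact hTW'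
    · rw [t1]; exact hTW
    · rw [t3, Submodule.span_singleton_le_iff_mem, hw]
      exact W.add_mem (W.add_mem (hTW he) (hAW' (ha i))) (W.smul_mem _ (hTW' hf))
  · rintro ((_ | _) | i)
    · rw [t2]; exact h4
    · rw [t1]; exact h2
    · rw [t3]
      intro u hu
      obtain ⟨s, rfl⟩ := Submodule.mem_span_singleton.1 hu
      exact P.sing_smul (hws i) s
  · rintro ((_ | _) | i)
    · rw [t2]; exact h5
    · rw [t1]; exact h3
    · rw [t3]
      intro u hu u' hu'
      obtain ⟨s, rfl⟩ := Submodule.mem_span_singleton.1 hu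
      obtain ⟨s', rfl⟩ := Submodule.mem_span_singleton.1 hu'
      rw [H.smul_left, H.smul_right, P.iso (hws i), mul_zero, mul_zero]
  · have l1 : T ≤ ⨆ i, Tf i := by rw [← t1]; exact le_iSup Tf _
    have l2 : T' ≤ ⨆ i, Tf i := by rw [← t2]; exact le_iSup Tf _
    conv_lhs => rw [h1]
    refine sup_le (sup_le l1 l2) (haspan.trans ?_)
    rw [Submodule.span_le]
    rintro _ ⟨i, rfl⟩
    have l3 : H.sie f (a i) (c i) hff (hfa i) e ∈ ⨆ i, Tf i := by
      have : Tf (Sum.inr i) ≤ ⨆ i, Tf i := le_iSup Tf _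
      apply this
      rw [t3]
      exact Submodule.mem_span_singleton_self _
    rw [hw] at l3
    have e1 : a i = (e + a i + c i • f) - e - c i • f := by abel
    rw [e1]
    exact Submodule.sub_mem _ (Submodule.sub_mem _ l3 (l1 he)) (Submodule.smul_mem _ _ (l2 hf))

/-- the anisotropic part is nondegenerate -/
theorem nd_of_witt {W T T' A : Submodule F V} (hnd : ∀ v ∈ W, v ≠ 0 → ∃ w ∈ W, H.h v w ≠ 0)
    (h1 : W = T ⊔ T' ⊔ A)
    (hTA : ∀ t ∈ T, ∀ a ∈ A, H.h t a = 0) (hTA' : ∀ t ∈ T', ∀ a ∈ A, H.h t a = 0) :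
    ∀ u ∈ A, u ≠ 0 → ∃ u' ∈ A, H.h u u' ≠ 0 := by
  have hAW' : A ≤ W := by rw [h1]; exact le_sup_right
  intro u hu hu0
  obtain ⟨w, hw, hw1⟩ := hnd u (hAW' hu) hu0
  rw [h1] at hw
  obtain ⟨y, hy, a, ha, rfl⟩ := Submodule.mem_sup.1 hw
  obtain ⟨t, ht, t', ht', rfl⟩ := Submodule.mem_sup.1 hy
  refine ⟨a, ha, ?_⟩
  rwa [H.add_right, H.add_right, H.orth_symm (hTA t ht u hu), H.orth_symm (hTA' t' ht' u hu),
    zero_add, zero_add] at hw1

/-- The family of totally singular subspaces. -/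
theorem exists_family' [Finite V] {κ : ℕ} (hκ1 : 1 ≤ κ) {W : Submodule F V}
    (hnd : ∀ v ∈ W, v ≠ 0 → ∃ w ∈ W, H.h v w ≠ 0)
    (hW : ∃ w ∈ W, w ≠ 0 ∧ P.ok w 0)
    (hκ : ∀ A : Submodule F V, κ ≤ Module.finrank F A → ∃ w ∈ A, w ≠ 0 ∧ P.ok w 0) :
    ∃ T : Bool ⊕ Fin (κ - 1) → Submodule F V, (∀ i, T i ≤ W) ∧ (∀ i, ∀ u ∈ T i, P.ok u 0) ∧
      (∀ i, ∀ u ∈ T i, ∀ u' ∈ T i, H.h u u' = 0) ∧ W ≤ (⨆ i, T i) ∧
      (∃ i, ∃ u ∈ T i, ∃ i', ∃ u' ∈ T i', H.h u u' ≠ 0) := by
  obtain ⟨T, T', A, h1, h2, h3, h4, h5, h6, hTA, hTA', h7⟩ := witt' (P := P) _ W le_rfl hnd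
  obtain ⟨e, he, f, hf, hef⟩ := h7 hW
  refine exists_family_of ?_ h1 h2 h3 h4 h5 hTA hTA' he hf hef
  by_contra hcon
  obtain ⟨w, hw, hw0, hws⟩ := hκ A (by omega)
  exact hw0 (h6 w hw hws)

/-- **Five totally singular subspaces**, any four of which span `W`. -/
theorem exists_five (halt : ∀ v, H.h v v = 0) {W : Submodule F V}
    {A T T' : Submodule F V} (hA2 : Module.finrank F A = 2)
    (hAnd : ∀ u ∈ A, u ≠ 0 → ∃ u' ∈ A, H.h u u' ≠ 0)
    (h1 : W = T ⊔ T' ⊔ A) (h2 : ∀ u ∈ T, P.ok u 0) (h3 : ∀ u ∈ T, ∀ u' ∈ T, H.h u u' = 0)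
    (h4 : ∀ u ∈ T', P.ok u 0) (h5 : ∀ u ∈ T', ∀ u' ∈ T', H.h u u' = 0)
    (hTA : ∀ t ∈ T, ∀ a ∈ A, H.h t a = 0) (hTA' : ∀ t ∈ T', ∀ a ∈ A, H.h t a = 0)
    {e f : V} (he : e ∈ T) (hf : f ∈ T') (hef : H.h e f = 1) :
    ∃ T : Fin 5 → Submodule F V, (∀ i, T i ≤ W) ∧ (∀ i, ∀ u ∈ T i, P.ok u 0) ∧
      (∀ i, ∀ u ∈ T i, ∀ u' ∈ T i, H.h u u' = 0) ∧
      (∀ i0, ∀ S : Submodule F V, (∀ i, i ≠ i0 → T i ≤ S) → W ≤ S) := by
  have hee := h3 e he e he
  have hff := h5 f hf f hf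
  have hfe : H.h f e = H.ε := by rw [H.swap e f, hef, map_one, mul_one]
  have hTW : T ≤ W := by rw [h1]; exact le_sup_left.trans le_sup_left
  have hTW' : T' ≤ W := by rw [h1]; exact le_sup_right.trans le_sup_left
  have hAW' : A ≤ W := by rw [h1]; exact le_sup_right
  -- a basis of `A`
  obtain ⟨v1, v2, hv1, hv2, hv10, hAs⟩ : ∃ v1 v2 : V, v1 ∈ A ∧ v2 ∈ A ∧ v1 ≠ 0 ∧
      ∀ a ∈ A, ∃ α β : F, a = α • v1 + β • v2 := by
    have : Module.Finite F A := Module.finite_of_finrank_pos (by omega)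
    let b := Module.finBasisOfFinrankEq F A hA2
    refine ⟨b 0, b 1, (b 0).2, (b 1).2, ?_, ?_⟩
    · intro h
      exact b.ne_zero 0 (Subtype.ext h)
    · intro a ha
      have h8 := b.sum_repr ⟨a, ha⟩
      rw [Fin.sum_univ_two] at h8
      exact ⟨_, _, (congrArg Subtype.val h8).symm⟩
  have h12 : H.h v2 v1 ≠ 0 := by
    intro h
    obtain ⟨u, hu, hu1⟩ := hAnd v1 hv1 hv10
    obtain ⟨α, β, rfl⟩ := hAs u hu
    apply hu1
    rw [H.add_right, H.smul_right, H.smul_right, halt, H.orth_symm h, mul_zero, mul_zero, add_zero]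
  obtain ⟨c1, hc1⟩ := P.ex v1
  obtain ⟨c2, hc2⟩ := P.ex v2
  have hc3 := P.add hc1 hc2
  obtain ⟨c3, hc3'⟩ : ∃ c3, c3 = c1 + c2 - H.ε⁻¹ * H.h v2 v1 := ⟨_, rfl⟩
  rw [← hc3'] at hc3
  -- the singular vectors
  have aux : ∀ v ∈ A, ∀ c, P.ok v c → P.ok (e + v + c • f) 0 := by
    intro v hv c hc
    have hfv := hTA' f hf v hv
    have hev := hTA e he v hv
    have h6 := P.ok_sie hff hfv (h4 f hf) hc (h2 e he)
    have h7 : H.sie f v c hff hfv e = e + v + c • f := by
      rw [H.sie_apply, hef, hev]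
      simp
    rwa [h7] at h6
  have s1 := aux v1 hv1 c1 hc1
  have s2 := aux v2 hv2 c2 hc2
  have s3 := aux _ (A.add_mem hv1 hv2) c3 hc3
  have mW : ∀ v ∈ A, ∀ c : F, e + v + c • f ∈ W := fun v hv c =>
    W.add_mem (W.add_mem (hTW he) (hAW' hv)) (W.smul_mem _ (hTW' hf))
  -- one subspace
  have key : ∀ (w : V) (U : Submodule F V), P.ok w 0 → (∀ u ∈ U, P.ok u 0) →
      (∀ u ∈ U, ∀ u' ∈ U, H.h u u' = 0) → (∀ u ∈ U, H.h u w = 0) →
      (∀ u ∈ Submodule.span F {w} ⊔ U, P.ok u 0) ∧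
      (∀ u ∈ Submodule.span F {w} ⊔ U, ∀ u' ∈ Submodule.span F {w} ⊔ U, H.h u u' = 0) := by
    intro w U hw hU hUU hwU
    have hwU' : ∀ u ∈ U, H.h w u = 0 := fun u hu => H.orth_symm (hwU u hu)
    constructor
    · intro u hu
      obtain ⟨y, hy, z, hz, rfl⟩ := Submodule.mem_sup.1 hu
      obtain ⟨s, rfl⟩ := Submodule.mem_span_singleton.1 hy
      exact P.sing_add (P.sing_smul hw s) (hU z hz) (by rw [H.smul_right, hwU z hz, mul_zero])
    · intro u hu u' hu'
      obtain ⟨y, hy, z, hz, rfl⟩ := Submodule.mem_sup.1 hu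
      obtain ⟨s, rfl⟩ := Submodule.mem_span_singleton.1 hy
      obtain ⟨y', hy', z', hz', rfl⟩ := Submodule.mem_sup.1 hu'
      obtain ⟨s', rfl⟩ := Submodule.mem_span_singleton.1 hy'
      simp only [H.add_left, H.add_right, H.smul_left, H.smul_right, P.iso hw, hwU z hz,
        hwU' z' hz', hUU z hz z' hz', mul_zero, add_zero]
  have mf : ∀ u, u ∈ perp H {f} ↔ H.h u f = 0 := by intro u; rw [mem_perp]; simp
  have me : ∀ u, u ∈ perp H {e} ↔ H.h u e = 0 := by intro u; rw [mem_perp]; simp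
  have k1 := key _ (T ⊓ perp H {f}) s1 (fun u hu => h2 u hu.1)
    (fun u hu u' hu' => h3 u hu.1 u' hu'.1) (by
      intro u hu
      rw [H.add_right, H.add_right, H.smul_right, h3 u hu.1 e he, hTA u hu.1 v1 hv1,
        (mf u).1 hu.2, mul_zero, add_zero, add_zero])
  have k2 := key _ (T' ⊓ perp H {e}) s2 (fun u hu => h4 u hu.1)
    (fun u hu u' hu' => h5 u hu.1 u' hu'.1) (by
      intro u hu
      rw [H.add_right, H.add_right, H.smul_right, h5 u hu.1 f hf, hTA' u hu.1 v2 hv2,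
        (me u).1 hu.2, mul_zero, add_zero, add_zero])
  have k3 := key _ ⊥ s3 (fun u hu => by rw [(Submodule.mem_bot F).1 hu]; exact P.zero)
    (fun u hu u' _ => by rw [(Submodule.mem_bot F).1 hu]; exact H.zero_left _)
    (fun u hu => by rw [(Submodule.mem_bot F).1 hu]; exact H.zero_left _)
  obtain ⟨Tf, hTf⟩ : ∃ Tf : Fin 5 → Submodule F V, Tf = ![T, T',
    Submodule.span F {e + v1 + c1 • f} ⊔ (T ⊓ perp H {f}),
    Submodule.span F {e + v2 + c2 • f} ⊔ (T' ⊓ perp H {e}),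
    Submodule.span F {e + (v1 + v2) + c3 • f} ⊔ ⊥] := ⟨_, rfl⟩
  have t0 : Tf 0 = T := by rw [hTf]; rfl
  have t1 : Tf 1 = T' := by rw [hTf]; rfl
  have t2 : Tf 2 = Submodule.span F {e + v1 + c1 • f} ⊔ (T ⊓ perp H {f}) := by rw [hTf]; rfl
  have t3 : Tf 3 = Submodule.span F {e + v2 + c2 • f} ⊔ (T' ⊓ perp H {e}) := by rw [hTf]; rfl
  have t4 : Tf 4 = Submodule.span F {e + (v1 + v2) + c3 • f} ⊔ ⊥ := by rw [hTf]; rfl
  refine ⟨Tf, ?_, ?_, ?_, ?_⟩
  · intro i
    fin_cases i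
    · change Tf 0 ≤ W; rw [t0]; exact hTW
    · change Tf 1 ≤ W; rw [t1]; exact hTW'
    · change Tf 2 ≤ W; rw [t2]
      exact sup_le ((Submodule.span_singleton_le_iff_mem _ _).2 (mW v1 hv1 c1))
        (inf_le_left.trans hTW)
    · change Tf 3 ≤ W; rw [t3]
      exact sup_le ((Submodule.span_singleton_le_iff_mem _ _).2 (mW v2 hv2 c2))
        (inf_le_left.trans hTW')
    · change Tf 4 ≤ W; rw [t4]
      exact sup_le ((Submodule.span_singleton_le_iff_mem _ _).2
        (mW _ (A.add_mem hv1 hv2) c3)) bot_le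
  · intro i
    fin_cases i
    · change ∀ u ∈ Tf 0, _; rw [t0]; exact h2
    · change ∀ u ∈ Tf 1, _; rw [t1]; exact h4
    · change ∀ u ∈ Tf 2, _; rw [t2]; exact k1.1
    · change ∀ u ∈ Tf 3, _; rw [t3]; exact k2.1
    · change ∀ u ∈ Tf 4, _; rw [t4]; exact k3.1
  · intro i
    fin_cases i
    · change ∀ u ∈ Tf 0, ∀ u' ∈ Tf 0, _; rw [t0]; exact h3
    · change ∀ u ∈ Tf 1, ∀ u' ∈ Tf 1, _; rw [t1]; exact h5
    · change ∀ u ∈ Tf 2, ∀ u' ∈ Tf 2, _; rw [t2]; exact k1.2
    · change ∀ u ∈ Tf 3, ∀ u' ∈ Tf 3, _; rw [t3]; exact k2.2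
    · change ∀ u ∈ Tf 4, ∀ u' ∈ Tf 4, _; rw [t4]; exact k3.2
  · intro i0 S hS
    have fin : T ≤ S → T' ≤ S → v1 ∈ S → v2 ∈ S → W ≤ S := by
      intro a1 a2 a3 a4
      rw [h1]
      refine sup_le (sup_le a1 a2) ?_
      intro a ha
      obtain ⟨α, β, rfl⟩ := hAs a ha
      exact S.add_mem (S.smul_mem _ a3) (S.smul_mem _ a4)
    have m0 : 0 ≠ i0 → T ≤ S := fun h => t0 ▸ hS 0 h
    have m1 : 1 ≠ i0 → T' ≤ S := fun h => t1 ▸ hS 1 h
    have m2 : 2 ≠ i0 → e + v1 + c1 • f ∈ S := fun h =>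
      hS 2 h (by rw [t2]; exact Submodule.mem_sup_left (Submodule.mem_span_singleton_self _))
    have m3 : 3 ≠ i0 → e + v2 + c2 • f ∈ S := fun h =>
      hS 3 h (by rw [t3]; exact Submodule.mem_sup_left (Submodule.mem_span_singleton_self _))
    have m4 : 4 ≠ i0 → e + (v1 + v2) + c3 • f ∈ S := fun h =>
      hS 4 h (by rw [t4]; exact Submodule.mem_sup_left (Submodule.mem_span_singleton_self _))
    have sub : ∀ (v : V) (c : F), e ∈ S → f ∈ S → e + v + c • f ∈ S → v ∈ S := by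
      intro v c a1 a2 a3
      have h6 := S.sub_mem (S.sub_mem a3 a1) (S.smul_mem c a2)
      have h7 : e + v + c • f - e - c • f = v := by abel
      rwa [h7] at h6
    by_cases hi0 : 0 ≠ i0
    · have a0 := m0 hi0
      have ae := a0 he
      by_cases hi1 : 1 ≠ i0
      · have a1 := m1 hi1
        have af := a1 hf
        by_cases hi2 : 2 ≠ i0
        · have a2 := sub _ _ ae af (m2 hi2)
          by_cases hi3 : 3 ≠ i0
          · exact fin a0 a1 a2 (sub _ _ ae af (m3 hi3))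
          · push Not at hi3
            subst hi3
            have a4 := sub _ _ ae af (m4 (by decide))
            refine fin a0 a1 a2 ?_
            have := S.sub_mem a4 a2
            rwa [add_sub_cancel_left] at this
        · push Not at hi2
          subst hi2
          have a3 := sub _ _ ae af (m3 (by decide))
          have a4 := sub _ _ ae af (m4 (by decide))
          refine fin a0 a1 ?_ a3
          have := S.sub_mem a4 a3
          rwa [add_sub_cancel_right] at this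
      · push Not at hi1
        subst hi1
        have a2 := m2 (by decide)
        have a3 := m3 (by decide)
        have a4 := m4 (by decide)
        have af : f ∈ S := by
          have h6 := S.sub_mem (S.sub_mem (S.add_mem a2 a3) a4) ae
          have h7 : e + v1 + c1 • f + (e + v2 + c2 • f) - (e + (v1 + v2) + c3 • f) - e =
              (H.ε⁻¹ * H.h v2 v1) • f := by
            rw [hc3']
            module
          rw [h7] at h6
          exact (S.smul_mem_iff (mul_ne_zero (inv_ne_zero H.ε_ne) h12)).1 h6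
        refine fin a0 ?_ (sub _ _ ae af a2) (sub _ _ ae af a3)
        intro t ht
        have h6 : t - (H.ε⁻¹ * H.h t e) • f ∈ T' ⊓ perp H {e} := by
          refine ⟨T'.sub_mem ht (T'.smul_mem _ hf), (me _).2 ?_⟩
          rw [H.sub_left, H.smul_left, hfe]
          field_simp [H.ε_ne]
          ring
        have h7 : t - (H.ε⁻¹ * H.h t e) • f ∈ S :=
          hS 3 (by decide) (by rw [t3]; exact Submodule.mem_sup_right h6)
        have h8 := S.add_mem h7 (S.smul_mem (H.ε⁻¹ * H.h t e) af)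
        rwa [sub_add_cancel] at h8
    · push Not at hi0
      subst hi0
      have a1 := m1 (by decide)
      have af := a1 hf
      have a2 := m2 (by decide)
      have a3 := m3 (by decide)
      have a4 := m4 (by decide)
      have ae : e ∈ S := by
        have h6 := S.sub_mem (S.sub_mem (S.add_mem a2 a3) a4) (S.smul_mem (c1 + c2 - c3) af)
        have h7 : e + v1 + c1 • f + (e + v2 + c2 • f) - (e + (v1 + v2) + c3 • f) -
            (c1 + c2 - c3) • f = e := by module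
        rwa [h7] at h6
      refine fin ?_ a1 (sub _ _ ae af a2) (sub _ _ ae af a3)
      intro t ht
      have h6 : t - H.h t f • e ∈ T ⊓ perp H {f} := by
        refine ⟨T.sub_mem ht (T.smul_mem _ he), (mf _).2 ?_⟩
        rw [H.sub_left, H.smul_left, hef]
        ring
      have h7 : t - H.h t f • e ∈ S :=
        hS 2 (by decide) (by rw [t2]; exact Submodule.mem_sup_right h6)
      have h8 := S.add_mem h7 (S.smul_mem (H.h t f) ae)
      rwa [sub_add_cancel] at h8

end Cfsg.Agent.H110.Fpr
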