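import Cfsg.Agent.H110.Fpr.Lin

/-!
# The rows for `PSL_n(q)`, `n ≥ 3`
-/

set_option autoImplicit false

namespace Cfsg.Agent.H110.Fpr

open Cfsg.Agent.H398.FPR Cfsg.Agent.H409 Cfsg.Agent.H221.PP
open Module (Dual finrank)

section

variable {F : Type*} [Field F] {V : Type*} [AddCommGroup V] [Module F V]

/-- the row from a rank two subgroup -/
theorem row_lin_E [Finite V] [FiniteDimensional F V] {p : ℕ} (hp : p.Prime) (hp2 : p ≠ 2)
    (hpF : (p : F) ≠ 0) {a b : SpecialLinearGroup F V} (hab : a * b = b * a) (ha : a ^ p = 1)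
    (hb : b ^ p = 1) (hb1 : b ≠ 1) (hind : ∀ i : ℕ, a * b ^ i ≠ 1) :
    FprRow (2 * p - 1) (p - 1) p (SpecialLinearGroup F V) := by
  obtain ⟨i, v, hv, hbv⟩ := exists_fix_of_rank_two (a := a.1) (b := b.1) hp hpF
    (congrArg Subtype.val hab) (congrArg Subtype.val ha) (congrArg Subtype.val hb)
    (fun h => hb1 (Subtype.ext h))
  obtain ⟨x, hx⟩ : ∃ x, x = a * b ^ i := ⟨_, rfl⟩
  have hxv : x.1 = a.1 * b.1 ^ i := by rw [hx]; rfl
  rw [← hxv] at hv
  have hx1 : x ≠ 1 := hx ▸ hind i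
  have hxp : x ^ p = 1 := by
    have h1 : Commute a (b ^ i) := (show Commute a b from hab).pow_right i
    rw [hx, h1.mul_pow, ha, one_mul, ← pow_mul, mul_comm, pow_mul, hb, one_pow]
  have hxp' : x.1 ^ p = 1 := congrArg Subtype.val hxp
  have hsup := fixS_sup_movS hxp' hpF
  have hcompl : IsCompl (movS p x.1) (fixS x.1) := by
    refine ⟨?_, codisjoint_iff.2 hsup⟩
    rw [Submodule.disjoint_def]
    intro w hw hw'
    exact eq_zero_of_mem hpF hw hw'
  refine row_lin (j := 0) (k := 1) hp (by rw [pow_one]; exact hxp) hcompl ?_ ?_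
    (movS_inv rfl) (fun w hw => hw) ?_ ?_
  · intro h
    rw [h, bot_sup_eq] at hsup
    apply hx1
    apply ext'
    intro w
    have hw : w ∈ fixS x.1 := by rw [hsup]; trivial
    exact hw
  · intro h
    have h1 : v ∈ fixS x.1 := hv
    rw [h, Submodule.mem_bot] at h1
    apply hbv
    rw [h1, map_zero]
  · rw [pow_zero, pow_one]
    exact movS_surj hpF
  · have := hp.two_le
    have : 3 ≤ p := by omega
    rw [pow_zero, mul_one]
    omega

end

section

variable {F : Type*} [Field F] {n : ℕ}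

theorem row_lin_two [Finite F] (hn : 3 ≤ n) (h2 : (2 : F) ≠ 0) :
    FprRow (2 * 2 - 1) (2 - 1) 2 (SpecialLinearGroup F (Fin n → F)) := by
  classical
  obtain ⟨i0, h0⟩ : ∃ i : Fin n, i = ⟨0, by omega⟩ := ⟨_, rfl⟩
  obtain ⟨i1, h1⟩ : ∃ i : Fin n, i = ⟨1, by omega⟩ := ⟨_, rfl⟩
  obtain ⟨i2, h3⟩ : ∃ i : Fin n, i = ⟨2, by omega⟩ := ⟨_, rfl⟩
  have h01 : i0 ≠ i1 := by rw [h0, h1]; simp
  have h20 : i2 ≠ i0 := by rw [h0, h3]; simp
  have h21 : i2 ≠ i1 := by rw [h1, h3]; simp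
  clear h0 h1 h3
  obtain ⟨e, he⟩ : ∃ e : Fin n → (Fin n → F), e = fun i => Pi.single i (1 : F) := ⟨_, rfl⟩
  have eii : ∀ i, e i i = 1 := fun i => by rw [he]; simp
  have eij : ∀ i j, i ≠ j → e i j = 0 := fun i j h => by rw [he]; simp [h.symm]
  let φ : Fin n → Dual F (Fin n → F) := fun i => LinearMap.proj i
  have hφ : ∀ i v, φ i v = v i := fun i v => rfl
  have k1 : φ i1 (-e i0) = 0 := by rw [hφ, Pi.neg_apply, eij _ _ h01, neg_zero]
  have k2 : φ i0 (e i1) = 0 := by rw [hφ, eij _ _ h01.symm]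
  obtain ⟨x, hx⟩ : ∃ x, x = tv (φ i1) (-e i0) k1 * tv (φ i0) (e i1) k2 * tv (φ i1) (-e i0) k1 :=
    ⟨_, rfl⟩
  have hxv : ∀ v, x v = v - (v i0 + v i1) • e i0 + (v i0 - v i1) • e i1 := by
    intro v
    rw [hx]
    simp only [mul_app, tv_apply, hφ, Pi.add_apply, Pi.smul_apply, Pi.neg_apply, eii,
      eij _ _ h01, smul_eq_mul, mul_zero, mul_one, neg_zero, add_zero]
    module
  have hx2 : ∀ v, (x ^ 2) v = v - (2 * v i0) • e i0 - (2 * v i1) • e i1 := by
    intro v
    rw [pow_two, mul_app, hxv, hxv]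
    simp only [Pi.add_apply, Pi.sub_apply, Pi.smul_apply, eii,
      eij _ _ h01, eij _ _ h01.symm, smul_eq_mul, mul_zero, mul_one, add_zero, sub_zero]
    module
  have hx4 : x ^ 2 ^ 2 = 1 := by
    have : (2 : ℕ) ^ 2 = 2 * 2 := by norm_num
    rw [this, pow_mul]
    apply ext'
    intro v
    rw [pow_two, mul_app, hx2, hx2]
    simp only [Pi.sub_apply, Pi.smul_apply, eii,
      eij _ _ h01, eij _ _ h01.symm, smul_eq_mul, mul_zero, mul_one, sub_zero]
    change _ = v
    module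
  let A : Submodule F (Fin n → F) :=
    { carrier := {v | ∀ i, i ≠ i0 → i ≠ i1 → v i = 0}
      add_mem' := fun {a b} ha hb i hi hi' => by rw [Pi.add_apply, ha i hi hi', hb i hi hi', add_zero]
      zero_mem' := fun i _ _ => rfl
      smul_mem' := fun c v hv i hi hi' => by rw [Pi.smul_apply, hv i hi hi', smul_zero] }
  let B : Submodule F (Fin n → F) :=
    { carrier := {v | v i0 = 0 ∧ v i1 = 0}
      add_mem' := fun {a b} ha hb => ⟨by rw [Pi.add_apply, ha.1, hb.1, add_zero],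
        by rw [Pi.add_apply, ha.2, hb.2, add_zero]⟩
      zero_mem' := ⟨rfl, rfl⟩
      smul_mem' := fun c v hv => ⟨by rw [Pi.smul_apply, hv.1, smul_zero],
        by rw [Pi.smul_apply, hv.2, smul_zero]⟩ }
  have eA0 : e i0 ∈ A := fun i hi _ => eij _ _ hi.symm
  have eA1 : e i1 ∈ A := fun i _ hi => eij _ _ hi.symm
  have eB2 : e i2 ∈ B := ⟨eij _ _ h20, eij _ _ h21⟩
  have hAe : ∀ v ∈ A, v = v i0 • e i0 + v i1 • e i1 := by
    intro v hv
    funext i
    rw [Pi.add_apply, Pi.smul_apply, Pi.smul_apply, smul_eq_mul, smul_eq_mul]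
    by_cases hi0 : i = i0
    · rw [hi0, eii, eij _ _ h01.symm]; ring
    · by_cases hi1 : i = i1
      · rw [hi1, eii, eij _ _ h01]; ring
      · rw [hv i hi0 hi1, eij _ _ (Ne.symm hi0), eij _ _ (Ne.symm hi1)]; ring
  have hcompl : IsCompl A B := by
    refine ⟨?_, ?_⟩
    · rw [Submodule.disjoint_def]
      intro v hv hv'
      rw [hAe v hv, hv'.1, hv'.2, zero_smul, zero_smul, add_zero]
    · rw [codisjoint_iff, eq_top_iff]
      intro v _
      have e1 : v = (v i0 • e i0 + v i1 • e i1) + (v - (v i0 • e i0 + v i1 • e i1)) := by abel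
      rw [e1]
      refine Submodule.add_mem_sup (A.add_mem (A.smul_mem _ eA0) (A.smul_mem _ eA1)) ⟨?_, ?_⟩
      · simp only [Pi.sub_apply, Pi.add_apply, Pi.smul_apply, eii, eij _ _ h01.symm, smul_eq_mul]
        ring
      · simp only [Pi.sub_apply, Pi.add_apply, Pi.smul_apply, eii, eij _ _ h01, smul_eq_mul]
        ring
  refine row_lin (x := x) (j := 1) (k := 2) Nat.prime_two hx4 hcompl ?_ ?_ ?_ ?_ ?_ (by norm_num)
  · intro h
    rw [h, Submodule.mem_bot] at eA0
    have := congrFun eA0 i0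
    rw [eii] at this
    exact one_ne_zero this
  · intro h
    rw [h, Submodule.mem_bot] at eB2
    have := congrFun eB2 i2
    rw [eii] at this
    exact one_ne_zero this
  · intro v hv
    rw [hxv]
    exact A.add_mem (A.sub_mem hv (A.smul_mem _ eA0)) (A.smul_mem _ eA1)
  · intro v hv
    rw [hxv, hv.1, hv.2]
    simp
  · intro v hv
    refine ⟨(-2 : F)⁻¹ • v, A.smul_mem _ hv, ?_⟩
    rw [pow_one, hx2]
    simp only [Pi.smul_apply, smul_eq_mul]
    conv_rhs => rw [hAe v hv]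
    have h5 : (2 : F) * ((-2 : F)⁻¹ * v i0) = - v i0 := by field_simp
    have h6 : (2 : F) * ((-2 : F)⁻¹ * v i1) = - v i1 := by field_simp
    rw [h5, h6]
    module

/-- **The row for `PSL_n(q)`, `n ≥ 3`.** -/
theorem row_PSL [Finite F] (hn : 3 ≤ n) {p : ℕ} (hp : p.Prime) (hpF : (p : F) ≠ 0)
    (hE : p = 2 ∨ ∃ P : Sylow p (Matrix.ProjectiveSpecialLinearGroup (Fin n) F), ¬ IsCyclic P) :
    FprRow (2 * p - 1) (p - 1) p (Matrix.ProjectiveSpecialLinearGroup (Fin n) F) := by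
  have hfin0 : Finite ((Fin n → F) ≃ₗ[F] (Fin n → F)) := instFin
  have hfin : Finite (SpecialLinearGroup F (Fin n → F)) := inferInstance
  let e : SpecialLinearGroup F (Fin n → F) ≃* Matrix.SpecialLinearGroup (Fin n) F :=
    Matrix.SpecialLinearGroup.toLin'_equiv.symm
  let f : SpecialLinearGroup F (Fin n → F) →* Matrix.ProjectiveSpecialLinearGroup (Fin n) F :=
    (QuotientGroup.mk' (Subgroup.center (Matrix.SpecialLinearGroup (Fin n) F))).comp e.toMonoidHom
  have hf : Function.Surjective f := (QuotientGroup.mk'_surjective _).comp e.surjective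
  refine FprRow.of_surjective hp f hf ?_
  rcases eq_or_ne p 2 with rfl | hp2
  · exact row_lin_two hn (by exact_mod_cast hpF)
  · obtain ⟨P, hP⟩ := hE.resolve_left hp2
    have := Fact.mk hp
    obtain ⟨a, b, hab, ha, hb, hb1, hind⟩ := exists_rank_two hp2 f hf P hP
    exact row_lin_E hp hp2 hpF hab ha hb hb1 hind

end

end Cfsg.Agent.H110.Fpr
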