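import Cfsg.Agent.TitsThree.SiegelGen

/-!
# Generation of the group of all Siegel elements by two opposite radicals
-/

set_option autoImplicit false

namespace Cfsg.Agent.H110.Fpr

open Cfsg.Agent.TitsThree.Siegel Cfsg.Agent.TitsThree.SiegelGen

variable {F : Type*} [Field F] {V : Type*} [AddCommGroup V] [Module F V]
variable {H : HForm F V} (P : PQ H)

/-- The group generated by all Siegel elements. -/
def SG : Subgroup (V ≃ₗ[F] V) :=
  Subgroup.closure {g | ∃ (u w : V) (c : F) (hu : H.h u u = 0) (hw : H.h u w = 0),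
    P.ok u 0 ∧ P.ok w c ∧ g = H.sie u w c hu hw}

theorem sie_mem_SG {u w : V} {c : F} (hu : H.h u u = 0) (hw : H.h u w = 0) (hus : P.ok u 0)
    (hwc : P.ok w c) : H.sie u w c hu hw ∈ SG P :=
  Subgroup.subset_closure ⟨u, w, c, hu, hw, hus, hwc, rfl⟩

theorem SG_le {D : Subgroup (V ≃ₗ[F] V)}
    (h : ∀ (u w : V) (c : F) (hu : H.h u u = 0) (hw : H.h u w = 0),
      P.ok u 0 → P.ok w c → H.sie u w c hu hw ∈ D) : SG P ≤ D := by
  unfold SG
  rw [Subgroup.closure_le]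
  rintro _ ⟨u, w, c, hu, hw, hus, hwc, rfl⟩
  exact h u w c hu hw hus hwc

variable {P}

/-- One hyperbolic pair: reduction step. -/
theorem red {D : Subgroup (V ≃ₗ[F] V)} {p r : V} (hp : Zt P D Set.univ p)
    (hr : Zt P D Set.univ r) (hps : P.ok p 0) (hrs : P.ok r 0) {u w : V} {c : F}
    (hus : P.ok u 0) (hwc : P.ok w c) (huu : H.h u u = 0) (huw : H.h u w = 0)
    (hup : H.h u p ≠ 0) (hrp : H.h r p ≠ 0) : H.sie u w c huu huw ∈ D := by
  have hpp := P.iso hps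
  have hrr := P.iso hrs
  obtain ⟨β, hβ⟩ : ∃ β, β = H.h u p / H.h r p := ⟨_, rfl⟩
  have hβ0 : β ≠ 0 := by rw [hβ]; exact div_ne_zero hup hrp
  obtain ⟨x, d, hx, hxd, hmap⟩ := WFrame.exists_map (P := P) (p := p) (r := β • r) (u := u) hps
    (P.sing_smul hrs β) hus hup (by rw [H.smul_left, hβ, div_mul_cancel₀ _ hrp]) hpp
  have hgK : H.sie p x d hpp hx ∈ D := hp x d hpp hx (Set.mem_univ _) hxd
  have hgi : H.IsIso (H.sie p x d hpp hx) := P.isIso_sie hpp hx hxd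
  obtain ⟨g, hg⟩ : ∃ g, g = H.sie p x d hpp hx := ⟨_, rfl⟩
  rw [← hg] at hgK hgi hmap
  have hginv : g⁻¹ u = β • r := by
    rw [← hmap]; exact g.symm_apply_apply _
  have hgi' : H.IsIso g⁻¹ := HForm.IsIso.inv H hgi
  have hokg : P.ok (g⁻¹ w) c := by
    rw [hg, H.sie_inv]
    exact P.ok_sie _ _ hps (P.inv hxd) hwc
  have h1 : H.h (β • r) (g⁻¹ w) = 0 := by rw [← hginv, hgi', huw]
  have hrw : H.h r (g⁻¹ w) = 0 := by
    rw [H.smul_left] at h1
    exact (mul_eq_zero.1 h1).resolve_left hβ0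
  have h2 : H.h (β • r) (β • r) = 0 := by rw [H.smul_left, H.smul_right, hrr]; simp
  have h3 : H.sie (β • r) (g⁻¹ w) c h2 h1 ∈ D := by
    rw [H.sie_smul r (g⁻¹ w) c β hrr hrw]
    refine hr _ _ _ _ (Set.mem_univ _) ?_
    have := P.smul (H.σ β) hokg
    rw [H.σσ] at this
    exact P.congr this rfl (by ring)
  have h4 := D.mul_mem (D.mul_mem hgK h3) (D.inv_mem hgK)
  rw [H.conj_sie hgi] at h4
  have e7 : g (g⁻¹ w) = w := g.apply_symm_apply w
  rwa [H.sie_congr _ _ huu huw hmap e7 rfl] at h4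

/-- **Generation by a hyperbolic pair.** -/
theorem all_of_pair {D : Subgroup (V ≃ₗ[F] V)} {p r : V} (hp : Zt P D Set.univ p)
    (hr : Zt P D Set.univ r) (hps : P.ok p 0) (hrs : P.ok r 0) (hrp : H.h r p ≠ 0)
    (hnd : ∀ v : V, P.ok v 0 → v ≠ 0 → ∃ w, H.h v w ≠ 0) : SG P ≤ D := by
  have hpr : H.h p r ≠ 0 := fun h => hrp (H.orth_symm h)
  have hpp := P.iso hps
  have hrr := P.iso hrs
  apply SG_le
  intro u w c huu huw hus hwc
  by_cases h1 : H.h u p ≠ 0
  · exact red hp hr hps hrs hus hwc huu huw h1 hrp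
  by_cases h2 : H.h u r ≠ 0
  · exact red hr hp hrs hps hus hwc huu huw h2 hpr
  push Not at h1 h2
  by_cases hu0 : u = 0
  · have : H.sie u w c huu huw = 1 := by
      ext v
      rw [H.sie_apply, hu0, H.zero_right]; simp
    rw [this]; exact D.one_mem
  obtain ⟨y, hy⟩ := hnd u hus hu0
  -- make `y` orthogonal to `p`
  obtain ⟨z, hzp, hz⟩ : ∃ z, H.h p z = 0 ∧ H.h u z ≠ 0 := by
    refine ⟨y - H.σ (H.h p y / H.h p r) • r, ?_, ?_⟩
    · rw [H.sub_right, H.smul_right, H.σσ, div_mul_cancel₀ _ hpr, sub_self]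
    · rw [H.sub_right, H.smul_right, h2, mul_zero, sub_zero]
      exact hy
  obtain ⟨d, hd⟩ := P.ex z
  -- conjugate by `S(p, z, d)`
  have hg : H.sie p z d hpp hzp ∈ D := hp z d hpp hzp (Set.mem_univ _) hd
  have hgi : H.IsIso (H.sie p z d hpp hzp) := P.isIso_sie hpp hzp hd
  obtain ⟨g, hgdef⟩ : ∃ g, g = H.sie p z d hpp hzp := ⟨_, rfl⟩
  rw [← hgdef] at hg hgi
  have hgu : g u = u - (H.ε⁻¹ * H.h u z) • p := by
    rw [hgdef, H.sie_apply, h1]; simp
  have h3 : H.h (g u) r ≠ 0 := by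
    rw [hgu, H.sub_left, H.smul_left, h2, zero_sub, neg_ne_zero]
    exact mul_ne_zero (mul_ne_zero (inv_ne_zero H.ε_ne) hz) hpr
  have hgus : P.ok (g u) 0 := by rw [hgdef]; exact P.ok_sie hpp hzp hps hd hus
  have hgwc : P.ok (g w) c := by rw [hgdef]; exact P.ok_sie hpp hzp hps hd hwc
  have h4 : H.sie (g u) (g w) c (by rw [hgi, huu]) (by rw [hgi, huw]) ∈ D :=
    red hr hp hrs hps hgus hgwc _ _ h3 hpr
  rw [← H.conj_sie hgi u w c huu huw] at h4
  have h5 := D.mul_mem (D.mul_mem (D.inv_mem hg) h4) hg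
  have h6 : g⁻¹ * (g * H.sie u w c huu huw * g⁻¹) * g = H.sie u w c huu huw := by group
  rwa [h6] at h5

/-- A singular partner. -/
theorem exists_partner {a b : V} (ha : P.ok a 0) (hab : H.h a b ≠ 0) :
    ∃ s : F, P.ok (b + s • a) 0 ∧ H.h a (b + s • a) = H.h a b := by
  obtain ⟨c, hc⟩ := P.ex b
  refine ⟨H.ε * c / H.h a b, ?_, ?_⟩
  · refine P.congr (P.add hc (P.sing_smul ha (H.ε * c / H.h a b))) rfl ?_
    rw [H.smul_left, div_mul_cancel₀ _ hab, add_zero, ← mul_assoc, inv_mul_cancel₀ H.ε_ne,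
      one_mul, sub_self]
  · rw [H.add_right, H.smul_right, P.iso ha, mul_zero, add_zero]

theorem exists_smul_eq_neg_eps {u u' : V} (h : H.h u u' ≠ 0) :
    ∃ s : F, H.h u (s • u') = -H.ε := by
  refine ⟨H.σ (-H.ε / H.h u u'), ?_⟩
  rw [H.smul_right, H.σσ, div_mul_cancel₀ _ h]

/-- commuting a Siegel element past an isometry: conjugation inside `D` -/
theorem conj_mem {D : Subgroup (V ≃ₗ[F] V)} {g : V ≃ₗ[F] V} (hg : g ∈ D) (hgi : H.IsIso g)
    {u w u' w' : V} {c : F} (hu : H.h u u = 0) (hw : H.h u w = 0) (h : H.sie u w c hu hw ∈ D)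
    (hu' : H.h u' u' = 0) (hw' : H.h u' w' = 0) (e1 : g u = u') (e2 : g w = w') :
    H.sie u' w' c hu' hw' ∈ D := by
  have h4 := D.mul_mem (D.mul_mem hg h) (D.inv_mem hg)
  rw [H.conj_sie hgi] at h4
  rwa [H.sie_congr _ _ hu' hw' e1 e2 rfl] at h4

/-- The product formula `S(a + t p, w, c) = S(a, w, c) S(p, σ t w, t σ t c) S(p, s a, 0)`. -/
theorem sie_add_left {a p w : V} {c t s : F} (haa : H.h a a = 0) (hpp : H.h p p = 0)
    (hap : H.h a p = 0) (haw : H.h a w = 0) (hpw : H.h p w = 0)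
    (hwc : H.h w w = -(H.ε * c + H.σ c)) (hs : s = -(H.ε⁻¹ * H.σ (c * t)))
    (hatp : H.h (a + t • p) (a + t • p) = 0) (hatw : H.h (a + t • p) w = 0)
    (hpw' : H.h p (H.σ t • w) = 0) (hpsa : H.h p (s • a) = 0) :
    H.sie (a + t • p) w c hatp hatw =
      H.sie a w c haa haw * H.sie p (H.σ t • w) (t * H.σ t * c) hpp hpw' *
        H.sie p (s • a) 0 hpp hpsa := by
  have hpa : H.h p a = 0 := H.orth_symm hap
  have hwp : H.h w p = 0 := H.orth_symm hpw
  have hwa : H.h w a = 0 := H.orth_symm haw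
  ext v
  change _ = H.sie a w c haa haw (H.sie p (H.σ t • w) (t * H.σ t * c) hpp hpw'
    (H.sie p (s • a) 0 hpp hpsa v))
  subst hs
  simp only [H.sie_apply, H.add_left, H.sub_left, H.add_right, H.smul_left, H.smul_right,
    hap, hwp, hwa, haw, haa, hpp, hpw, hpa, H.σσ, mul_zero, zero_mul, zero_smul, add_zero,
    sub_zero, hwc, map_neg, map_mul, H.σε']
  have := H.ε_ne
  have e1 : H.ε⁻¹ * H.ε = 1 := inv_mul_cancel₀ this
  match_scalars <;> field_simp <;> ring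

end Cfsg.Agent.H110.Fpr
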