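import Cfsg.Agent.H110.Fpr.RadIV

/-!
# Generation by radicals attached to singular vectors of a nondegenerate subspace
-/

set_option autoImplicit false

namespace Cfsg.Agent.H110.Fpr

open Cfsg.Agent.TitsThree.Siegel Cfsg.Agent.TitsThree.SiegelGen Cfsg.Agent.H398.FPR

variable {F : Type*} [Field F] {V : Type*} [AddCommGroup V] [Module F V]
variable {H : HForm F V} {P : PQ H}

theorem zt_univ_of {V1 V2 : Submodule F V} {S : Set V} {a : V} {D : Subgroup (V ≃ₗ[F] V)}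
    (htop : V1 ⊔ V2 = ⊤) (h12 : ∀ m ∈ V1, ∀ v ∈ V2, H.h m v = 0)
    (hS : ∀ u ∈ S, P.ok u 0) (hSV : ∀ u ∈ S, u ∈ V2) (hspan : V2 ≤ Submodule.span F S)
    (ha : a ∈ V1) (has : P.ok a 0)
    (h1 : ∀ u ∈ S, Rt H D u a)
    (h2 : ∀ u ∈ S, ∀ m ∈ V1, ∃ (c : F) (hu : H.h u u = 0) (hm : H.h u m = 0),
      P.ok m c ∧ H.sie u m c hu hm ∈ D)
    (h4 : Zt P D {0} a)
    (h5 : ∃ u ∈ S, ∃ u' ∈ S, H.h u u' ≠ 0) : Zt P D Set.univ a := by
  have haa := P.iso has
  have hua : ∀ u ∈ V2, H.h u a = 0 := fun u hu => H.orth_symm (h12 a ha u hu)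
  have hau : ∀ u ∈ V2, H.h a u = 0 := fun u hu => h12 a ha u hu
  have r1 : ∀ u ∈ S, Rt H D a u := fun u hu =>
    Rt.symm (P.iso (hS u hu)) haa (hua u (hSV u hu)) (h1 u hu)
  -- the `V2` part
  have z2 : ∀ v ∈ V2, Zt P D {v} a := by
    intro v hv
    have hv' : v ∈ Submodule.span F S := hspan hv
    have : (∀ s : F, Zt P D {s • v} a) ∧ H.h a v = 0 := by
      clear hv
      induction hv' using Submodule.span_induction with
      | mem u hu => exact ⟨fun s => Zt.of_rt P has (hS u hu) (hau u (hSV u hu)) h4 (r1 u hu) s,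
          hau u (hSV u hu)⟩
      | zero =>
        refine ⟨fun s => ?_, H.zero_right a⟩
        rw [smul_zero]
        exact h4
      | add v w _ _ ih1 ih2 =>
        refine ⟨fun s => ?_, by rw [H.add_right, ih1.2, ih2.2, add_zero]⟩
        rw [smul_add]
        exact Zt.add P has h4 (ih1.1 s) (ih2.1 s) (by rw [H.smul_right, ih1.2, mul_zero])
          (by rw [H.smul_right, ih2.2, mul_zero])
      | smul t v _ ih =>
        refine ⟨fun s => ?_, by rw [H.smul_right, ih.2, mul_zero]⟩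
        rw [smul_smul]
        exact ih.1 (s * t)
    have h6 := this.1 1
    rwa [one_smul] at h6
  -- the `V1` part
  have z1 : ∀ b ∈ V1, H.h a b = 0 → Zt P D {b} a := by
    intro b hb hab x c hx hax hxb hxc
    rw [Set.mem_singleton_iff] at hxb
    subst hxb
    obtain ⟨u, hu, u', hu', huu'⟩ := h5
    obtain ⟨s, hs⟩ := exists_smul_eq_neg_eps huu'
    have hsu' : H.h a (s • u') = 0 := hau _ (V2.smul_mem _ (hSV u' hu'))
    have hg : H.sie a (s • u') 0 haa hsu' ∈ D := r1 u' hu' s haa hsu'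
    have hgi : H.IsIso (H.sie a (s • u') 0 haa hsu') :=
      P.isIso_sie _ _ (P.sing_smul (hS u' hu') s)
    obtain ⟨c₁, huu, hux, hc₁, hmem⟩ := h2 u hu x hb
    have e1 : H.sie a (s • u') 0 haa hsu' u = u + (1 : F) • a := by
      rw [H.sie_apply, hua u (hSV u hu), hs]
      have e3 : H.ε⁻¹ * -H.ε = -1 := by rw [mul_neg, inv_mul_cancel₀ H.ε_ne]
      rw [e3]
      module
    have hxa : H.h x a = 0 := H.orth_symm hab
    have e2 : H.sie a (s • u') 0 haa hsu' x = x := by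
      rw [H.sie_apply, hxa, h12 x hb _ (V2.smul_mem _ (hSV u' hu'))]
      simp
    have h6 : H.h (u + (1 : F) • a) (u + (1 : F) • a) = 0 := by rw [← e1, hgi, huu]
    have h7 : H.h (u + (1 : F) • a) x = 0 := by
      rw [H.add_left, H.smul_left, hux, hab]; ring
    have h8 := conj_mem hg hgi huu hux hmem h6 h7 e1 e2
    obtain ⟨t, ht⟩ : ∃ t : F, t = -(H.ε⁻¹ * H.σ (c₁ * 1)) := ⟨_, rfl⟩
    have h9 : H.h a (H.σ (1 : F) • x) = 0 := by rw [H.smul_right, hab, mul_zero]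
    have h10 : H.h a (t • u) = 0 := hau _ (V2.smul_mem _ (hSV u hu))
    rw [sie_add_left huu haa (hua u (hSV u hu)) hux hab (P.hh hc₁) ht h6 h7 h9 h10] at h8
    have h11 : H.sie a (t • u) 0 haa h10 ∈ D := r1 u hu t haa h10
    have h12' := (D.mul_mem_cancel_right h11).1 h8
    have h13 := (D.mul_mem_cancel_left hmem).1 h12'
    have h14 := h4 0 _ haa (H.zero_right a) rfl (P.sub hxc hc₁)
    have h15 := D.mul_mem h13 h14
    rwa [H.sie_mul, H.sie_congr _ _ hx hax rfl (by rw [map_one, one_smul, add_zero]) (c' := c)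
      (by rw [map_one, H.zero_left]; ring)] at h15
  intro w c _ haw _ hwc
  have hw : w ∈ V1 ⊔ V2 := by rw [htop]; trivial
  obtain ⟨b, hb, v, hv, rfl⟩ := Submodule.mem_sup.1 hw
  have hav := hau v hv
  have hab : H.h a b = 0 := by
    rw [H.add_right, hav, add_zero] at haw
    exact haw
  exact Zt.add P has h4 (z1 b hb hab) (z2 v hv) hab hav (b + v) c haa haw rfl hwc

/-- **Generation, type IV.** -/
theorem radIV_gen {V1 V2 : Submodule F V} {S : Set V} {a a' : V} {D : Subgroup (V ≃ₗ[F] V)}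
    (htop : V1 ⊔ V2 = ⊤) (h12 : ∀ m ∈ V1, ∀ v ∈ V2, H.h m v = 0)
    (hS : ∀ u ∈ S, P.ok u 0) (hSV : ∀ u ∈ S, u ∈ V2) (hspan : V2 ≤ Submodule.span F S)
    (ha : a ∈ V1) (has : P.ok a 0) (ha' : a' ∈ V1) (has' : P.ok a' 0) (haa' : H.h a' a ≠ 0)
    (h1 : ∀ u ∈ S, Rt H D u a) (h1' : ∀ u ∈ S, Rt H D u a')
    (h2 : ∀ u ∈ S, ∀ m ∈ V1, ∃ (c : F) (hu : H.h u u = 0) (hm : H.h u m = 0),
      P.ok m c ∧ H.sie u m c hu hm ∈ D)
    (h4 : Zt P D {0} a) (h4' : Zt P D {0} a')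
    (h5 : ∃ u ∈ S, ∃ u' ∈ S, H.h u u' ≠ 0)
    (hVnd : ∀ v : V, P.ok v 0 → v ≠ 0 → ∃ w, H.h v w ≠ 0) : SG P ≤ D :=
  all_of_pair (zt_univ_of htop h12 hS hSV hspan ha has h1 h2 h4 h5)
    (zt_univ_of htop h12 hS hSV hspan ha' has' h1' h2 h4' h5) has has' haa' hVnd

end Cfsg.Agent.H110.Fpr
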