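import Cfsg.Agent.H110.Fpr.Expl

/-!
# Splitting of `V` under a `p`-element, and elementary abelian groups of rank two
-/

set_option autoImplicit false

namespace Cfsg.Agent.H110.Fpr

open Cfsg.Agent.TitsThree.Siegel Cfsg.Agent.TitsThree.SiegelGen Cfsg.Agent.H398.FPR
open Cfsg.Agent.H409

variable {F : Type*} [Field F] {V : Type*} [AddCommGroup V] [Module F V]

/-- the norm map `1 + x + ... + x^(p-1)` -/
def nrm (p : ℕ) (x : V ≃ₗ[F] V) : V →ₗ[F] V := ∑ i ∈ Finset.range p, ((x ^ i : V ≃ₗ[F] V) : V →ₗ[F] V)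

theorem nrm_apply (p : ℕ) (x : V ≃ₗ[F] V) (v : V) :
    nrm p x v = ∑ i ∈ Finset.range p, (x ^ i) v := by
  simp [nrm]

theorem map_nrm {p : ℕ} {x : V ≃ₗ[F] V} (hx : x ^ p = 1) (v : V) : x (nrm p x v) = nrm p x v := by
  rw [nrm_apply, map_sum]
  have h1 : ∀ i, x ((x ^ i) v) = (x ^ (i + 1)) v := by
    intro i; rw [pow_succ']; rfl
  simp only [h1]
  have h2 := Finset.sum_range_succ' (fun i => (x ^ i) v) p
  have h3 := Finset.sum_range_succ (fun i => (x ^ i) v) p
  rw [h3] at h2
  rw [hx, pow_zero] at h2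
  exact (add_right_cancel h2).symm

theorem nrm_of_fix {p : ℕ} {x : V ≃ₗ[F] V} {v : V} (h : x v = v) : nrm p x v = (p : F) • v := by
  have h1 : ∀ i, (x ^ i) v = v := by
    intro i
    induction i with
    | zero => rfl
    | succ i ih => rw [pow_succ']; change x ((x ^ i) v) = v; rw [ih, h]
  rw [nrm_apply]
  simp only [h1]
  rw [Finset.sum_const, Finset.card_range, Nat.cast_smul_eq_nsmul]

theorem nrm_comm {p : ℕ} {x y : V ≃ₗ[F] V} (h : x * y = y * x) (v : V) :
    nrm p x (y v) = y (nrm p x v) := by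
  rw [nrm_apply, nrm_apply, map_sum]
  apply Finset.sum_congr rfl
  intro i _
  have h1 : x ^ i * y = y * x ^ i := (Commute.pow_left (show Commute x y from h) i)
  exact congrArg (fun g : V ≃ₗ[F] V => g v) h1

/-- fixed space -/
def fixS (x : V ≃ₗ[F] V) : Submodule F V where
  carrier := {v | x v = v}
  add_mem' := fun {a b} ha hb => by
    change x (a + b) = a + b
    rw [map_add, show x a = a from ha, show x b = b from hb]
  zero_mem' := map_zero x
  smul_mem' := fun c v hv => by
    change x (c • v) = c • v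
    rw [map_smul, show x v = v from hv]

theorem mem_fixS {x : V ≃ₗ[F] V} {v : V} : v ∈ fixS x ↔ x v = v := Iff.rfl

/-- the complement -/
def movS (p : ℕ) (x : V ≃ₗ[F] V) : Submodule F V := LinearMap.ker (nrm p x)

theorem mem_movS {p : ℕ} {x : V ≃ₗ[F] V} {v : V} : v ∈ movS p x ↔ nrm p x v = 0 :=
  LinearMap.mem_ker

theorem fixS_sup_movS {p : ℕ} {x : V ≃ₗ[F] V} (hx : x ^ p = 1) (hpF : (p : F) ≠ 0) :
    movS p x ⊔ fixS x = ⊤ := by
  rw [eq_top_iff]
  intro v _
  have h1 : v = (v - (p : F)⁻¹ • nrm p x v) + (p : F)⁻¹ • nrm p x v := by abel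
  rw [h1]
  refine Submodule.add_mem_sup ?_ ((fixS x).smul_mem _ (map_nrm hx v))
  rw [mem_movS, map_sub, map_smul, nrm_of_fix (map_nrm hx v), smul_smul, inv_mul_cancel₀ hpF,
    one_smul, sub_self]

theorem eq_zero_of_mem {p : ℕ} {x : V ≃ₗ[F] V} (hpF : (p : F) ≠ 0) {v : V}
    (h1 : v ∈ movS p x) (h2 : x v = v) : v = 0 := by
  rw [mem_movS, nrm_of_fix h2] at h1
  exact (smul_eq_zero.1 h1).resolve_left hpF

theorem movS_inv {p : ℕ} {x y : V ≃ₗ[F] V} (h : x * y = y * x) :
    ∀ v ∈ movS p x, y v ∈ movS p x := by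
  intro v hv
  rw [mem_movS, nrm_comm h, mem_movS.1 hv, map_zero]

theorem movS_surj [Finite V] {p : ℕ} {x : V ≃ₗ[F] V} (hpF : (p : F) ≠ 0) :
    ∀ v ∈ movS p x, ∃ v' ∈ movS p x, x v' - v' = v := by
  intro v hv
  let f : movS p x → movS p x := fun w =>
    ⟨x w - w, (movS p x).sub_mem (movS_inv (x := x) (y := x) rfl (w : V) w.2) w.2⟩
  have hf : Function.Injective f := by
    intro a b hab
    have h1 : x a - a = x b - b := congrArg Subtype.val hab
    have h2 : x ((a : V) - b) = (a : V) - b := by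
      rw [map_sub]
      have h3 : x a = x b - b + a := by rw [← h1]; abel
      rw [h3]; abel
    have h3 := eq_zero_of_mem hpF ((movS p x).sub_mem a.2 b.2) h2
    exact Subtype.ext (sub_eq_zero.1 h3)
  obtain ⟨w, hw⟩ := (Finite.injective_iff_surjective.1 hf) ⟨v, hv⟩
  exact ⟨w, w.2, congrArg Subtype.val hw⟩

theorem orth_mov_fix {H : HForm F V} {p : ℕ} {x : V ≃ₗ[F] V} (hpF : (p : F) ≠ 0)
    (hxi : H.IsIso x) : ∀ m ∈ movS p x, ∀ v ∈ fixS x, H.h m v = 0 := by
  intro m hm v hv
  have h1 : ∀ i, (x ^ i) v = v := by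
    intro i
    induction i with
    | zero => rfl
    | succ i ih => rw [pow_succ']; change x ((x ^ i) v) = v; rw [ih]; exact hv
  have h2 : H.h (nrm p x m) v = (p : F) * H.h m v := by
    rw [nrm_apply]
    have h3 : ∀ s : Finset ℕ, H.h (∑ i ∈ s, (x ^ i) m) v = ∑ i ∈ s, H.h m v := by
      intro s
      induction s using Finset.induction_on with
      | empty => simp [H.zero_left]
      | insert j s hj ih =>
        rw [Finset.sum_insert hj, Finset.sum_insert hj, H.add_left, ih]
        congr 1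
        conv_lhs => rw [← h1 j]
        exact isIso_pow hxi j m v
    rw [h3, Finset.sum_const, Finset.card_range, nsmul_eq_mul]
  rw [mem_movS.1 hm, H.zero_left] at h2
  exact (mul_eq_zero.1 h2.symm).resolve_left hpF

/-- **Rank two.** -/
theorem exists_fix_of_rank_two {p : ℕ} (hp : p.Prime) (hpF : (p : F) ≠ 0) {a b : V ≃ₗ[F] V}
    (hab : a * b = b * a) (ha : a ^ p = 1) (hb : b ^ p = 1) (hb1 : b ≠ 1) :
    ∃ (i : ℕ) (v : V), (a * b ^ i) v = v ∧ b v ≠ v := by
  -- a moved vector
  obtain ⟨w, hw, hw0⟩ : ∃ w ∈ movS p b, w ≠ 0 := by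
    by_contra hcon
    push Not at hcon
    apply hb1
    ext v
    have hv : v ∈ movS p b ⊔ fixS b := by rw [fixS_sup_movS hb hpF]; trivial
    obtain ⟨m, hm, f, hf, rfl⟩ := Submodule.mem_sup.1 hv
    rw [hcon m hm, zero_add]
    exact hf
  have hcomm : ∀ i : ℕ, (a * b ^ i) * b = b * (a * b ^ i) := by
    intro i
    have h1 : Commute a b := hab
    exact (h1.mul_left ((Commute.refl b).pow_left i))
  have hxp : ∀ i : ℕ, (a * b ^ i) ^ p = 1 := by
    intro i
    have h1 : Commute a (b ^ i) := (show Commute a b from hab).pow_right i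
    rw [h1.mul_pow, ha, one_mul, ← pow_mul, mul_comm, pow_mul, hb, one_pow]
  -- the double sum
  have hsum : ∑ i ∈ Finset.range p, nrm p (a * b ^ i) w = (p : F) • w := by
    simp only [nrm_apply]
    rw [Finset.sum_comm]
    rw [Finset.sum_eq_single_of_mem 0 (Finset.mem_range.2 hp.pos)]
    · simp only [pow_zero]
      change ∑ i ∈ Finset.range p, w = _
      rw [Finset.sum_const, Finset.card_range, Nat.cast_smul_eq_nsmul]
    · intro j hj hj0
      have h1 : ∀ i, ((a * b ^ i) ^ j) w = (a ^ j) (((b ^ j) ^ i) w) := by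
        intro i
        have h2 : Commute a (b ^ i) := (show Commute a b from hab).pow_right i
        rw [h2.mul_pow, ← pow_mul, mul_comm i j, pow_mul]
        rfl
      simp only [h1]
      rw [← map_sum, ← nrm_apply]
      have h3 : (b ^ j) ^ p = 1 := by rw [← pow_mul, mul_comm, pow_mul, hb, one_pow]
      have h4 := map_nrm h3 w
      -- `b` is a power of `b ^ j`
      have h5 : b (nrm p (b ^ j) w) = nrm p (b ^ j) w := by
        have h6 : Nat.Coprime j p := by
          rw [Nat.coprime_comm, Nat.Prime.coprime_iff_not_dvd hp]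
          intro h7
          exact absurd (Nat.le_of_dvd (Nat.pos_of_ne_zero hj0) h7)
            (not_le.2 (Finset.mem_range.1 hj))
        obtain ⟨m, hm⟩ := Nat.exists_mul_mod_eq_one_of_coprime h6 hp.one_lt
        have h7 : b = (b ^ j) ^ m := by
          rw [← pow_mul]
          have h8 := Nat.div_add_mod (j * m) p
          rw [hm.2] at h8
          rw [← h8, pow_add, pow_mul, hb, one_pow, one_mul, pow_one]
        have h9 : ∀ i : ℕ, ((b ^ j) ^ i) (nrm p (b ^ j) w) = nrm p (b ^ j) w := by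
          intro i
          induction i with
          | zero => rfl
          | succ i ih =>
            rw [pow_succ' (b ^ j)]
            change (b ^ j) (((b ^ j) ^ i) (nrm p (b ^ j) w)) = _
            rw [ih, h4]
        have h10 := h9 m
        rwa [← h7] at h10
      have h6 : nrm p (b ^ j) w ∈ movS p b := by
        rw [nrm_apply]
        apply Submodule.sum_mem
        intro i _
        rw [← pow_mul]
        exact movS_inv (Commute.pow_right (Commute.refl b) (j * i)) w hw
      rw [eq_zero_of_mem hpF h6 h5, map_zero]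
  obtain ⟨i, hi⟩ : ∃ i, nrm p (a * b ^ i) w ≠ 0 := by
    by_contra hcon
    push Not at hcon
    rw [Finset.sum_eq_zero fun i _ => hcon i] at hsum
    rcases smul_eq_zero.1 hsum.symm with h | h
    · exact hpF h
    · exact hw0 h
  refine ⟨i, nrm p (a * b ^ i) w, map_nrm (hxp i) w, fun h => hi ?_⟩
  apply eq_zero_of_mem hpF _ h
  rw [nrm_apply]
  apply Submodule.sum_mem
  intro k _
  exact movS_inv (show b * (a * b ^ i) ^ k = (a * b ^ i) ^ k * b from
    (Commute.pow_left (show Commute (a * b ^ i) b from hcomm i) k).symm) w hw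

/-- Dimension bound: a nontrivial `p`-element needs dimension at least `κ`. -/
theorem le_finrank_of_moved [Finite F] [Finite V] {p : ℕ} (hp : p.Prime) {b : V ≃ₗ[F] V}
    (hb : b ^ p = 1) {W : Submodule F V} (hbW : ∀ w ∈ W, b w ∈ W) {κ : ℕ}
    (hκ : ∀ i, 0 < i → i < κ → ¬ p ∣ (Nat.card F) ^ i - 1) (hmov : ∃ w ∈ W, b w ≠ w)
    (hpF : ¬ p ∣ Nat.card F) : κ ≤ Module.finrank F W := by
  classical
  have := Fact.mk hp
  -- the action of `⟨b⟩` on `W`
  let Z := Subgroup.zpowers b
  have hZW : ∀ g ∈ Z, ∀ w ∈ W, g w ∈ W := by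
    intro g hg w hw
    obtain ⟨n, rfl⟩ := (isOfFinOrder_iff_pow_eq_one.2 ⟨p, hp.pos, hb⟩).mem_zpowers_iff_mem_range_orderOf.1 hg |> (fun h => by
      obtain ⟨n, _, hn⟩ := Finset.mem_image.1 h
      exact ⟨n, hn⟩ : _ → ∃ n : ℕ, b ^ n = g)
    exact pow_mem_sub hbW n w hw
  let act : MulAction Z W :=
    { smul := fun g w => ⟨(g : V ≃ₗ[F] V) w, hZW g g.2 w w.2⟩
      one_smul := fun w => rfl
      mul_smul := fun g g' w => rfl }
  have hsm : ∀ (g : Z) (w : W), ((g • w : W) : V) = (g : V ≃ₗ[F] V) w := fun _ _ => rfl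
  have hpg : IsPGroup p Z := by
    rintro ⟨g, hg⟩
    refine ⟨1, Subtype.ext ?_⟩
    obtain ⟨n, rfl⟩ := Subgroup.mem_zpowers_iff.1 hg
    change (b ^ n) ^ p ^ 1 = 1
    rw [pow_one, ← zpow_natCast, ← zpow_mul, mul_comm, zpow_mul, zpow_natCast, hb, one_zpow]
  have h1 := hpg.card_modEq_card_fixedPoints W
  -- the fixed points
  let C : Submodule F W := (fixS b).comap W.subtype
  have hC : Nat.card (MulAction.fixedPoints Z W) = Nat.card C := by
    apply Nat.card_congr
    refine Equiv.subtypeEquivRight fun w => ?_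
    rw [MulAction.mem_fixedPoints]
    constructor
    · intro h
      have h2 := h ⟨b, Subgroup.mem_zpowers b⟩
      exact congrArg Subtype.val h2
    · rintro h ⟨g, hg⟩
      apply Subtype.ext
      rw [hsm]
      obtain ⟨n, rfl⟩ := Subgroup.mem_zpowers_iff.1 hg
      have h3 : ∀ n : ℕ, (b ^ n) (w : V) = w := by
        intro n
        induction n with
        | zero => rfl
        | succ n ih => rw [pow_succ']; change b ((b ^ n) (w : V)) = w; rw [ih]; exact h
      cases n with
      | ofNat n => exact h3 n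
      | negSucc n =>
        change ((b ^ (n + 1))⁻¹) (w : V) = w
        have h4 : (b ^ (n + 1))⁻¹ ((b ^ (n + 1)) (w : V)) = w :=
          (b ^ (n + 1)).symm_apply_apply _
        rwa [h3] at h4
  rw [hC] at h1
  have hW : Nat.card W = (Nat.card F) ^ Module.finrank F W := Module.natCard_eq_pow_finrank
  have hC2 : Nat.card C = (Nat.card F) ^ Module.finrank F C := Module.natCard_eq_pow_finrank
  have hle : Module.finrank F C ≤ Module.finrank F W := Submodule.finrank_le C
  have hlt : Module.finrank F C < Module.finrank F W := by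
    apply Submodule.finrank_lt
    intro htop
    obtain ⟨w, hw, hwb⟩ := hmov
    apply hwb
    have h2 : (⟨w, hw⟩ : W) ∈ C := by rw [htop]; trivial
    exact h2
  rw [hW, hC2] at h1
  obtain ⟨d, hd⟩ := Nat.exists_eq_add_of_lt hlt
  have h2 : p ∣ Nat.card F ^ Module.finrank F W - Nat.card F ^ Module.finrank F C :=
    (Nat.modEq_iff_dvd' (Nat.pow_le_pow_right Nat.card_pos hle)).1 h1.symm
  have h3 : Nat.card F ^ Module.finrank F W - Nat.card F ^ Module.finrank F C =
      Nat.card F ^ Module.finrank F C * (Nat.card F ^ (d + 1) - 1) := by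
    rw [Nat.mul_sub, mul_one, ← pow_add]
    congr 2
  rw [h3] at h2
  rcases (Nat.Prime.dvd_mul hp).1 h2 with h4 | h4
  · exact absurd (hp.dvd_of_dvd_pow h4) hpF
  · by_contra hlt2
    push Not at hlt2
    exact hκ (d + 1) (Nat.succ_pos d) (by omega) h4

end Cfsg.Agent.H110.Fpr
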