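import Cfsg.Agent.H110.Fpr.Expl
import Cfsg.Agent.H110.Fpr.Split

/-!
# Minimal invariant subspaces of an element of prime order
-/

set_option autoImplicit false

namespace Cfsg.Agent.H110.Fpr

open Cfsg.Agent.TitsThree.Siegel Cfsg.Agent.TitsThree.SiegelGen

variable {F : Type*} [Field F] {V : Type*} [AddCommGroup V] [Module F V]

/-- invariant subspaces -/
def Inv (x : V ≃ₗ[F] V) (W : Submodule F V) : Prop := ∀ w ∈ W, x w ∈ W

/-- minimal invariant subspaces -/
structure IsMin (x : V ≃ₗ[F] V) (T : Submodule F V) : Prop where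
  inv : Inv x T
  ne : T ≠ ⊥
  min : ∀ S : Submodule F V, S ≤ T → Inv x S → S ≠ ⊥ → S = T

theorem Inv.inf {x : V ≃ₗ[F] V} {W W' : Submodule F V} (h : Inv x W) (h' : Inv x W') :
    Inv x (W ⊓ W') := fun w hw => ⟨h w hw.1, h' w hw.2⟩

theorem Inv.sup {x : V ≃ₗ[F] V} {W W' : Submodule F V} (h : Inv x W) (h' : Inv x W') :
    Inv x (W ⊔ W') := by
  intro w hw
  obtain ⟨a, ha, b, hb, rfl⟩ := Submodule.mem_sup.1 hw
  rw [map_add]
  exact Submodule.add_mem_sup (h a ha) (h' b hb)

theorem Inv.pow {x : V ≃ₗ[F] V} {W : Submodule F V} (h : Inv x W) (n : ℕ) : Inv (x ^ n) W := by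
  induction n with
  | zero => intro w hw; exact hw
  | succ n ih => intro w hw; rw [pow_succ]; exact ih _ (h w hw)

theorem Inv.symm_mem [Finite V] {x : V ≃ₗ[F] V} {W : Submodule F V} (h : Inv x W) :
    ∀ w ∈ W, ∃ w' ∈ W, x w' = w := by
  intro w hw
  let f : W → W := fun v => ⟨x v, h v v.2⟩
  have hf : Function.Injective f := fun a b hab => Subtype.ext (x.injective (congrArg Subtype.val hab))
  obtain ⟨v, hv⟩ := (Finite.injective_iff_surjective.1 hf) ⟨w, hw⟩
  exact ⟨v, v.2, congrArg Subtype.val hv⟩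

theorem exists_isMin [Finite V] {x : V ≃ₗ[F] V} {W : Submodule F V} (hW : Inv x W)
    (h0 : W ≠ ⊥) : ∃ T ≤ W, IsMin x T := by
  have : Finite (Submodule F V) := Finite.of_injective (fun S : Submodule F V => (S : Set V))
    SetLike.coe_injective
  obtain ⟨T, hT, hmin⟩ := Set.Finite.exists_minimal
    (s := {S : Submodule F V | S ≤ W ∧ Inv x S ∧ S ≠ ⊥}) (Set.toFinite _) ⟨W, le_rfl, hW, h0⟩
  refine ⟨T, hT.1, hT.2.1, hT.2.2, fun S hS hSi hS0 => ?_⟩
  exact le_antisymm hS (hmin ⟨hS.trans hT.1, hSi, hS0⟩ hS)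

open Polynomial in
theorem exists_compl [Finite V] {p : ℕ} (hp : p.Prime) (hpF : (p : F) ≠ 0) {x : V ≃ₗ[F] V}
    (hx : x ^ p = 1) {W1 W : Submodule F V} (h1 : Inv x W1) (h : Inv x W) (hle : W1 ≤ W) :
    ∃ C ≤ W, Inv x C ∧ W1 ⊓ C = ⊥ ∧ W1 ⊔ C = W := by
  have hsep : (X ^ p - 1 : F[X]).Separable := (X_pow_sub_one_separable_iff).2 hpF
  have hpow : ∀ n : ℕ, ((x : V →ₗ[F] V) : Module.End F V) ^ n =
      ((x ^ n : V ≃ₗ[F] V) : V →ₗ[F] V) := by
    intro n
    induction n with
    | zero => rfl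
    | succ n ih => rw [pow_succ, ih, pow_succ]; rfl
  have hss : Module.End.IsSemisimple ((x : V →ₗ[F] V) : Module.End F V) := by
    apply Module.End.isSemisimple_of_squarefree_aeval_eq_zero hsep.squarefree
    rw [map_sub, map_pow, aeval_X, map_one, hpow, hx]
    ext v
    simp
  rw [Module.End.isSemisimple_iff] at hss
  obtain ⟨C0, hC0, hcompl⟩ := hss W1 h1
  refine ⟨C0 ⊓ W, inf_le_right, Inv.inf hC0 h, ?_, ?_⟩
  · rw [← inf_assoc, hcompl.inf_eq_bot, bot_inf_eq]
  · rw [← sup_inf_assoc_of_le _ hle, hcompl.sup_eq_top, top_inf_eq]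

theorem IsMin.inf_eq {x : V ≃ₗ[F] V} {T S : Submodule F V} (hT : IsMin x T) (hS : Inv x S) :
    T ⊓ S = ⊥ ∨ T ≤ S := by
  by_cases h : T ⊓ S = ⊥
  · exact Or.inl h
  · right
    have := hT.min _ inf_le_left (hT.inv.inf hS) h
    rw [← this]
    exact inf_le_right

variable {H : HForm F V}

theorem perp_inv {x : V ≃ₗ[F] V} (hxi : H.IsIso x) [Finite V] {W : Submodule F V}
    (hW : Inv x W) : Inv x (perp H (W : Set V)) := by
  intro v hv u hu
  obtain ⟨u', hu', rfl⟩ := hW.symm_mem u hu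
  rw [hxi]
  exact hv u' hu'

/-- Orthogonal decomposition for nondegenerate subspaces. -/
theorem perp_sup [Finite V] {W : Submodule F V}
    (hnd : ∀ v ∈ W, v ≠ 0 → ∃ w ∈ W, H.h v w ≠ 0) : W ⊔ perp H (W : Set V) = ⊤ := by
  have : Module.Finite F V := Module.Finite.of_finite
  let b := Module.finBasis F W
  let L : V →ₗ[F] (Fin (Module.finrank F W) → F) :=
    { toFun := fun v i => H.h v (b i)
      map_add' := fun v w => by funext i; exact H.add_left _ _ _
      map_smul' := fun c v => by funext i; exact H.smul_left _ _ _ }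
  have hL : ∀ v i, L v i = H.h v (b i) := fun _ _ => rfl
  have hker : ∀ v, L v = 0 → ∀ w ∈ W, H.h v w = 0 := by
    intro v hv w hw
    have h1 : (⟨w, hw⟩ : W) ∈ Submodule.span F (Set.range b) := by rw [b.span_eq]; trivial
    have key : ∀ w' : W, w' ∈ Submodule.span F (Set.range b) → H.h v w' = 0 := by
      intro w' hw'
      induction hw' using Submodule.span_induction with
      | mem y hy =>
        obtain ⟨i, rfl⟩ := hy
        rw [← hL, hv]
        rfl
      | zero => exact H.zero_right _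
      | add y z _ _ hy hz =>
        rw [Submodule.coe_add, H.add_right, hy, hz, add_zero]
      | smul c y _ hy =>
        rw [Submodule.coe_smul, H.smul_right, hy, mul_zero]
    exact key _ h1
  have hinj : Function.Injective (L ∘ₗ W.subtype) := by
    rw [← LinearMap.ker_eq_bot, LinearMap.ker_eq_bot']
    intro w hw
    by_contra h0
    obtain ⟨w', hw', h1⟩ := hnd w w.2 (fun h => h0 (Subtype.ext h))
    exact h1 (hker _ hw w' hw')
  have hsurj : Function.Surjective (L ∘ₗ W.subtype) := by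
    rw [← LinearMap.injective_iff_surjective_of_finrank_eq_finrank]
    · exact hinj
    · rw [Module.finrank_fin_fun]
  rw [eq_top_iff]
  intro v _
  obtain ⟨w, hw⟩ := hsurj (L v)
  have h1 : v = (w : V) + (v - w) := by abel
  rw [h1]
  refine Submodule.add_mem_sup w.2 ?_
  intro u hu
  apply hker _ _ u hu
  rw [map_sub, sub_eq_zero]
  exact hw.symm

theorem perp_inf {W : Submodule F V}
    (hnd : ∀ v ∈ W, v ≠ 0 → ∃ w ∈ W, H.h v w ≠ 0) : W ⊓ perp H (W : Set V) = ⊥ := by
  rw [eq_bot_iff]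
  rintro v ⟨hv, hv'⟩
  by_contra h0
  obtain ⟨w, hw, h1⟩ := hnd v hv h0
  exact h1 (hv' w hw)

end Cfsg.Agent.H110.Fpr
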