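import Cfsg.Agent.H110.Fpr.Small
import Cfsg.Agent.H221.PPBase

/-!
# Linear groups: two opposite radicals
-/

set_option autoImplicit false

namespace Cfsg.Agent.H110.Fpr

open Cfsg.Agent.H398.FPR Cfsg.Agent.H409 Cfsg.Agent.H221.PP
open Module (Dual finrank)

/-- Abelian radicals. -/
theorem commFull_abel {G : Type*} [Group G] {R : Subgroup G} [Finite R] {y : G}
    (hcomm : ∀ a ∈ R, ∀ b ∈ R, a * b = b * a) (hn : ∀ a ∈ R, y * a * y⁻¹ ∈ R)
    (hC : ∀ a ∈ R, y * a = a * y → a = 1) : CommFull R y := by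
  intro R1 hR1 h
  let f : R → R := fun r => ⟨y * r * y⁻¹ * (r : G)⁻¹, R.mul_mem (hn r r.2) (R.inv_mem r.2)⟩
  have hf : Function.Injective f := by
    intro a b hab
    have h1 : y * a * y⁻¹ * (a : G)⁻¹ = y * b * y⁻¹ * (b : G)⁻¹ := congrArg Subtype.val hab
    have h2 := hC ((a : G) * (b : G)⁻¹) (R.mul_mem a.2 (R.inv_mem b.2)) ?_
    · exact Subtype.ext (mul_inv_eq_one.1 h2)
    · have h3 : y * (a : G) * y⁻¹ = y * b * y⁻¹ * (b : G)⁻¹ * a := by
        rw [← h1]; group
      have h4 : (b : G)⁻¹ * a = a * (b : G)⁻¹ := hcomm _ (R.inv_mem b.2) _ a.2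
      have h5 : y * b * y⁻¹ * (a * (b : G)⁻¹) = (a * (b : G)⁻¹) * (y * b * y⁻¹) :=
        hcomm _ (hn b b.2) _ (R.mul_mem a.2 (R.inv_mem b.2))
      calc y * ((a : G) * (b : G)⁻¹) = (y * a * y⁻¹) * (y * b * y⁻¹)⁻¹ * y := by group
        _ = y * b * y⁻¹ * ((b : G)⁻¹ * a) * (y * b * y⁻¹)⁻¹ * y := by rw [h3]; group
        _ = (a * (b : G)⁻¹) * (y * b * y⁻¹) * (y * b * y⁻¹)⁻¹ * y := by rw [h4, h5]
        _ = _ := by group
  have hs := Finite.injective_iff_surjective.1 hf
  refine absurd hR1.le ?_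
  intro _
  apply hR1.not_ge
  intro r hr
  obtain ⟨s, hs⟩ := hs ⟨r, hr⟩
  have h2 : y * s * y⁻¹ * (s : G)⁻¹ = r := congrArg Subtype.val hs
  rw [← h2]
  exact h s s.2

section

variable {F : Type*} [Field F] {V : Type*} [AddCommGroup V] [Module F V]

/-- The radical of the stabiliser of `A`. -/
def radL (A : Submodule F V) : Subgroup (SpecialLinearGroup F V) where
  carrier := {g | (∀ v ∈ A, g v = v) ∧ ∀ v, g v - v ∈ A}
  mul_mem' := by
    rintro g h ⟨g1, g2⟩ ⟨h1, h2⟩
    refine ⟨fun v hv => ?_, fun v => ?_⟩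
    · rw [mul_app, h1 v hv, g1 v hv]
    · rw [mul_app]
      have h3 : h v = v + (h v - v) := by abel
      rw [h3, app_add, g1 _ (h2 v)]
      have h4 : g v + (h v - v) - v = (g v - v) + (h v - v) := by abel
      rw [h4]
      exact A.add_mem (g2 v) (h2 v)
  one_mem' := ⟨fun v _ => rfl, fun v => by rw [one_app, sub_self]; exact A.zero_mem⟩
  inv_mem' := by
    rintro g ⟨g1, g2⟩
    refine ⟨fun v hv => ?_, fun v => ?_⟩
    · apply app_inj g
      rw [app_inv_app, g1 v hv]
    · have h1 := g2 (g⁻¹ v)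
      rw [app_inv_app] at h1
      have h2 := A.neg_mem h1
      rwa [neg_sub] at h2

theorem mem_radL {A : Submodule F V} {g : SpecialLinearGroup F V} :
    g ∈ radL A ↔ (∀ v ∈ A, g v = v) ∧ ∀ v, g v - v ∈ A := Iff.rfl

theorem radL_comm {A : Submodule F V} : ∀ a ∈ radL A, ∀ b ∈ radL A, a * b = b * a := by
  rintro g ⟨g1, g2⟩ h ⟨h1, h2⟩
  apply ext'
  intro v
  rw [mul_app, mul_app]
  have h3 : h v = v + (h v - v) := by abel
  have h4 : g v = v + (g v - v) := by abel
  rw [h3, h4, app_add, app_add, g1 _ (h2 v), h1 _ (g2 v)]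
  abel

theorem radL_conj {A : Submodule F V} {x : SpecialLinearGroup F V} (hx : ∀ v ∈ A, x v ∈ A)
    (hx' : ∀ v ∈ A, x⁻¹ v ∈ A) : ∀ a ∈ radL A, x * a * x⁻¹ ∈ radL A := by
  rintro g ⟨g1, g2⟩
  refine ⟨fun v hv => ?_, fun v => ?_⟩
  · rw [mul_app, mul_app, g1 _ (hx' v hv), app_inv_app]
  · rw [mul_app, mul_app]
    have h1 : x (g (x⁻¹ v)) - v = x (g (x⁻¹ v) - x⁻¹ v) := by
      rw [app_sub, app_inv_app]
    rw [h1]
    exact hx _ (g2 _)

theorem tv_mem_radL {A : Submodule F V} {φ : Dual F V} {w : V} (hw : w ∈ A)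
    (hφ : ∀ v ∈ A, φ v = 0) (h : φ w = 0) : tv φ w h ∈ radL A := by
  refine ⟨fun v hv => ?_, fun v => ?_⟩
  · rw [tv_apply, hφ v hv, zero_smul, add_zero]
  · rw [tv_apply, add_sub_cancel_left]
    exact A.smul_mem _ hw

theorem tv_add_left {φ ψ : Dual F V} {w : V} (h1 : φ w = 0) (h2 : ψ w = 0)
    (h3 : (φ + ψ) w = 0) : tv (φ + ψ) w h3 = tv φ w h1 * tv ψ w h2 := by
  apply ext'
  intro v
  rw [mul_app, tv_apply, tv_apply, tv_apply, map_add, map_smul, h1, LinearMap.add_apply,
    smul_zero, add_zero]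
  module

theorem tv_add_right {φ : Dual F V} {w w' : V} (h1 : φ w = 0) (h2 : φ w' = 0)
    (h3 : φ (w + w') = 0) : tv φ (w + w') h3 = tv φ w h1 * tv φ w' h2 := by
  apply ext'
  intro v
  rw [mul_app, tv_apply, tv_apply, tv_apply, map_add, map_smul, h2, smul_zero, add_zero]
  module

/-- **Two opposite radicals generate.** -/
theorem lin_gen [FiniteDimensional F V] {A B : Submodule F V} (hAB : IsCompl A B) (hA0 : A ≠ ⊥)
    (hB0 : B ≠ ⊥) {H : Subgroup (SpecialLinearGroup F V)} (hA : radL A ≤ H) (hB : radL B ≤ H) :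
    H = ⊤ := by
  -- vectors in one of the two
  have key : ∀ (A B : Submodule F V), IsCompl A B → B ≠ ⊥ → radL A ≤ H → radL B ≤ H →
      ∀ (φ : Dual F V) (u : V) (hu : φ u = 0), u ∈ A → tv φ u hu ∈ H := by
    intro A B hAB hB0 hA hB φ u hu huA
    have hdec : ∀ v : V, ∃ a ∈ A, ∃ b ∈ B, v = a + b := by
      intro v
      have hv : v ∈ A ⊔ B := by rw [hAB.sup_eq_top]; trivial
      obtain ⟨a, ha, b, hb, h⟩ := Submodule.mem_sup.1 hv
      exact ⟨a, ha, b, hb, h.symm⟩
    -- step one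
    have step : ∀ (ψ : Dual F V) (hψu : ψ u = 0), (∀ b ∈ B, ψ b = 0) → tv ψ u hψu ∈ H := by
      intro ψ hψu hψB
      obtain ⟨w, hwB, hw0⟩ := (Submodule.ne_bot_iff B).1 hB0
      have hwA : w ∉ A := fun h => hw0 (Submodule.disjoint_def.1 hAB.disjoint w h hwB)
      obtain ⟨θ, hθw, hθA⟩ := exists_fun hwA
      have m1 : tv θ u (hθA u huA) ∈ H := hA (tv_mem_radL huA hθA _)
      have m2 : tv ψ w (hψB w hwB) ∈ H := hB (tv_mem_radL hwB hψB _)
      have e : tv ψ u hψu = (tv ψ w (hψB w hwB))⁻¹ * (tv θ u (hθA u huA) * tv ψ w (hψB w hwB) *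
          (tv θ u (hθA u huA))⁻¹) := by
        have e' : tv ψ w (hψB w hwB) * (tv ψ u hψu * tv θ u (hθA u huA)) =
            tv θ u (hθA u huA) * tv ψ w (hψB w hwB) := by
          apply ext'
          intro v
          simp only [mul_app, tv_apply, map_add, map_smul, hψu, hθw]
          module
        rw [← e']
        group
      rw [e]
      exact H.mul_mem (H.inv_mem m2) (H.mul_mem (H.mul_mem m1 m2) (H.inv_mem m1))
    -- decompose `φ`
    let φ1 : Dual F V := φ ∘ₗ A.projection B hAB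
    let φ2 : Dual F V := φ ∘ₗ B.projection A hAB.symm
    have h1 : φ = φ1 + φ2 := by
      ext v
      obtain ⟨a, ha, b, hb, rfl⟩ := hdec v
      simp only [φ1, φ2, LinearMap.add_apply, LinearMap.comp_apply, map_add,
        Submodule.projection_apply_of_mem_left hAB ha,
        Submodule.projection_apply_of_mem_left hAB.symm hb,
        Submodule.projection_apply_of_mem_right hAB hb,
        Submodule.projection_apply_of_mem_right hAB.symm ha, map_zero, add_zero, zero_add]
    have hφ1 : φ1 u = 0 := by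
      simp only [φ1, LinearMap.comp_apply, Submodule.projection_apply_of_mem_left hAB huA, hu]
    have hφ2 : φ2 u = 0 := by
      simp only [φ2, LinearMap.comp_apply, Submodule.projection_apply_of_mem_right hAB.symm huA,
        map_zero]
    have h12 : (φ1 + φ2) u = 0 := by rw [← h1]; exact hu
    have e : tv φ u hu = tv (φ1 + φ2) u h12 := tv_congr h1 rfl
    rw [e, tv_add_left hφ1 hφ2]
    refine H.mul_mem (step φ1 hφ1 fun b hb => ?_) (hA (tv_mem_radL huA (fun a ha => ?_) _))
    · simp only [φ1, LinearMap.comp_apply, Submodule.projection_apply_of_mem_right hAB hb,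
        map_zero]
    · simp only [φ2, LinearMap.comp_apply, Submodule.projection_apply_of_mem_right hAB.symm ha,
        map_zero]
  apply eq_top_of_tv
  intro φ w hw
  have hwm : w ∈ A ⊔ B := by rw [hAB.sup_eq_top]; trivial
  obtain ⟨a, ha, b, hb, rfl⟩ := Submodule.mem_sup.1 hwm
  by_cases ha0 : a = 0
  · have h1 : φ b = 0 := by rw [ha0, zero_add] at hw; exact hw
    have e : tv φ (a + b) hw = tv φ b h1 := tv_congr rfl (by rw [ha0, zero_add])
    rw [e]
    exact key B A hAB.symm hA0 hB hA φ b h1 hb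
  · -- move `a + b` to `a`
    have haB : a ∉ B := fun h => ha0 (Submodule.disjoint_def.1 hAB.disjoint a ha h)
    obtain ⟨θ, hθa, hθB⟩ := exists_fun haB
    have hθb : θ (-b) = 0 := by rw [map_neg, hθB b hb, neg_zero]
    have m1 : tv θ (-b) hθb ∈ H := hB (tv_mem_radL (B.neg_mem hb) hθB _)
    obtain ⟨g, hg⟩ : ∃ g, g = tv θ (-b) hθb := ⟨_, rfl⟩
    rw [← hg] at m1
    have hgw : g (a + b) = a := by
      rw [hg, tv_apply, map_add, hθa, hθB b hb]
      module
    have hginv : g⁻¹ a = a + b := by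
      apply app_inj g
      rw [app_inv_app, hgw]
    let φ' : Dual F V := φ ∘ₗ ((g⁻¹ : SpecialLinearGroup F V).1 : V →ₗ[F] V)
    have hφ' : ∀ v, φ' v = φ (g⁻¹ v) := fun v => rfl
    have h1 : φ' a = 0 := by rw [hφ', hginv, hw]
    have h2 := key A B hAB hB0 hA hB φ' a h1 ha
    have e : tv φ (a + b) hw = g⁻¹ * tv φ' a h1 * g := by
      apply ext'
      intro v
      rw [mul_app, mul_app, tv_apply, tv_apply, hφ', inv_app_app, app_add, inv_app_app, app_smul,
        hginv]
    rw [e]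
    exact H.mul_mem (H.mul_mem (H.inv_mem m1) h2) m1

/-- **The row for the linear groups**, from an element. -/
theorem row_lin [Finite V] [FiniteDimensional F V] {p j k : ℕ} (hp : p.Prime)
    {x : SpecialLinearGroup F V} (hx : x ^ p ^ k = 1) {A B : Submodule F V} (hAB : IsCompl A B)
    (hA0 : A ≠ ⊥) (hB0 : B ≠ ⊥) (hxA : ∀ v ∈ A, x v ∈ A) (hxB : ∀ v ∈ B, x v = v)
    (hsurj : ∀ v ∈ A, ∃ v' ∈ A, (x ^ p ^ j) v' - v' = v) (hpj : 2 ≤ (p - 1) * p ^ j) :
    FprRow (2 * p - 1) (p - 1) p (SpecialLinearGroup F V) := by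
  classical
  have hfin0 : Finite (V ≃ₗ[F] V) := instFin
  have hfin : Finite (SpecialLinearGroup F V) := inferInstance
  obtain ⟨y, hy⟩ : ∃ y, y = x ^ p ^ j := ⟨_, rfl⟩
  have hxn : ∀ n : ℕ, ∀ v ∈ A, (x ^ n) v ∈ A := by
    intro n
    induction n with
    | zero => intro v hv; exact hv
    | succ n ih => intro v hv; rw [pow_succ, mul_app]; exact ih _ (hxA v hv)
  have hxnB : ∀ n : ℕ, ∀ v ∈ B, (x ^ n) v = v := by
    intro n
    induction n with
    | zero => intro v hv; rfl
    | succ n ih => intro v hv; rw [pow_succ, mul_app, hxB v hv, ih v hv]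
  have hinv : ∃ n : ℕ, x⁻¹ = x ^ n := by
    refine ⟨p ^ k - 1, ?_⟩
    rw [inv_eq_iff_mul_eq_one, ← pow_succ', Nat.sub_add_cancel (Nat.one_le_pow _ _ hp.pos), hx]
  obtain ⟨n, hn⟩ := hinv
  have hAinv : ∀ v ∈ A, x⁻¹ v ∈ A := by rw [hn]; exact hxn n
  have hBinv : ∀ v ∈ B, x⁻¹ v ∈ B := by
    intro v hv
    rw [hn, hxnB n v hv]
    exact hv
  have hxB' : ∀ v ∈ B, x v ∈ B := fun v hv => by rw [hxB v hv]; exact hv
  have hyB : ∀ v ∈ B, y v = v := by rw [hy]; exact hxnB _
  have hyA : ∀ v ∈ A, y v ∈ A := by rw [hy]; exact hxn _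
  rw [← hy] at hsurj
  -- no fixed points on `A`
  have hfpf : ∀ v ∈ A, y v = v → v = 0 := by
    let f : A → A := fun v => ⟨y v - v, A.sub_mem (hyA v v.2) v.2⟩
    have hf : Function.Surjective f := by
      intro v
      obtain ⟨v', hv', h⟩ := hsurj v v.2
      exact ⟨⟨v', hv'⟩, Subtype.ext h⟩
    have hfi := Finite.injective_iff_surjective.2 hf
    intro v hv hyv
    have h1 : f ⟨v, hv⟩ = f 0 := by
      apply Subtype.ext
      change y v - v = y (0 : V) - 0
      rw [hyv, app_zero, sub_self, sub_zero]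
    exact congrArg Subtype.val (hfi h1)
  have hdec : ∀ v : V, ∃ a ∈ A, ∃ b ∈ B, v = a + b := by
    intro v
    have hv : v ∈ A ⊔ B := by rw [hAB.sup_eq_top]; trivial
    obtain ⟨a, ha, b, hb, h⟩ := Submodule.mem_sup.1 hv
    exact ⟨a, ha, b, hb, h.symm⟩
  have hnilp : ∀ A : Submodule F V, Group.IsNilpotent (radL A) := by
    intro A
    letI : CommGroup (radL A) := { (inferInstance : Group (radL A)) with
      mul_comm := fun a b => Subtype.ext
        (show (a : SpecialLinearGroup F V) * b = b * a from radL_comm _ a.2 _ b.2) }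
    exact CommGroup.isNilpotent
  have conjA : ∀ a ∈ radL A, x * a * x⁻¹ ∈ radL A := radL_conj hxA hAinv
  have conjB : ∀ a ∈ radL B, x * a * x⁻¹ ∈ radL B := radL_conj hxB' hBinv
  have nA : x ∈ Subgroup.normalizer (radL A : Set (SpecialLinearGroup F V)) :=
    mem_normalizer_of_conj conjA
  have nB : x ∈ Subgroup.normalizer (radL B : Set (SpecialLinearGroup F V)) :=
    mem_normalizer_of_conj conjB
  have nyA : y ∈ Subgroup.normalizer (radL A : Set (SpecialLinearGroup F V)) := by
    rw [hy]; exact Subgroup.pow_mem _ nA _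
  have nyB : y ∈ Subgroup.normalizer (radL B : Set (SpecialLinearGroup F V)) := by
    rw [hy]; exact Subgroup.pow_mem _ nB _
  have pA : Pair p j x (radL A) := by
    refine ⟨hnilp A, nA, ?_⟩
    rw [← hy]
    refine commFull_abel radL_comm
      (fun a ha => (Subgroup.mem_normalizer_iff.1 nyA a).1 ha) ?_
    rintro g ⟨g1, g2⟩ hc
    have hgB : ∀ b ∈ B, g b = b := by
      intro b hb
      have h1 : y (g b) = g b := by
        rw [← mul_app, hc, mul_app, hyB b hb]
      have h2 := hfpf (g b - b) (g2 b) (by rw [app_sub, h1, hyB b hb])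
      exact sub_eq_zero.1 h2
    apply ext'
    intro v
    obtain ⟨a, ha, b, hb, rfl⟩ := hdec v
    rw [app_add, g1 a ha, hgB b hb]
    rfl
  have pB : Pair p j x (radL B) := by
    refine ⟨hnilp B, nB, ?_⟩
    rw [← hy]
    refine commFull_abel radL_comm
      (fun a ha => (Subgroup.mem_normalizer_iff.1 nyB a).1 ha) ?_
    rintro g ⟨g1, g2⟩ hc
    have hgA : ∀ a ∈ A, g a = a := by
      intro a ha
      obtain ⟨a', ha', h⟩ := hsurj a ha
      rw [← h, app_sub]
      have h1 : g (y a') = y (g a') := by rw [← mul_app, ← hc, mul_app]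
      have h2 : g a' = a' + (g a' - a') := by abel
      have h3 : y (g a') = y a' + (g a' - a') := by
        conv_lhs => rw [h2]
        rw [app_add, hyB _ (g2 a')]
      rw [h1, h3]
      abel
    apply ext'
    intro v
    obtain ⟨a, ha, b, hb, rfl⟩ := hdec v
    rw [app_add, hgA a ha, g1 b hb]
    rfl
  have hrow := row_of_gen (K := (⊤ : Subgroup (SpecialLinearGroup F V))) hp
    (Subgroup.mem_top x) hx (fun i : Bool => if i then radL A else radL B) (fun i => le_top)
    (by
      intro i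
      cases i
      · simpa using pB
      · simpa using pA) 1 one_pos (by
      intro J hJ
      have hJu : J = Set.univ := by
        rw [Set.eq_univ_iff_ncard, Nat.card_eq_fintype_card]
        have h1 : J.ncard ≤ Nat.card Bool := Set.ncard_le_card J
        rw [Nat.card_eq_fintype_card] at h1
        omega
      subst hJu
      rw [top_le_iff]
      apply lin_gen hAB hA0 hB0
      · intro g hg
        apply Subgroup.subset_closure
        right
        exact Set.mem_iUnion₂.2 ⟨true, trivial, by simpa using hg⟩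
      · intro g hg
        apply Subgroup.subset_closure
        right
        exact Set.mem_iUnion₂.2 ⟨false, trivial, by simpa using hg⟩)
    (by rw [Fintype.card_bool, mul_one]; exact hpj)
  exact hrow.of_mulEquiv hp Subgroup.topEquiv

end

end Cfsg.Agent.H110.Fpr
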