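import Cfsg.Agent.H110.Fpr.Data
import Cfsg.Agent.H110.Fpr.IrrField
import Cfsg.Agent.H110.Fpr.Lin

/-!
# Elements of linear type with `V = T ⊕ T'`
-/

set_option autoImplicit false

namespace Cfsg.Agent.H110.Fpr

open Cfsg.Agent.TitsThree.Siegel Cfsg.Agent.TitsThree.SiegelGen Cfsg.Agent.H398.FPR
open Cfsg.Agent.H409

variable {F : Type*} [Field F] {V : Type*} [AddCommGroup V] [Module F V]
variable {H : HForm F V} {P : PQ H}

/-- all isometries -/
def isoG (H : HForm F V) : Subgroup (V ≃ₗ[F] V) where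
  carrier := {g | H.IsIso g}
  mul_mem' hg hg' := HForm.IsIso.mul H hg hg'
  one_mem' _ _ := rfl
  inv_mem' hg := HForm.IsIso.inv H hg

/-- the radical `1 + Hom(V / T, T)` -/
def radA (T : Submodule F V) : Subgroup (V ≃ₗ[F] V) where
  carrier := {g | (∀ v ∈ T, g v = v) ∧ ∀ v, g v - v ∈ T}
  mul_mem' := by
    rintro g h ⟨g1, g2⟩ ⟨h1, h2⟩
    refine ⟨fun v hv => ?_, fun v => ?_⟩
    · rw [LinearEquiv.mul_apply, h1 v hv, g1 v hv]
    · rw [LinearEquiv.mul_apply]
      have h3 : h v = v + (h v - v) := by abel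
      rw [h3, map_add, g1 _ (h2 v)]
      have h4 : g v + (h v - v) - v = (g v - v) + (h v - v) := by abel
      rw [h4]
      exact T.add_mem (g2 v) (h2 v)
  one_mem' := ⟨fun v _ => rfl, fun v => by
    change v - v ∈ T
    rw [sub_self]; exact T.zero_mem⟩
  inv_mem' := by
    rintro g ⟨g1, g2⟩
    refine ⟨fun v hv => ?_, fun v => ?_⟩
    · apply g.injective
      rw [g1 v hv]
      exact g.apply_symm_apply v
    · have h1 := g2 (g⁻¹ v)
      have h3 : g (g⁻¹ v) = v := g.apply_symm_apply v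
      rw [h3] at h1
      have h2 := T.neg_mem h1
      rwa [neg_sub] at h2

theorem radA_comm {T : Submodule F V} : ∀ a ∈ radA T, ∀ b ∈ radA T, a * b = b * a := by
  rintro g ⟨g1, g2⟩ h ⟨h1, h2⟩
  ext v
  rw [LinearEquiv.mul_apply, LinearEquiv.mul_apply]
  have h3 : h v = v + (h v - v) := by abel
  have h4 : g v = v + (g v - v) := by abel
  rw [h3, h4, map_add, map_add, g1 _ (h2 v), h1 _ (g2 v)]
  abel

theorem rad_le_radA {T : Submodule F V} (hTT : ∀ u ∈ T, ∀ u' ∈ T, H.h u u' = 0) :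
    rad P T T ≤ radA T := by
  apply rad_le
  intro u w c hu hw huT hwT _
  refine ⟨fun v hv => ?_, fun v => ?_⟩
  · rw [H.sie_apply, hTT v hv u huT, hTT v hv w hwT]
    simp
  · rw [H.sie_apply]
    have h1 : v + H.h v u • w - (H.ε⁻¹ * H.h v w) • u + (c * H.h v u) • u - v =
      H.h v u • w - (H.ε⁻¹ * H.h v w) • u + (c * H.h v u) • u := by abel
    rw [h1]
    exact T.add_mem (T.sub_mem (T.smul_mem _ hwT) (T.smul_mem _ huT)) (T.smul_mem _ huT)

/-- generation -/
theorem zero_key [Finite V] {D : Subgroup (V ≃ₗ[F] V)} {T T' : Submodule F V}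
    (h1 : rad P T T ≤ D) (h2 : rad P T' T' ≤ D) (htop : T ⊔ T' = ⊤)
    (hTs : ∀ u ∈ T, P.ok u 0) (hTT : ∀ u ∈ T, ∀ u' ∈ T, H.h u u' = 0)
    (hTs' : ∀ u ∈ T', P.ok u 0) (hTT' : ∀ u ∈ T', ∀ u' ∈ T', H.h u u' = 0)
    (hnd : ∀ u ∈ T, u ≠ 0 → ∃ u' ∈ T', H.h u' u ≠ 0)
    (hnd' : ∀ u ∈ T', u ≠ 0 → ∃ u' ∈ T, H.h u' u ≠ 0)
    (hdim : 3 ≤ Module.finrank F T ∨ ∃ c, c ≠ 0 ∧ P.ok 0 c) :
    ∀ p ∈ T, Zt P D Set.univ p := by
  have : Module.Finite F V := Module.Finite.of_finite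
  intro p hp w c hpp hpw _ hwc
  have hw : w ∈ T ⊔ T' := by rw [htop]; trivial
  obtain ⟨t, ht, t', ht', rfl⟩ := Submodule.mem_sup.1 hw
  have hpt := hTT p hp t ht
  have hpt' : H.h p t' = 0 := by rw [H.add_right, hpt, zero_add] at hpw; exact hpw
  have k1 : H.sie p t 0 hpp hpt ∈ D := h1 (sie_mem_rad _ _ hp ht (hTs t ht))
  -- the new root elements
  have k2 : H.sie p t' 0 hpp hpt' ∈ D := by
    by_cases ht0 : t' = 0
    · rw [H.sie_congr _ _ hpp (H.zero_right p) rfl ht0 rfl, H.sie_zero]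
      exact D.one_mem
    by_cases hp0 : p = 0
    · have : H.sie p t' 0 hpp hpt' = 1 := by
        ext v
        rw [H.sie_apply, hp0, H.zero_right]; simp
      rw [this]; exact D.one_mem
    rcases hdim with hdim | ⟨c, hc0, hcok⟩
    swap
    · obtain ⟨a, haT, hat⟩ := hnd' t' ht' ht0
      obtain ⟨s, hs⟩ : ∃ s, c * (s * H.h a t') = 1 :=
        ⟨(c * H.h a t')⁻¹, by field_simp⟩
      have htt := hTT' t' ht' t' ht'
      have hsaT : s • a ∈ T := T.smul_mem _ haT
      have hpa := hTT p hp _ hsaT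
      have hg : H.sie t' 0 c htt (H.zero_right t') ∈ D :=
        h2 (sie_mem_rad _ _ ht' T'.zero_mem hcok)
      have hn : H.sie p (s • a) 0 hpp hpa ∈ D := h1 (sie_mem_rad _ _ hp hsaT (hTs _ hsaT))
      have hgi : H.IsIso (H.sie t' 0 c htt (H.zero_right t')) := P.isIso_sie _ _ hcok
      have e1 : H.sie t' 0 c htt (H.zero_right t') p = p := by
        rw [H.sie_apply, hpt', H.zero_right]; simp
      have e2 : H.sie t' 0 c htt (H.zero_right t') (s • a) = s • a + t' := by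
        rw [H.sie_apply, H.zero_right, H.smul_left, hs]; simp
      have hoksum := P.ok_sie htt (H.zero_right t') (hTs' t' ht') hcok (hTs _ hsaT)
      rw [e2] at hoksum
      have h3 := D.mul_mem (D.mul_mem hg hn) (D.inv_mem hg)
      rw [H.conj_sie hgi] at h3
      have hpsum : H.h p (s • a + t') = 0 := by rw [H.add_right, hpa, hpt', add_zero]
      rw [H.sie_congr _ _ hpp hpsum e1 e2 rfl] at h3
      have h4 := D.mul_mem h3 (D.inv_mem hn)
      rw [H.sie_inv, H.sie_mul] at h4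
      obtain ⟨c', hc'⟩ : ∃ c', c' = 0 + (-0 - H.ε⁻¹ * H.h (s • a) (s • a)) -
        H.ε⁻¹ * H.h (-(s • a)) (s • a + t') := ⟨_, rfl⟩
      have hc'ok : P.ok t' c' := by
        have h5 := P.add hoksum (P.inv (hTs _ hsaT))
        have h6 : s • a + t' + -(s • a) = t' := by abel
        rw [h6] at h5
        refine P.congr h5 rfl ?_
        rw [hc']
      rw [H.sie_congr _ _ hpp hpt' rfl (by abel : s • a + t' + -(s • a) = t') hc'.symm] at h4
      have h5 := P.sub (hTs' t' ht') hc'ok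
      have h6 : H.sie p 0 (0 - c') hpp (H.zero_right p) ∈ D :=
        h1 (sie_mem_rad _ _ hp T.zero_mem h5)
      have h7 := D.mul_mem h4 h6
      rw [H.sie_mul] at h7
      rwa [H.sie_congr _ _ hpp hpt' rfl (add_zero t') (c' := 0) (by
        rw [H.zero_left]; ring)] at h7
    -- a vector `a`
    obtain ⟨a, haT, hat', hap⟩ : ∃ a ∈ T, H.h a t' = 0 ∧ a ∉ Submodule.span F {p} := by
      by_contra hcon
      push Not at hcon
      let L : T →ₗ[F] F :=
        { toFun := fun v => H.h v t'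
          map_add' := fun v w => H.add_left _ _ _
          map_smul' := fun c v => H.smul_left _ _ _ }
      have h3 := LinearMap.finrank_range_add_finrank_ker L
      have h4 : Module.finrank F (LinearMap.range L) ≤ 1 := by
        refine (Submodule.finrank_le _).trans ?_
        rw [Module.finrank_self]
      have h5 : (LinearMap.ker L).map T.subtype ≤ Submodule.span F {p} := by
        rintro _ ⟨v, hv, rfl⟩
        exact hcon v v.2 (LinearMap.mem_ker.1 hv)
      have h6 := Submodule.finrank_mono h5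
      rw [finrank_span_singleton hp0, Submodule.finrank_map_subtype_eq] at h6
      omega
    obtain ⟨b0, hb0, hb0p⟩ := hnd p hp hp0
    obtain ⟨b, hbT, hbp, hab⟩ : ∃ b ∈ T', H.h b p = 0 ∧ H.h b a ≠ 0 := by
      by_contra hcon
      push Not at hcon
      apply hap
      obtain ⟨e, he⟩ : ∃ e, e = H.h b0 a / H.h b0 p := ⟨_, rfl⟩
      have h3 : a - H.σ e • p = 0 := by
        by_contra h0
        obtain ⟨b, hb, hb1⟩ := hnd _ (T.sub_mem haT (T.smul_mem (H.σ e) hp)) h0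
        apply hb1
        have h4 := hcon (b - (H.h b p / H.h b0 p) • b0)
          (T'.sub_mem hb (T'.smul_mem _ hb0)) (by
            rw [H.sub_left, H.smul_left, div_mul_cancel₀ _ hb0p, sub_self])
        rw [H.sub_left, H.smul_left, sub_eq_zero] at h4
        rw [H.sub_right, H.smul_right, H.σσ, h4, he]
        ring
      rw [sub_eq_zero] at h3
      rw [h3]
      exact Submodule.smul_mem _ _ (Submodule.mem_span_singleton_self p)
    have hab' : H.h a b ≠ 0 := fun h => hab (H.orth_symm h)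
    have hpb : H.h p b = 0 := H.orth_symm hbp
    -- scale
    obtain ⟨s, hs⟩ : ∃ s, s * H.h a b = 1 := ⟨(H.h a b)⁻¹, inv_mul_cancel₀ hab'⟩
    have hsaT : s • a ∈ T := T.smul_mem _ haT
    have hbb := hTT' b hbT b hbT
    have hbt := hTT' b hbT t' ht'
    have hpa := hTT p hp _ hsaT
    have hg : H.sie b t' 0 hbb hbt ∈ D := h2 (sie_mem_rad _ _ hbT ht' (hTs' t' ht'))
    have hn : H.sie p (s • a) 0 hpp hpa ∈ D := h1 (sie_mem_rad _ _ hp hsaT (hTs _ hsaT))
    have hgi : H.IsIso (H.sie b t' 0 hbb hbt) := P.isIso_sie _ _ (hTs' t' ht')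
    have e1 : H.sie b t' 0 hbb hbt p = p := by
      rw [H.sie_apply, hpb, hpt']; simp
    have e2 : H.sie b t' 0 hbb hbt (s • a) = s • a + t' := by
      rw [H.sie_apply, H.smul_left, H.smul_left, hs, hat']; simp
    have h3 := comm_eq hgi (c := 0) hpp hpa hpt' e1 e2 (by rw [H.smul_left, hat', mul_zero])
    have h4 := D.mul_mem (D.mul_mem (D.mul_mem hg hn) (D.inv_mem hg)) (D.inv_mem hn)
    rwa [h3] at h4
  -- the remaining part
  have hok : P.ok (t + t') (0 + 0 - H.ε⁻¹ * H.h t' t) := P.add (hTs t ht) (hTs' t' ht')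
  have hlam := P.sub hwc hok
  have k3 : H.sie p 0 (c - (0 + 0 - H.ε⁻¹ * H.h t' t)) hpp (H.zero_right p) ∈ D :=
    h1 (sie_mem_rad _ _ hp T.zero_mem hlam)
  have k4 := D.mul_mem (D.mul_mem k1 k2) k3
  rw [H.sie_mul, H.sie_mul] at k4
  rwa [H.sie_congr _ _ hpp hpw rfl (by abel : t + t' + 0 = t + t') (c' := c) (by
    rw [H.zero_left]; ring)] at k4

/-- **`[R_T, x] = R_T`** in the case `V = T ⊕ T'`. -/
theorem zero_commFull [Finite V] {p : ℕ} (hp : p.Prime) (hp2 : p ≠ 2) {x : V ≃ₗ[F] V}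
    (hxi : H.IsIso x) (hxok : ∀ w c, P.ok w c → P.ok (x w) c) (hx : x ^ p = 1)
    {T T' : Submodule F V} (hT : IsMin x T) (hT' : IsMin x T') (htop : T ⊔ T' = ⊤)
    (hTT : ∀ u ∈ T, ∀ u' ∈ T, H.h u u' = 0)
    (hnd : ∀ u ∈ T, u ≠ 0 → ∃ u' ∈ T', H.h u' u ≠ 0)
    (hfpf : ∀ v ∈ T, x v = v → v = 0)
    (hall : ∀ S : Submodule F V, IsMin x S → ∀ u ∈ S, ∀ v ∈ S, H.h u v = 0) :
    CommFull (rad P T T) x := by
  have hinf : T ⊓ T' = ⊥ := by
    rcases hT.inf_eq hT'.inv with h | h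
    · exact h
    · exfalso
      obtain ⟨v, hv, hv0⟩ := (Submodule.ne_bot_iff T).1 hT.ne
      obtain ⟨u, hu, hu1⟩ := hnd v hv hv0
      exact hu1 (hall T' hT' u hu v (h hv))
  have hconj : ∀ a ∈ rad P T T, x * a * x⁻¹ ∈ rad P T T :=
    rad_conj hxi hxok hT.inv hT.inv
  refine commFull_abel (fun a ha b hb => radA_comm a (rad_le_radA hTT ha) b
    (rad_le_radA hTT hb)) hconj ?_
  intro g hg hcomm
  have hgA := rad_le_radA hTT hg
  -- `g` is an isometry
  have hgi : H.IsIso g := by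
    have h1 : rad P T T ≤ isoG H := by
      apply rad_le
      intro u w c hu hw _ _ hc
      exact P.isIso_sie hu hw hc
    exact h1 hg
  -- the map `δ`
  let δ : V →ₗ[F] V := (g : V →ₗ[F] V) - LinearMap.id
  have hδ : ∀ v, δ v = g v - v := fun v => rfl
  have hδT : ∀ v, δ v ∈ T := hgA.2
  have hδx : ∀ v, δ (x v) = x (δ v) := by
    intro v
    have h1 : g (x v) = x (g v) := (congrArg (fun f : V ≃ₗ[F] V => f v) hcomm).symm
    rw [hδ, hδ, h1, map_sub]
  have hgv : ∀ v, g v = v + δ v := fun v => by rw [hδ]; abel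
  -- relation 0
  have rel0 : ∀ v ∈ T', ∀ w ∈ T', H.h v (δ w) = -H.h (δ v) w := by
    intro v _ w _
    have h1 := hgi v w
    rw [hgv, hgv, H.add_left, H.add_right, H.add_right, hTT _ (hδT v) _ (hδT w)] at h1
    linear_combination h1
  have hδ0 : ∀ v ∈ T', δ v = 0 := by
    by_contra hcon
    push Not at hcon
    obtain ⟨v1, hv1, hδv1⟩ := hcon
    -- the diagonal subspace
    let f : V →ₗ[F] V := LinearMap.id + (x : V →ₗ[F] V) ∘ₗ δ
    have hf : ∀ v, f v = v + x (δ v) := fun v => rfl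
    have hfinj : ∀ v ∈ T', f v = 0 → v = 0 := by
      intro v hv h0
      rw [hf] at h0
      have h1 : v = -(x (δ v)) := eq_neg_of_add_eq_zero_left h0
      have h2 : v ∈ T ⊓ T' := ⟨by rw [h1]; exact T.neg_mem (hT.inv _ (hδT v)), hv⟩
      rw [hinf, Submodule.mem_bot] at h2
      exact h2
    have hfx : ∀ v, f (x v) = x (f v) := by
      intro v
      rw [hf, hf, hδx, map_add]
    have hDmin : IsMin x (T'.map f) := by
      refine ⟨?_, ?_, ?_⟩
      · rintro _ ⟨v, hv, rfl⟩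
        exact ⟨x v, hT'.inv v hv, hfx v⟩
      · obtain ⟨v, hv, hv0⟩ := (Submodule.ne_bot_iff T').1 hT'.ne
        intro h
        have h1 : f v ∈ T'.map f := ⟨v, hv, rfl⟩
        rw [h, Submodule.mem_bot] at h1
        exact hv0 (hfinj v hv h1)
      · intro S hS hSi hS0
        have hS' : Inv x (T' ⊓ S.comap f) := by
          rintro v ⟨hv, hv'⟩
          refine ⟨hT'.inv v hv, ?_⟩
          change f (x v) ∈ S
          rw [hfx]
          exact hSi _ hv'
        obtain ⟨s, hs, hs0⟩ := (Submodule.ne_bot_iff S).1 hS0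
        obtain ⟨v, hv, hvs⟩ := hS hs
        have h1 := hT'.min _ inf_le_left hS' (by
          intro h
          have h2 : v ∈ T' ⊓ S.comap f := ⟨hv, by
            change f v ∈ S
            rw [hvs]; exact hs⟩
          rw [h, Submodule.mem_bot] at h2
          apply hs0
          rw [← hvs, h2, map_zero])
        apply le_antisymm hS
        rintro _ ⟨w, hw, rfl⟩
        have h2 : w ∈ T' ⊓ S.comap f := by rw [h1]; exact hw
        exact h2.2
    have rel1 : ∀ v ∈ T', ∀ w ∈ T', H.h v (x (δ w)) = -H.h (x (δ v)) w := by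
      intro v hv w hw
      have h1 := hall _ hDmin (f v) ⟨v, hv, rfl⟩ (f w) ⟨w, hw, rfl⟩
      rw [hf, hf, H.add_left, H.add_right, H.add_right,
        hTT _ (hT.inv _ (hδT v)) _ (hT.inv _ (hδT w)), hall T' hT' v hv w hw] at h1
      linear_combination h1
    -- combine
    apply hδv1
    have hx2 : ∀ w ∈ T', x (x (δ w)) = δ w := by
      intro w hw
      obtain ⟨w', hw', hww⟩ := hT'.inv.symm_mem w hw
      -- `w = x w'`
      have h3 : x (δ w) - δ w' = 0 := by
        by_contra h0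
        obtain ⟨u, hu, hu1⟩ := hnd _ (T.sub_mem (hT.inv _ (hδT w)) (hδT w')) h0
        apply hu1
        rw [H.sub_right, rel1 u hu w hw, rel0 u hu w' hw', ← hww, hxi]
        ring
      have h4 : x (δ w) = δ w' := sub_eq_zero.1 h3
      rw [h4, ← hδx, hww]
    have h5 : x (δ v1) = δ v1 := by
      obtain ⟨m, hm⟩ := hp.odd_of_ne_two hp2
      have h6 : ∀ n : ℕ, (x ^ (2 * n)) (δ v1) = δ v1 := by
        intro n
        induction n with
        | zero => rfl
        | succ n ih =>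
          have e : 2 * (n + 1) = 2 * n + 2 := by ring
          rw [e, pow_add, LinearEquiv.mul_apply, pow_two, LinearEquiv.mul_apply, hx2 v1 hv1, ih]
      have h7 : (x ^ p) (δ v1) = x (δ v1) := by
        rw [hm, pow_succ', LinearEquiv.mul_apply, h6]
      rw [hx] at h7
      exact h7.symm
    exact hfpf _ (hδT v1) h5
  ext v
  have hv : v ∈ T ⊔ T' := by rw [htop]; trivial
  obtain ⟨a, ha, b, hb, rfl⟩ := Submodule.mem_sup.1 hv
  rw [map_add, hgA.1 a ha, hgv b, hδ0 b hb, add_zero]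
  rfl

/-- **The data in the case `V = T ⊕ T'`.** -/
theorem data_zero [Finite V] {r : ℕ} [Fact r.Prime] [CharP F r] {p : ℕ} (hp : p.Prime)
    (hp2 : p ≠ 2) {x : V ≃ₗ[F] V} (hxK : x ∈ SG P) (hx : x ^ p = 1)
    {T T' : Submodule F V} (hT : IsMin x T) (hT' : IsMin x T') (htop : T ⊔ T' = ⊤)
    (hTs : ∀ u ∈ T, P.ok u 0) (hTs' : ∀ u ∈ T', P.ok u 0)
    (hnd : ∀ u ∈ T, u ≠ 0 → ∃ u' ∈ T', H.h u' u ≠ 0)
    (hnd' : ∀ u ∈ T', u ≠ 0 → ∃ u' ∈ T, H.h u' u ≠ 0)
    (hfpf : ∀ v ∈ T, x v = v → v = 0) (hfpf' : ∀ v ∈ T', x v = v → v = 0)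
    (hall : ∀ S : Submodule F V, IsMin x S → ∀ u ∈ S, ∀ v ∈ S, H.h u v = 0)
    (hdim : 3 ≤ Module.finrank F T ∨ ∃ c, c ≠ 0 ∧ P.ok 0 c)
    (hdim' : 3 ≤ Module.finrank F T' ∨ ∃ c, c ≠ 0 ∧ P.ok 0 c)
    (hVnd : ∀ v : V, P.ok v 0 → v ≠ 0 → ∃ w, H.h v w ≠ 0) :
    RadData r p 0 2 (SG P) := by
  obtain ⟨hxi, hxok, -⟩ := SG_iso hxK
  have hTT := hall T hT
  have hTT' := hall T' hT'
  have aux : ∀ T : Submodule F V, IsMin x T → (∀ u ∈ T, P.ok u 0) →
      (∀ u ∈ T, ∀ u' ∈ T, H.h u u' = 0) → CommFull (rad P T T) x →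
      rad P T T ≤ SG P ∧ Pair p 0 x (rad P T T) ∧ IsPGroup r (rad P T T) := by
    intro T hT hTs hTT hc
    obtain ⟨A, B, hAB, hle⟩ := rad_le_flagU (P₁ := P) hTT hTT
    refine ⟨?_, ⟨nilpotent_of_le_flagU (r := r) hAB hle, ?_, ?_⟩,
      isPGroup_of_le_flagU (r := r) hAB hle⟩
    · apply rad_le
      intro u w c hu hw huT hwW hwc
      exact sie_mem_SG P hu hw (hTs u huT) hwc
    · apply mem_normalizer_of_conj
      exact rad_conj hxi hxok hT.inv hT.inv
    · rw [pow_zero, pow_one]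
      exact hc
  obtain ⟨a1, a2, a3⟩ := aux T hT hTs hTT
    (zero_commFull hp hp2 hxi hxok hx hT hT' htop hTT hnd hfpf hall)
  obtain ⟨b1, b2, b3⟩ := aux T' hT' hTs' hTT'
    (zero_commFull hp hp2 hxi hxok hx hT' hT (by rw [sup_comm]; exact htop) hTT' hnd' hfpf' hall)
  refine ⟨x, 1, Bool, inferInstance, fun b : Bool => cond b (rad P T T)
    (rad P T' T'), hxK, by rw [pow_one]; exact hx, ?_, ?_, ?_, by rw [Fintype.card_bool], ?_⟩
  · rintro (_ | _)
    · exact b1
    · exact a1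
  · rintro (_ | _)
    · exact b2
    · exact a2
  · rintro (_ | _)
    · exact b3
    · exact a3
  · obtain ⟨D, hD⟩ : ∃ D, D = Subgroup.closure ({x} ∪ ⋃ b : Bool, ((cond b (rad P T T)
      (rad P T' T') : Subgroup (V ≃ₗ[F] V)) : Set (V ≃ₗ[F] V))) := ⟨_, rfl⟩
    rw [← hD]
    have h1 : rad P T T ≤ D := by
      intro g hg
      rw [hD]
      apply Subgroup.subset_closure
      right
      rw [Set.mem_iUnion]
      exact ⟨true, hg⟩
    have h2 : rad P T' T' ≤ D := by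
      intro g hg
      rw [hD]
      apply Subgroup.subset_closure
      right
      rw [Set.mem_iUnion]
      exact ⟨false, hg⟩
    obtain ⟨v, hv, hv0⟩ := (Submodule.ne_bot_iff T).1 hT.ne
    obtain ⟨u, hu, huv⟩ := hnd v hv hv0
    exact all_of_pair (zero_key h1 h2 htop hTs hTT hTs' hTT' hnd hnd' hdim v hv)
      (zero_key h2 h1 (by rw [sup_comm]; exact htop) hTs' hTT' hTs hTT hnd' hnd hdim' u hu)
      (hTs v hv) (hTs' u hu) huv hVnd

end Cfsg.Agent.H110.Fpr
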