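import Cfsg.Agent.H110.Fpr.RowE
import Cfsg.Agent.S0126

/-!
# Primes dividing `q² - 1`, dimension at least five; extraction of rank two subgroups
-/

set_option autoImplicit false

namespace Cfsg.Agent.H110.Fpr

open Cfsg.Agent.TitsThree.Siegel Cfsg.Agent.TitsThree.SiegelGen Cfsg.Agent.H398.FPR
open Cfsg.Agent.H409

section

variable {F : Type*} [Field F] {V : Type*} [AddCommGroup V] [Module F V]
variable {H : HForm F V} {P : PQ H}

/-- splitting off a hyperbolic plane -/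
theorem split_hyp [Finite V] {W : Submodule F V} (hnd : ∀ v ∈ W, v ≠ 0 → ∃ w ∈ W, H.h v w ≠ 0)
    {e f : V} (he : e ∈ W) (hf : f ∈ W) (hes : P.ok e 0) (hfs : P.ok f 0) (hef : H.h e f = 1) :
    (∀ v ∈ W ⊓ perp H {e, f}, v ≠ 0 → ∃ w ∈ W ⊓ perp H {e, f}, H.h v w ≠ 0) ∧
    Module.finrank F W ≤ Module.finrank F ↥(W ⊓ perp H {e, f}) + 2 := by
  have hee := P.iso hes
  have hff := P.iso hfs
  have hfe : H.h f e = H.ε := by rw [H.swap e f, hef, map_one, mul_one]
  have hmem : ∀ w, w ∈ W ⊓ perp H {e, f} ↔ w ∈ W ∧ H.h w e = 0 ∧ H.h w f = 0 := by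
    intro w
    rw [Submodule.mem_inf, mem_perp]
    simp
  have hproj : ∀ v ∈ W, ∃ w ∈ W ⊓ perp H {e, f},
      v = w + (H.h v f • e + (H.ε⁻¹ * H.h v e) • f) := by
    intro v hv
    refine ⟨v - (H.h v f • e + (H.ε⁻¹ * H.h v e) • f), ?_, by abel⟩
    rw [hmem]
    refine ⟨W.sub_mem hv (W.add_mem (W.smul_mem _ he) (W.smul_mem _ hf)), ?_, ?_⟩
    · simp only [H.sub_left, H.add_left, H.smul_left, hee, hfe]
      field_simp [H.ε_ne]
      ring
    · simp only [H.sub_left, H.add_left, H.smul_left, hef, hff]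
      ring
  constructor
  · intro v hv hv0
    rw [hmem] at hv
    obtain ⟨w, hw, hvw⟩ := hnd v hv.1 hv0
    obtain ⟨w', hw', hww⟩ := hproj w hw
    refine ⟨w', hw', ?_⟩
    rw [hww, H.add_right, H.add_right, H.smul_right, H.smul_right, hv.2.1, hv.2.2, mul_zero,
      mul_zero, add_zero, add_zero] at hvw
    exact hvw
  · have h1 : W ≤ (W ⊓ perp H {e, f}) ⊔ Submodule.span F {e, f} := by
      intro v hv
      obtain ⟨w, hw, hvw⟩ := hproj v hv
      rw [hvw]
      exact Submodule.add_mem_sup hw (Submodule.mem_span_pair.2 ⟨_, _, rfl⟩)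
    have h2 := Submodule.finrank_mono h1
    have h3 := Submodule.finrank_add_le_finrank_add_finrank (W ⊓ perp H {e, f})
      (Submodule.span F {e, f})
    have h4 : Module.finrank F (Submodule.span F ({e, f} : Set V)) ≤ 2 := by
      classical
      have h5 := finrank_span_finset_le_card (R := F) ({e, f} : Finset V)
      have h6 : Finset.card ({e, f} : Finset V) ≤ 2 := Finset.card_le_two
      have h7 : (({e, f} : Finset V) : Set V) = {e, f} := by simp
      rw [h7] at h5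
      exact h5.trans h6
    omega

/-- **Type I** for all primes dividing `q² - 1` in dimension at least five. -/
theorem row_small [Finite F] [Finite V] {r : ℕ} [Fact r.Prime] [CharP F r] {p : ℕ}
    (hp : p.Prime) (hpF : (p : F) ≠ 0) (hd : p ∣ (Nat.card F) ^ 2 - 1) {κ : ℕ} (hκ3 : κ ≤ 3)
    (hκ : ∀ A : Submodule F V, κ ≤ Module.finrank F A → ∃ w ∈ A, w ≠ 0 ∧ P.ok w 0)
    (hND : ∀ v : V, v ≠ 0 → ∃ w, H.h v w ≠ 0) (hdim : 5 ≤ Module.finrank F V) :
    FprRow (2 * p - 1) (p - 1) p (SG P) := by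
  obtain ⟨t, j, k, hj, ht⟩ := exists_good2 (F := F) hp hpF hd
  have hnd0 : ∀ v ∈ (⊤ : Submodule F V), v ≠ 0 → ∃ w ∈ (⊤ : Submodule F V), H.h v w ≠ 0 := by
    intro v _ hv
    obtain ⟨w, hw⟩ := hND v hv
    exact ⟨w, trivial, hw⟩
  have hfr : Module.finrank F (⊤ : Submodule F V) = Module.finrank F V := finrank_top F V
  obtain ⟨e0, he0, he0n, se0⟩ := hκ ⊤ (by omega)
  obtain ⟨f0, hf0, sf0, h00⟩ := exists_hyp hnd0 he0 se0 he0n
  obtain ⟨hnd1, hd1⟩ := split_hyp hnd0 he0 hf0 se0 sf0 h00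
  rw [top_inf_eq] at hnd1 hd1
  obtain ⟨e1, he1, he1n, se1⟩ := hκ (perp H {e0, f0}) (by omega)
  obtain ⟨f1, hf1, sf1, h11⟩ := exists_hyp hnd1 he1 se1 he1n
  obtain ⟨hnd2, hd2⟩ := split_hyp hnd1 he1 hf1 se1 sf1 h11
  have he1e : H.h e1 e0 = 0 := he1 e0 (by simp)
  have he1f : H.h e1 f0 = 0 := he1 f0 (by simp)
  have hf1e : H.h f1 e0 = 0 := hf1 e0 (by simp)
  have hf1f : H.h f1 f0 = 0 := hf1 f0 (by simp)
  have hperp : perp H {e0, f0} ⊓ perp H {e1, f1} = perp H {e0, e1, f0, f1} := by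
    ext w
    rw [Submodule.mem_inf, mem_perp, mem_perp, mem_perp]
    simp only [Set.mem_insert_iff, Set.mem_singleton_iff, forall_eq_or_imp, forall_eq]
    tauto
  rw [hperp] at hnd2 hd2
  obtain ⟨m, hm, hm0⟩ : ∃ m ∈ perp H {e0, e1, f0, f1}, m ≠ 0 := by
    by_contra hcon
    push Not at hcon
    have : perp H {e0, e1, f0, f1} = ⊥ := by
      rw [eq_bot_iff]
      intro v hv
      exact hcon v hv
    rw [this, finrank_bot] at hd2
    omega
  obtain ⟨m', hm', hmm⟩ := hnd2 m hm hm0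
  exact row_I_explicit (r := r) hp hj ht se0 se1 sf0 sf1 h00 h11 (H.orth_symm hf1e) he1f
    (H.orth_symm he1e) (H.orth_symm hf1f) ⟨m, hm, m', hm', hmm⟩ (fun v _ hv => hND v hv)

end

/-- Extraction of a rank two elementary abelian subgroup of a cover. -/
theorem exists_rank_two {p : ℕ} [hp : Fact p.Prime] (hp2 : p ≠ 2) {G S : Type*} [Group G]
    [Finite G] [Group S] (f : G →* S) (hf : Function.Surjective f) (Q : Sylow p S)
    (hQ : ¬ IsCyclic Q) :
    ∃ a b : G, a * b = b * a ∧ a ^ p = 1 ∧ b ^ p = 1 ∧ b ≠ 1 ∧ ∀ i : ℕ, a * b ^ i ≠ 1 := by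
  have : Finite S := Finite.of_surjective f hf
  obtain ⟨P, hP⟩ := Sylow.mapSurjective_surjective hf p Q
  have hPc : ¬ IsCyclic P := by
    intro h
    apply hQ
    have h1 : ((P : Subgroup G).map f) = (Q : Subgroup S) := by
      rw [← hP]
      rfl
    rw [← h1]
    exact isCyclic_of_surjective (f.subgroupMap (P : Subgroup G))
      (f.subgroupMap_surjective (P : Subgroup G))
  obtain ⟨A, -, ⟨hA1, hA2⟩, hA3⟩ := Cfsg.Agent.S0126.result hp2 P.isPGroup' hPc
  have hA : Nontrivial A := by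
    rw [← Finite.one_lt_card_iff_nontrivial, hA3]
    have := hp.out.one_lt
    nlinarith
  obtain ⟨b, hb⟩ := exists_ne (1 : A)
  have hbp : (b : A) ^ p = 1 := Subtype.ext (hA2 b b.2)
  obtain ⟨a, ha⟩ : ∃ a : A, a ∉ Subgroup.zpowers b := by
    by_contra hcon
    push Not at hcon
    have h1 : Nat.card A ≤ p := by
      have h2 : Subgroup.zpowers b = ⊤ := by
        rw [eq_top_iff]
        intro a _
        exact hcon a
      rw [← Subgroup.card_top (G := A), ← h2, Nat.card_zpowers]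
      exact Nat.le_of_dvd hp.out.pos (orderOf_dvd_of_pow_eq_one hbp)
    rw [hA3] at h1
    have := hp.out.one_lt
    nlinarith
  have hcomm : a * b = b * a := mul_comm' a b
  refine ⟨((a : A) : P), ((b : A) : P), ?_, ?_, ?_, ?_, ?_⟩
  · have := congrArg (fun t : A => ((t : P) : G)) hcomm
    exact this
  · have := congrArg (fun t : P => (t : G)) (hA2 a a.2)
    exact this
  · have := congrArg (fun t : P => (t : G)) (hA2 b b.2)
    exact this
  · intro h
    apply hb
    exact Subtype.ext (Subtype.ext h)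
  · intro i h
    apply ha
    have h1 : a * b ^ i = 1 := Subtype.ext (Subtype.ext h)
    rw [mul_eq_one_iff_eq_inv] at h1
    rw [h1]
    exact Subgroup.inv_mem _ (Subgroup.pow_mem _ (Subgroup.mem_zpowers b) i)

end Cfsg.Agent.H110.Fpr
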