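import Cfsg.Agent.H110.Fpr.LinZero
import Cfsg.Agent.H110.Fpr.Small

/-!
# Radical data from an element of order `p`
-/

set_option autoImplicit false

namespace Cfsg.Agent.H110.Fpr

open Cfsg.Agent.TitsThree.Siegel Cfsg.Agent.TitsThree.SiegelGen Cfsg.Agent.H398.FPR
open Cfsg.Agent.H409

variable {F : Type*} [Field F] {V : Type*} [AddCommGroup V] [Module F V]
variable {H : HForm F V} {P : PQ H}

/-- truncation of `x` -/
theorem exists_trunc [Finite V] (x : V ≃ₗ[F] V) {W M : Submodule F V} (hc : IsCompl W M)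
    (hW : Inv x W) : ∃ y : V ≃ₗ[F] V, (∀ w ∈ W, y w = x w) ∧ ∀ m ∈ M, y m = m := by
  have : Module.Finite F V := Module.Finite.of_finite
  let f : V →ₗ[F] V := LinearMap.id + ((x : V →ₗ[F] V) - LinearMap.id) ∘ₗ W.projection M hc
  have hfW : ∀ w ∈ W, f w = x w := by
    intro w hw
    change w + (x (W.projection M hc w) - W.projection M hc w) = x w
    rw [Submodule.projection_apply_of_mem_left hc hw]
    abel
  have hfM : ∀ m ∈ M, f m = m := by
    intro m hm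
    change m + (x (W.projection M hc m) - W.projection M hc m) = m
    rw [Submodule.projection_apply_of_mem_right hc hm, map_zero, sub_zero, add_zero]
  have hinj : Function.Injective f := by
    rw [← LinearMap.ker_eq_bot, LinearMap.ker_eq_bot']
    intro v hv
    have hv' : v ∈ W ⊔ M := by rw [hc.sup_eq_top]; trivial
    obtain ⟨w, hw, m, hm, rfl⟩ := Submodule.mem_sup.1 hv'
    rw [map_add, hfW w hw, hfM m hm] at hv
    have h1 : x w = -m := eq_neg_of_add_eq_zero_left hv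
    have h2 : x w ∈ W ⊓ M := ⟨hW w hw, by rw [h1]; exact M.neg_mem hm⟩
    rw [hc.inf_eq_bot, Submodule.mem_bot] at h2
    have h3 : w = 0 := by
      apply x.injective
      rw [h2, map_zero]
    rw [h2] at h1
    rw [h3, zero_add]
    exact (neg_eq_zero.1 h1.symm)
  refine ⟨LinearEquiv.ofInjectiveEndo f hinj, ?_, ?_⟩
  · intro w hw
    exact hfW w hw
  · intro m hm
    exact hfM m hm

theorem trunc_iso {x y : V ≃ₗ[F] V} (hxi : H.IsIso x) {W M : Submodule F V}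
    (htop : W ⊔ M = ⊤) (horth : ∀ w ∈ W, ∀ m ∈ M, H.h w m = 0) (hW : Inv x W)
    (h1 : ∀ w ∈ W, y w = x w) (h2 : ∀ m ∈ M, y m = m) : H.IsIso y := by
  intro v v'
  have hv : v ∈ W ⊔ M := by rw [htop]; trivial
  have hv' : v' ∈ W ⊔ M := by rw [htop]; trivial
  obtain ⟨w, hw, m, hm, rfl⟩ := Submodule.mem_sup.1 hv
  obtain ⟨w', hw', m', hm', rfl⟩ := Submodule.mem_sup.1 hv'
  simp only [map_add, h1 w hw, h1 w' hw', h2 m hm, h2 m' hm', H.add_left, H.add_right,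
    horth _ (hW w hw) m' hm', horth w hw m' hm', H.orth_symm (horth _ (hW w' hw') m hm),
    H.orth_symm (horth w' hw' m hm), hxi w w']

theorem trunc_ok {x y : V ≃ₗ[F] V} (hxok : ∀ w c, P.ok w c → P.ok (x w) c)
    {W M : Submodule F V} (htop : W ⊔ M = ⊤) (horth : ∀ w ∈ W, ∀ m ∈ M, H.h w m = 0)
    (hW : Inv x W) (h1 : ∀ w ∈ W, y w = x w) (h2 : ∀ m ∈ M, y m = m) :
    ∀ w c, P.ok w c → P.ok (y w) c := by
  intro v c hvc
  have hv : v ∈ W ⊔ M := by rw [htop]; trivial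
  obtain ⟨w, hw, m, hm, rfl⟩ := Submodule.mem_sup.1 hv
  obtain ⟨c1, hc1⟩ := P.ex w
  obtain ⟨c2, hc2⟩ := P.ex m
  have h3 := P.add hc1 hc2
  have h4 := P.sub hvc h3
  have h5 := P.add (P.add (hxok w c1 hc1) hc2) h4
  refine P.congr h5 ?_ ?_
  · rw [map_add, h1 w hw, h2 m hm, add_zero]
  · rw [H.orth_symm (horth _ (hW w hw) m hm), H.orth_symm (horth w hw m hm), H.zero_left]
    ring

theorem trunc_pow {x y : V ≃ₗ[F] V} {W M : Submodule F V} (hW : Inv x W)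
    (h1 : ∀ w ∈ W, y w = x w) (n : ℕ) : ∀ w ∈ W, (y ^ n) w = (x ^ n) w := by
  induction n with
  | zero => intro w _; rfl
  | succ n ih =>
    intro w hw
    rw [pow_succ, pow_succ, LinearEquiv.mul_apply, LinearEquiv.mul_apply, h1 w hw]
    exact ih _ (hW w hw)

theorem trunc_pow_eq_one {x y : V ≃ₗ[F] V} {p : ℕ} (hx : x ^ p = 1) {W M : Submodule F V}
    (htop : W ⊔ M = ⊤) (hW : Inv x W) (h1 : ∀ w ∈ W, y w = x w) (h2 : ∀ m ∈ M, y m = m) :
    y ^ p = 1 := by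
  ext v
  have hv : v ∈ W ⊔ M := by rw [htop]; trivial
  obtain ⟨w, hw, m, hm, rfl⟩ := Submodule.mem_sup.1 hv
  rw [map_add, trunc_pow (M := M) hW h1 p w hw, hx, pow_fix h2 p m hm]
  rfl

/-- moved isotropic invariant subspaces are singular -/
theorem sing_of_moved {x : V ≃ₗ[F] V} (hxok : ∀ w c, P.ok w c → P.ok (x w) c)
    {T : Submodule F V} (hT : Inv x T) (hTT : ∀ u ∈ T, ∀ v ∈ T, H.h u v = 0)
    (hsurj : ∀ v ∈ T, ∃ w ∈ T, x w - w = v) : ∀ u ∈ T, P.ok u 0 := by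
  intro u hu
  obtain ⟨w, hw, rfl⟩ := hsurj u hu
  obtain ⟨c, hc⟩ := P.ex w
  refine P.congr (P.add (hxok w c hc) (P.inv hc)) (by abel) ?_
  rw [hTT w hw w hw, H.neg_left, hTT w hw (x w) (hT w hw)]
  ring

theorem surj_of_fpf [Finite V] {x : V ≃ₗ[F] V} {T : Submodule F V} (hT : Inv x T)
    (hfpf : ∀ v ∈ T, x v = v → v = 0) : ∀ v ∈ T, ∃ w ∈ T, x w - w = v := by
  intro v hv
  let f : T → T := fun w => ⟨x w - w, T.sub_mem (hT w w.2) w.2⟩
  have hf : Function.Injective f := by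
    intro a b hab
    have h1 : x a - a = x b - b := congrArg Subtype.val hab
    have h2 : x ((a : V) - b) = (a : V) - b := by
      rw [map_sub]
      have h3 : x a = x b - b + a := by rw [← h1]; abel
      rw [h3]; abel
    exact Subtype.ext (sub_eq_zero.1 (hfpf _ (T.sub_mem a.2 b.2) h2))
  obtain ⟨w, hw⟩ := (Finite.injective_iff_surjective.1 hf) ⟨v, hv⟩
  exact ⟨w, w.2, congrArg Subtype.val hw⟩

/-- nondegenerate pieces -/
theorem nd_perp [Finite V] {W : Submodule F V} (hnd : ∀ v ∈ W, v ≠ 0 → ∃ w ∈ W, H.h v w ≠ 0)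
    (hND : ∀ v : V, v ≠ 0 → ∃ w, H.h v w ≠ 0) :
    ∀ v ∈ perp H (W : Set V), v ≠ 0 → ∃ w ∈ perp H (W : Set V), H.h v w ≠ 0 := by
  intro v hv hv0
  obtain ⟨w, hw⟩ := hND v hv0
  have hw' : w ∈ W ⊔ perp H (W : Set V) := by rw [perp_sup hnd]; trivial
  obtain ⟨a, ha, m, hm, rfl⟩ := Submodule.mem_sup.1 hw'
  refine ⟨m, hm, ?_⟩
  rwa [H.add_right, hv a ha, zero_add] at hw

/-- **Linear type.** -/
theorem master_L [Finite V] {r : ℕ} [Fact r.Prime] [CharP F r] {p : ℕ} (hp : p.Prime)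
    (hp2 : p ≠ 2) (hpF : (p : F) ≠ 0) {x : V ≃ₗ[F] V} (hxi : H.IsIso x)
    (hxok : ∀ w c, P.ok w c → P.ok (x w) c) (hx : x ^ p = 1) (hx1 : x ≠ 1)
    (hK : ∀ y : V ≃ₗ[F] V, H.IsIso y → (∀ w c, P.ok w c → P.ok (y w) c) → y ^ p = 1 →
      y ∈ SG P) (hND : ∀ v : V, v ≠ 0 → ∃ w, H.h v w ≠ 0)
    (hdim : (∀ T : Submodule F V, IsMin x T → T ≤ movS p x → 3 ≤ Module.finrank F T) ∨
      ∃ c, c ≠ 0 ∧ P.ok 0 c)
    (hall : ∀ T : Submodule F V, IsMin x T → T ≤ movS p x → ∀ u ∈ T, ∀ v ∈ T, H.h u v = 0) :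
    RadData r p 0 2 (SG P) := by
  obtain ⟨nd1, nd2⟩ := nd_pieces hpF hxi hx hND
  have hU : Inv x (movS p x) := movS_inv rfl
  have hU0 : movS p x ≠ ⊥ := by
    intro h
    apply hx1
    have h1 := fixS_sup_movS hx hpF
    rw [h, bot_sup_eq] at h1
    ext v
    have hv : v ∈ fixS x := by rw [h1]; trivial
    exact hv
  obtain ⟨T, hTU, hT⟩ := exists_isMin hU hU0
  have hTT := hall T hT hTU
  -- the complement
  obtain ⟨t, ht, ht0⟩ := (Submodule.ne_bot_iff T).1 hT.ne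
  obtain ⟨C, hCU, hCi, hC1, hC2⟩ := exists_compl hp hpF hx (Inv.inf hU (perp_inv hxi hT.inv)) hU
    inf_le_left
  have hC0 : C ≠ ⊥ := by
    intro h
    rw [h, sup_bot_eq] at hC2
    obtain ⟨w, hw, hw1⟩ := nd1 t (hTU ht) ht0
    have hw2 : w ∈ movS p x ⊓ perp H (T : Set V) := by rw [hC2]; exact hw
    exact hw1 (H.orth_symm (hw2.2 t ht))
  obtain ⟨T', hTC', hT'⟩ := exists_isMin hCi hC0
  have hTU' := hTC'.trans hCU
  have hTT' := hall T' hT' hTU'
  have hnd' : ∀ u ∈ T', u ≠ 0 → ∃ u' ∈ T, H.h u' u ≠ 0 := by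
    intro u hu hu0
    by_contra hcon
    push Not at hcon
    have h1 : u ∈ movS p x ⊓ perp H (T : Set V) ⊓ C :=
      ⟨⟨hTU' hu, fun v hv => H.orth_symm (hcon v hv)⟩, hTC' hu⟩
    rw [hC1, Submodule.mem_bot] at h1
    exact hu0 h1
  have hnd : ∀ u ∈ T, u ≠ 0 → ∃ u' ∈ T', H.h u' u ≠ 0 := by
    intro u hu hu0
    by_contra hcon
    push Not at hcon
    rcases hT.inf_eq (perp_inv hxi hT'.inv) with h | h
    · have h1 : u ∈ T ⊓ perp H (T' : Set V) := ⟨hu, fun v hv => H.orth_symm (hcon v hv)⟩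
      rw [h, Submodule.mem_bot] at h1
      exact hu0 h1
    · obtain ⟨t', ht', ht0'⟩ := (Submodule.ne_bot_iff T').1 hT'.ne
      obtain ⟨v, hv, hv1⟩ := hnd' t' ht' ht0'
      exact hv1 (h hv t' ht')
  have hfpf : ∀ v ∈ T, x v = v → v = 0 := fun v hv h => eq_zero_of_mem hpF (hTU hv) h
  have hfpf' : ∀ v ∈ T', x v = v → v = 0 := fun v hv h => eq_zero_of_mem hpF (hTU' hv) h
  have hTs := sing_of_moved hxok hT.inv hTT (surj_of_fpf hT.inv hfpf)
  have hTs' := sing_of_moved hxok hT'.inv hTT' (surj_of_fpf hT'.inv hfpf')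
  have hWi : Inv x (T ⊔ T') := hT.inv.sup hT'.inv
  have hWnd : ∀ v ∈ T ⊔ T', v ≠ 0 → ∃ w ∈ T ⊔ T', H.h v w ≠ 0 := by
    intro v hv hv0
    obtain ⟨a, ha, b, hb, rfl⟩ := Submodule.mem_sup.1 hv
    by_cases ha0 : a = 0
    · subst ha0
      rw [zero_add] at hv0
      obtain ⟨u, hu, hu1⟩ := hnd' b hb hv0
      refine ⟨u, Submodule.mem_sup_left hu, ?_⟩
      rw [zero_add]
      exact fun h => hu1 (H.orth_symm h)
    · obtain ⟨u, hu, hu1⟩ := hnd a ha ha0
      refine ⟨u, Submodule.mem_sup_right hu, ?_⟩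
      rw [H.add_left, hTT' b hb u hu, add_zero]
      exact fun h => hu1 (H.orth_symm h)
  have hsup := perp_sup hWnd
  have hinf := perp_inf hWnd
  have hVnd : ∀ v : V, P.ok v 0 → v ≠ 0 → ∃ w, H.h v w ≠ 0 := fun v _ hv => hND v hv
  by_cases hM : perp H ((T ⊔ T' : Submodule F V) : Set V) = ⊥
  · rw [hM, sup_bot_eq] at hsup
    have hUtop : movS p x = ⊤ := by
      rw [eq_top_iff, ← hsup]
      exact sup_le hTU hTU'
    exact data_zero hp hp2 (hK x hxi hxok hx) hx hT hT' hsup hTs hTs' hnd hnd' hfpf hfpf'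
      (fun S hS => hall S hS (by rw [hUtop]; exact le_top)) 
      (hdim.imp_left fun h => h T hT hTU) (hdim.imp_left fun h => h T' hT' hTU')
      hVnd
  · obtain ⟨y, hy1, hy2⟩ := exists_trunc x (W := T ⊔ T')
      (M := perp H ((T ⊔ T' : Submodule F V) : Set V))
      ⟨disjoint_iff.2 hinf, codisjoint_iff.2 hsup⟩ hWi
    have horth : ∀ w ∈ T ⊔ T', ∀ m ∈ perp H ((T ⊔ T' : Submodule F V) : Set V),
        H.h w m = 0 := fun w hw m hm => H.orth_symm (hm w hw)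
    have hyi := trunc_iso hxi hsup horth hWi hy1 hy2
    have hyok := trunc_ok hxok hsup horth hWi hy1 hy2
    have hyp := trunc_pow_eq_one hx hsup hWi hy1 hy2
    have hyT : ∀ w ∈ T, y w = x w := fun w hw => hy1 w (Submodule.mem_sup_left hw)
    have hyT' : ∀ w ∈ T', y w = x w := fun w hw => hy1 w (Submodule.mem_sup_right hw)
    obtain ⟨m, hm, hm0⟩ := (Submodule.ne_bot_iff _).1 hM
    obtain ⟨m', hm', hmm⟩ := nd_perp hWnd hND m hm hm0
    obtain ⟨u, hu, hu1⟩ := hnd t ht ht0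
    refine data_I (T := T) (T' := T') (M := perp H ((T ⊔ T' : Submodule F V) : Set V)) (j := 0)
      (k := 1) (hK y hyi hyok hyp) (by rw [pow_one]; exact hyp) ?_ ?_ ?_ hy2 ?_ ?_ hTs hTT
      hTs' hTT' ?_ ?_ ⟨m, hm, m', hm', hmm⟩ ⟨t, ht, u, hu, hu1⟩ hVnd
    · rw [sup_right_comm]
      exact hsup
    · intro w hw
      rw [hyT w hw]
      exact hT.inv w hw
    · intro w hw
      rw [hyT' w hw]
      exact hT'.inv w hw
    · intro w hw
      obtain ⟨w', hw', h⟩ := surj_of_fpf hT.inv hfpf w hw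
      refine ⟨w', hw', ?_⟩
      rw [pow_zero, pow_one, hyT w' hw']
      exact h
    · intro w hw
      obtain ⟨w', hw', h⟩ := surj_of_fpf hT'.inv hfpf' w hw
      refine ⟨w', hw', ?_⟩
      rw [pow_zero, pow_one, hyT' w' hw']
      exact h
    · intro u hu w hw
      exact horth u (Submodule.mem_sup_left hu) w hw
    · intro u hu w hw
      exact horth u (Submodule.mem_sup_right hu) w hw

end Cfsg.Agent.H110.Fpr
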