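import Cfsg.Agent.H110.Fpr.Master

/-!
# Nondegenerate minimal subspaces: the dimension
-/

set_option autoImplicit false

namespace Cfsg.Agent.H110.Fpr

open Cfsg.Agent.TitsThree.Siegel Cfsg.Agent.TitsThree.SiegelGen
open Polynomial

/-- Endomorphisms of finite fields. -/
theorem exists_frob_hom {K : Type*} [CommRing K] [IsDomain K] [Finite K] {r : ℕ}
    [Fact r.Prime] [CharP K r] (τ : K →+* K) : ∃ n : ℕ, ∀ k, τ k = k ^ r ^ n := by
  classical
  have := Fintype.ofFinite K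
  let _ : Field K := Fintype.fieldOfDomain K
  let _ : Algebra (ZMod r) K := ZMod.algebra K r
  have hinj : Function.Injective τ := τ.injective
  have hbij : Function.Bijective τ := ⟨hinj, Finite.injective_iff_surjective.1 hinj⟩
  let σ : K ≃ₐ[ZMod r] K := AlgEquiv.ofRingEquiv (f := RingEquiv.ofBijective τ hbij) (by
    intro c
    have h1 : (τ.comp (algebraMap (ZMod r) K)) = algebraMap (ZMod r) K := Subsingleton.elim _ _
    exact congrArg (fun f : ZMod r →+* K => f c) h1)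
  have hσ : ∀ k, σ k = τ k := fun k => rfl
  obtain ⟨n, hn⟩ := (FiniteField.bijective_frobeniusAlgEquivOfAlgebraic_pow (ZMod r) K).2 σ
  refine ⟨n, fun k => ?_⟩
  rw [← hσ, ← hn]
  have key : ∀ n : ℕ, ((FiniteField.frobeniusAlgEquivOfAlgebraic (ZMod r) K) ^ n) k =
      k ^ r ^ n := by
    intro n
    induction n with
    | zero => simp
    | succ n ih =>
      rw [pow_succ', AlgEquiv.mul_apply, ih,
        FiniteField.coe_frobeniusAlgEquivOfAlgebraic]
      change (k ^ r ^ n) ^ Fintype.card (ZMod r) = _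
      rw [ZMod.card, ← pow_mul, pow_succ]
  exact key n

variable {F : Type*} [Field F] {V : Type*} [AddCommGroup V] [Module F V] {H : HForm F V}

/-- **The adjoint involution** of a nondegenerate minimal subspace. -/
theorem IsMin.exists_conj [Finite F] [Finite V] {r : ℕ} [Fact r.Prime] [CharP F r] {p : ℕ}
    (hp : p.Prime) {x : V ≃ₗ[F] V} (hxi : H.IsIso x) (hx : x ^ p = 1) {T : Submodule F V}
    (hT : IsMin x T) (hnd : ∃ v ∈ T, ∃ w ∈ T, H.h v w ≠ 0) (hmov : ∃ v ∈ T, x v ≠ v) :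
    ∃ n : ℕ, p ∣ r ^ n + 1 ∧ ∀ c : F, H.σ c = c ^ r ^ n := by
  obtain ⟨hfin, hcard⟩ := hT.card_quot
  have hprime := hT.ann_isPrime
  have hdom : IsDomain (F[X] ⧸ ann x T) := Ideal.Quotient.isDomain _
  have hnd' := hT.nondeg hxi hnd
  let π : F[X] →+* (F[X] ⧸ ann x T) := Ideal.Quotient.mk (ann x T)
  have hπ : ∀ g, π g = 0 ↔ g ∈ ann x T := fun g => Ideal.Quotient.eq_zero_iff_mem
  have hCinj : Function.Injective (π.comp C) := (π.comp C).injective
  have hch : CharP (F[X] ⧸ ann x T) r := charP_of_injective_ringHom hCinj r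
  have hαp : π X ^ p = 1 := by
    rw [← map_pow, ← map_one π, ← sub_eq_zero, ← map_sub, hπ]
    intro v _
    rw [op_sub, op_X_pow, op_one, hx]
    exact sub_self v
  have hα1 : π X ≠ 1 := by
    rw [← map_one π, Ne, ← sub_eq_zero, ← map_sub, hπ]
    intro h
    obtain ⟨v, hv, hv1⟩ := hmov
    apply hv1
    have := h v hv
    rw [op_sub, op_X, op_one, sub_eq_zero] at this
    exact this
  have hβ : π X * π (X ^ (p - 1)) = 1 := by
    rw [map_pow, ← pow_succ', Nat.sub_add_cancel hp.pos, hαp]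
  -- the adjoint
  let ad : F[X] →+* F[X] := (compRingHom (X ^ (p - 1) : F[X])).comp (mapRingHom (H.σ : F →+* F))
  have had : ∀ g, ad g = (g.map (H.σ : F →+* F)).comp (X ^ (p - 1)) := fun g => rfl
  have hkill : ∀ g ∈ ann x T, (π.comp ad) g = 0 := by
    intro g hg
    rw [RingHom.comp_apply, hπ, had]
    intro w hw
    by_contra h0
    obtain ⟨v, hv, h1⟩ := hnd' _ (hT.inv.op _ w hw) h0
    apply h1
    apply H.orth_symm
    have h3 := op_adj hxi hp.pos hx g v w
    rw [hg v hv, H.zero_left] at h3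
    exact h3.symm
  let τ : (F[X] ⧸ ann x T) →+* (F[X] ⧸ ann x T) := Ideal.Quotient.lift (ann x T) (π.comp ad) hkill
  have hτ : ∀ g, τ (π g) = π (ad g) := fun g => Ideal.Quotient.lift_mk _ _ _
  obtain ⟨n, hn⟩ := exists_frob_hom (r := r) τ
  refine ⟨n, ?_, fun c => ?_⟩
  · have h1 : π X ^ (r ^ n + 1) = 1 := by
      rw [pow_succ', ← hn, hτ, had, Polynomial.map_X, X_comp, hβ]
    have := Fact.mk hp
    have h2 : orderOf (π X) = p := orderOf_eq_prime hαp hα1
    rw [← h2]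
    exact orderOf_dvd_of_pow_eq_one h1
  · have h1 := hn (π (C c))
    rw [hτ, had, map_C, C_comp, ← map_pow, ← C_pow] at h1
    exact hCinj h1

theorem IsMin.le_finrank [Finite F] [Finite V] {p : ℕ} (hp : p.Prime)
    {x : V ≃ₗ[F] V} (hx : x ^ p = 1) {T : Submodule F V} (hT : IsMin x T)
    (hmov : ∃ v ∈ T, x v ≠ v) (hpF : (p : F) ≠ 0) {κ : ℕ}
    (hκ : ∀ i, 0 < i → i < κ → ¬ p ∣ (Nat.card F) ^ i - 1) : κ ≤ Module.finrank F T :=
  le_finrank_of_moved hp hx hT.inv hκ hmov (not_dvd_card hp hpF)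

theorem dvd_pow_sub_one_iff {p q k : ℕ} (hq : 1 ≤ q) :
    p ∣ q ^ k - 1 ↔ (q : ZMod p) ^ k = 1 := by
  have h1 : 1 ≤ q ^ k := Nat.one_le_pow _ _ hq
  rw [← ZMod.natCast_eq_zero_iff, Nat.cast_sub h1, Nat.cast_pow, Nat.cast_one, sub_eq_zero]

theorem dvd_pow_add_one_iff {p q k : ℕ} : p ∣ q ^ k + 1 ↔ (q : ZMod p) ^ k = -1 := by
  rw [← ZMod.natCast_eq_zero_iff, Nat.cast_add, Nat.cast_pow, Nat.cast_one,
    add_eq_zero_iff_eq_neg]

/-- **The dimension of a moved minimal subspace** is the order of `|F|` modulo `p`. -/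
theorem IsMin.finrank_eq [Finite F] [Finite V] {p : ℕ} (hp : p.Prime)
    {x : V ≃ₗ[F] V} (hx : x ^ p = 1) {T : Submodule F V} (hT : IsMin x T)
    (hmov : ∃ v ∈ T, x v ≠ v) (hpF : (p : F) ≠ 0) :
    Module.finrank F T = orderOf ((Nat.card F : ℕ) : ZMod p) := by
  have := Fact.mk hp
  have hq : 1 ≤ Nat.card F := Nat.card_pos
  have hq0 : ((Nat.card F : ℕ) : ZMod p) ≠ 0 := by
    rw [Ne, ZMod.natCast_eq_zero_iff]
    exact not_dvd_card hp hpF
  have ho : 0 < orderOf ((Nat.card F : ℕ) : ZMod p) := by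
    rw [← Units.val_mk0 hq0, orderOf_units]
    exact orderOf_pos _
  apply le_antisymm
  · have h1 := hT.card_le hx ho ((dvd_pow_sub_one_iff hq).2 (pow_orderOf_eq_one _))
    have := Fintype.ofFinite F
    have := Fintype.ofFinite T
    have h2 : Nat.card T = Nat.card F ^ Module.finrank F T := by
      rw [Nat.card_eq_fintype_card, Nat.card_eq_fintype_card]
      exact Module.card_eq_pow_finrank
    rw [h2] at h1
    exact (Nat.pow_le_pow_iff_right Finite.one_lt_card).1 h1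
  · apply hT.le_finrank hp hx hmov hpF
    intro i hi0 hi h
    exact pow_ne_one_of_lt_orderOf hi0.ne' hi ((dvd_pow_sub_one_iff hq).1 h)

theorem IsMin.finrank_dvd [Finite F] [Finite V] {p : ℕ} (hp : p.Prime)
    {x : V ≃ₗ[F] V} (hx : x ^ p = 1) {T : Submodule F V} (hT : IsMin x T)
    (hmov : ∃ v ∈ T, x v ≠ v) (hpF : (p : F) ≠ 0) {k : ℕ} (hk : p ∣ Nat.card F ^ k - 1) :
    Module.finrank F T ∣ k := by
  rw [hT.finrank_eq hp hx hmov hpF]
  exact orderOf_dvd_of_pow_eq_one ((dvd_pow_sub_one_iff Nat.card_pos).1 hk)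

/-- If `-1` is a power then the order is even. -/
theorem even_orderOf {p : ℕ} (hp : p.Prime) (hp2 : p ≠ 2) {a : ZMod p} {k : ℕ}
    (h : a ^ k = -1) : ∃ s, orderOf a = 2 * s ∧ a ^ s = -1 := by
  have := Fact.mk hp
  have h11 : (-1 : ZMod p) ≠ 1 := by
    have : Fact (2 < p) := ⟨lt_of_le_of_ne hp.two_le (Ne.symm hp2)⟩
    exact ZMod.neg_one_ne_one
  have h1 : a ^ (2 * k) = 1 := by
    rw [mul_comm, pow_mul, h, neg_one_sq]
  have h2 : orderOf a ∣ 2 * k := orderOf_dvd_of_pow_eq_one h1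
  have ha0 : a ≠ 0 := by
    rintro rfl
    rcases Nat.eq_zero_or_pos k with rfl | hk
    · rw [pow_zero] at h; exact h11 h.symm
    · rw [zero_pow hk.ne'] at h
      have : (1 : ZMod p) = 0 := by linear_combination h
      exact one_ne_zero this
  rcases Nat.even_or_odd' (orderOf a) with ⟨s, hs | hs⟩
  · refine ⟨s, hs, ?_⟩
    have h3 : (a ^ s - 1) * (a ^ s + 1) = 0 := by
      have h4 : a ^ (2 * s) = 1 := by rw [← hs]; exact pow_orderOf_eq_one a
      have h5 : (a ^ s - 1) * (a ^ s + 1) = a ^ (2 * s) - 1 := by ring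
      rw [h5, h4, sub_self]
    rcases mul_eq_zero.1 h3 with h4 | h4
    · exfalso
      have h5 : a ^ s = 1 := sub_eq_zero.1 h4
      have h6 := orderOf_dvd_of_pow_eq_one h5
      have hpos : 0 < orderOf a := by
        rw [← Units.val_mk0 ha0, orderOf_units]
        exact orderOf_pos _
      have h7 : s ≠ 0 := by rintro rfl; omega
      have h8 := Nat.le_of_dvd (Nat.pos_of_ne_zero h7) h6
      omega
    · exact eq_neg_of_add_eq_zero_left h4
  · exfalso
    have h3 : orderOf a ∣ k := by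
      have h4 : Nat.Coprime (orderOf a) 2 := by
        rw [hs]
        simp
      exact h4.dvd_of_dvd_mul_left h2
    have h5 := orderOf_dvd_iff_pow_eq_one.1 h3
    rw [h] at h5
    exact h11 h5

/-- **Numbers.** -/
theorem num_N {p r : ℕ} (hp : p.Prime) (hp5 : 5 ≤ p) (hr : r.Prime)
    (hn : ∃ n, p ∣ r ^ n + 1) {t : ℕ} (ht : t ≠ 0) (hrt : r ^ t ≡ 1 [MOD p]) :
    3 * p + 1 ≤ r ^ t ∧ (4 * p + 1 ≤ r ^ t ∨ (r = 2 ∧ p = 5)) := by
  have := Fact.mk hp
  obtain ⟨n, hn⟩ := hn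
  rw [dvd_pow_add_one_iff] at hn
  obtain ⟨s, hs, hs1⟩ := even_orderOf hp (by omega) hn
  have h1 : (r : ZMod p) ^ t = 1 := by
    have := (ZMod.natCast_eq_natCast_iff _ _ _).2 hrt
    push_cast at this
    exact this
  have h2 : orderOf (r : ZMod p) ∣ t := orderOf_dvd_of_pow_eq_one h1
  have h3 : 2 * s ≤ t := by
    rw [← hs]
    exact Nat.le_of_dvd (Nat.pos_of_ne_zero ht) h2
  have h4 : (r ^ s) ^ 2 ≤ r ^ t := by
    rw [← pow_mul, mul_comm]
    exact Nat.pow_le_pow_right hr.pos h3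
  have h5 : p ∣ r ^ s + 1 := dvd_pow_add_one_iff.2 hs1
  obtain ⟨c, hc⟩ := h5
  have hc0 : c ≠ 0 := by rintro rfl; omega
  rcases Nat.lt_or_ge c 2 with h6 | h6
  · have hc1 : c = 1 := by omega
    rw [hc1, mul_one] at hc
    have h7 : r ^ s = p - 1 := by omega
    rcases Nat.lt_or_ge p 6 with h8 | h8
    · have hp5' : p = 5 := by omega
      subst hp5'
      have h9 : r ^ s = 4 := h7
      have hr2 : r = 2 := by
        have h10 : r ∣ 4 := by
          rw [← h9]
          refine dvd_pow_self r ?_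
          rintro rfl
          rw [pow_zero] at h9
          omega
        have h11 : r ∣ 2 := hr.dvd_of_dvd_pow (show r ∣ 2 ^ 2 from h10)
        exact (Nat.prime_dvd_prime_iff_eq hr Nat.prime_two).1 h11
      rw [h9] at h4
      exact ⟨by omega, Or.inr ⟨hr2, rfl⟩⟩
    · rw [h7] at h4
      obtain ⟨d, rfl⟩ : ∃ d, p = d + 6 := ⟨p - 6, by omega⟩
      have h9 : (d + 6 - 1) ^ 2 = d ^ 2 + 10 * d + 25 := by
        rw [show d + 6 - 1 = d + 5 by omega]; ring
      rw [h9] at h4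
      constructor
      · nlinarith
      · left; nlinarith
  · have h7 : 2 * p - 1 ≤ r ^ s := by
      have : p * 2 ≤ p * c := Nat.mul_le_mul_left _ h6
      omega
    have h8 : (2 * p - 1) ^ 2 ≤ (r ^ s) ^ 2 := Nat.pow_le_pow_left h7 2
    obtain ⟨d, rfl⟩ : ∃ d, p = d + 5 := ⟨p - 5, by omega⟩
    have h9 : (2 * (d + 5) - 1) ^ 2 = 4 * d ^ 2 + 36 * d + 81 := by
      rw [show 2 * (d + 5) - 1 = 2 * d + 9 by omega]; ring
    rw [h9] at h8
    constructor
    · nlinarith
    · left; nlinarith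

end Cfsg.Agent.H110.Fpr
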