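import Cfsg.Agent.H110.Fpr.Row
import Cfsg.Agent.ClassicalGeometry.PSL2Basic

/-!
# Elements satisfying `x² = t x - 1` on a subspace
-/

set_option autoImplicit false

namespace Cfsg.Agent.H110.Fpr

open Cfsg.Agent.TitsThree.Siegel Cfsg.Agent.TitsThree.SiegelGen Cfsg.Agent.H398.FPR

/-- `X ^ n = a X + b` modulo `X² = t X - 1`. -/
def lu {F : Type*} [Field F] (t : F) : ℕ → F × F
  | 0 => (0, 1)
  | n + 1 => (t * (lu t n).1 + (lu t n).2, -(lu t n).1)

theorem lu_map {F F' : Type*} [Field F] [Field F'] (f : F →+* F') (t : F) (n : ℕ) :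
    lu (f t) n = (f (lu t n).1, f (lu t n).2) := by
  induction n with
  | zero => simp [lu]
  | succ n ih => simp [lu, ih]

theorem lu_two {F : Type*} [Field F] (n : ℕ) : lu (2 : F) n = ((n : F), 1 - (n : F)) := by
  induction n with
  | zero => simp [lu]
  | succ n ih =>
    rw [lu, ih]
    push_cast
    ext <;> ring

theorem lu_ring {F : Type*} [Field F] {A : Type*} [Ring A] [Algebra F A] {t : F} {g : A}
    (h : g * g = t • g - 1) (n : ℕ) : g ^ n = (lu t n).1 • g + (lu t n).2 • (1 : A) := by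
  induction n with
  | zero => simp [lu]
  | succ n ih =>
    rw [pow_succ', ih, mul_add, mul_smul_comm, mul_smul_comm, h, mul_one, lu]
    module

variable {F : Type*} [Field F] {V : Type*} [AddCommGroup V] [Module F V]

theorem lu_pow {g : V ≃ₗ[F] V} {v : V} {t : F} (h : g (g v) = t • g v - v) (n : ℕ) :
    (g ^ n) v = (lu t n).1 • g v + (lu t n).2 • v := by
  induction n with
  | zero => simp [lu]
  | succ n ih =>
    rw [pow_succ']
    change g ((g ^ n) v) = _
    rw [ih, map_add, map_smul, map_smul, h, lu]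
    module

/-- The conditions on the trace. -/
def Good2 (p j k : ℕ) (t : F) : Prop :=
  lu t (p ^ k) = (0, 1) ∧ (lu t (p ^ j)).1 ^ 2 +
    (lu t (p ^ j)).1 * ((lu t (p ^ j)).2 - 1) * t + ((lu t (p ^ j)).2 - 1) ^ 2 ≠ 0

theorem Good2.map {F' : Type*} [Field F'] {p j k : ℕ} {t : F} (h : Good2 p j k t)
    (f : F →+* F') : Good2 p j k (f t) := by
  refine ⟨?_, ?_⟩
  · rw [lu_map, h.1, map_zero, map_one]
  · rw [lu_map]
    have h2 := h.2
    intro h3
    apply h2
    apply f.injective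
    rw [map_zero, ← h3]
    simp

theorem exists_good2 [Finite F] {p : ℕ} (hp : p.Prime) (hpF : (p : F) ≠ 0)
    (hd : p ∣ (Nat.card F) ^ 2 - 1) :
    ∃ (t : F) (j k : ℕ), (p = 2 → 1 ≤ j) ∧ Good2 p j k t := by
  classical
  have := Fintype.ofFinite F
  rcases eq_or_ne p 2 with rfl | hp2
  · refine ⟨0, 1, 2, fun _ => le_rfl, ?_, ?_⟩
    · norm_num [lu]
    · have h2 : (2 : F) ≠ 0 := by exact_mod_cast hpF
      norm_num [lu]
      intro h4
      apply h2
      have h5 : (2 : F) * 2 = 0 := by rw [← h4]; norm_num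
      exact (mul_self_eq_zero.1 h5)
  -- an element of order `p` in `SL₂`
  have hdvd : p ∣ Nat.card (Matrix.SpecialLinearGroup (Fin 2) F) := by
    rw [Cfsg.Agent.ClassicalGeometry.PSL2Basic.card_SL2]
    rw [← Nat.card_eq_fintype_card]
    exact hd.mul_left _
  have := Fact.mk hp
  obtain ⟨Y, hY⟩ := exists_prime_orderOf_dvd_card' p hdvd
  obtain ⟨t, ht⟩ : ∃ t, t = (Y : Matrix (Fin 2) (Fin 2) F).trace := ⟨_, rfl⟩
  have hdet : (Y : Matrix (Fin 2) (Fin 2) F).det = 1 := Y.2
  have hquad : (Y : Matrix (Fin 2) (Fin 2) F) * (Y : Matrix (Fin 2) (Fin 2) F) =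
      t • (Y : Matrix (Fin 2) (Fin 2) F) - 1 := by
    rw [Matrix.det_fin_two] at hdet
    rw [Matrix.trace_fin_two] at ht
    ext a b
    fin_cases a <;> fin_cases b <;>
      simp [Matrix.mul_apply, Fin.sum_univ_two, ht] <;>
      first | ring1 | linear_combination -hdet
  have hpow : (Y : Matrix (Fin 2) (Fin 2) F) ^ p = 1 := by
    have h1 := pow_orderOf_eq_one Y
    rw [hY] at h1
    have h2 := congrArg (fun Z : Matrix.SpecialLinearGroup (Fin 2) F =>
      (Z : Matrix (Fin 2) (Fin 2) F)) h1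
    simpa using h2
  have hY1 : Y ≠ 1 := by
    intro h
    rw [h, orderOf_one] at hY
    exact hp.one_lt.ne hY
  have h3 := lu_ring hquad p
  rw [hpow] at h3
  have ha : (lu t p).1 = 0 := by
    by_contra ha
    -- `Y` is scalar
    obtain ⟨s, hs⟩ : ∃ s : F, (Y : Matrix (Fin 2) (Fin 2) F) = s • 1 := by
      refine ⟨(lu t p).1⁻¹ * (1 - (lu t p).2), ?_⟩
      have h4 : (lu t p).1 • (Y : Matrix (Fin 2) (Fin 2) F) = (1 - (lu t p).2) • 1 := by
        rw [sub_smul, one_smul, eq_sub_iff_add_eq]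
        exact h3.symm
      rw [mul_smul, ← h4, smul_smul, inv_mul_cancel₀ ha, one_smul]
    have hs2 : s ^ 2 = 1 := by
      rw [hs, Matrix.det_smul, Matrix.det_one, mul_one, Fintype.card_fin] at hdet
      exact hdet
    have hsp : s ^ p = 1 := by
      rw [hs, smul_pow, one_pow] at hpow
      have h5 := congrFun (congrFun hpow 0) 0
      simpa using h5
    have hs1 : s = 1 := by
      have h5 : orderOf s ∣ 2 := orderOf_dvd_of_pow_eq_one hs2
      have h6 : orderOf s ∣ p := orderOf_dvd_of_pow_eq_one hsp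
      have h7 : Nat.Coprime 2 p := (Nat.coprime_primes Nat.prime_two hp).2 hp2.symm
      have h8 : orderOf s = 1 := Nat.eq_one_of_dvd_coprimes h7 h5 h6
      exact orderOf_eq_one_iff.1 h8
    apply hY1
    ext a b
    rw [hs, hs1, one_smul]
    rfl
  have hb : (lu t p).2 = 1 := by
    rw [ha, zero_smul, zero_add] at h3
    have h5 := congrFun (congrFun h3 0) 0
    simpa using h5.symm
  refine ⟨t, 0, 1, fun h => absurd h hp2, ?_, ?_⟩
  · rw [pow_one]; exact Prod.ext ha hb
  · rw [pow_zero]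
    have h6 : lu t 1 = (1, 0) := by simp [lu]
    rw [h6]
    intro h7
    have h8 : t = 2 := by
      have : (1 : F) ^ 2 + 1 * (0 - 1) * t + (0 - 1) ^ 2 = 2 - t := by ring
      have h9 : 2 - t = 0 := this ▸ h7
      exact (sub_eq_zero.1 h9).symm
    rw [h8, lu_two] at ha
    exact hpF ha

/-- the set where `x² = t x - 1` -/
structure IsQuad (x : V ≃ₗ[F] V) (W : Submodule F V) (t : F) : Prop where
  inv : ∀ w ∈ W, x w ∈ W
  rel : ∀ w ∈ W, x (x w) = t • x w - w

theorem IsQuad.surj {x : V ≃ₗ[F] V} {W : Submodule F V} {t : F} (h : IsQuad x W t)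
    {p j k : ℕ} (ht : Good2 p j k t) : ∀ w ∈ W, ∃ w' ∈ W, (x ^ p ^ j) w' - w' = w := by
  intro w hw
  obtain ⟨a, ha⟩ : ∃ a, a = (lu t (p ^ j)).1 := ⟨_, rfl⟩
  obtain ⟨b, hb⟩ : ∃ b, b = (lu t (p ^ j)).2 := ⟨_, rfl⟩
  have hn := ht.2
  rw [← ha, ← hb] at hn
  obtain ⟨N, hN⟩ : ∃ N, N = a ^ 2 + a * (b - 1) * t + (b - 1) ^ 2 := ⟨_, rfl⟩
  rw [← hN] at hn
  have hxw := h.inv w hw
  have hw' : N⁻¹ • ((a * t + (b - 1)) • w - a • x w) ∈ W :=
    W.smul_mem _ (W.sub_mem (W.smul_mem _ hw) (W.smul_mem _ hxw))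
  refine ⟨_, hw', ?_⟩
  rw [lu_pow (h.rel _ hw'), ← ha, ← hb]
  simp only [map_smul, map_sub, h.rel w hw]
  have e1 : w = N⁻¹ • (a ^ 2 + a * (b - 1) * t + (b - 1) ^ 2) • w := by
    rw [← hN, smul_smul, inv_mul_cancel₀ hn, one_smul]
  conv_rhs => rw [e1]
  module

theorem IsQuad.pow_eq {x : V ≃ₗ[F] V} {W : Submodule F V} {t : F} (h : IsQuad x W t)
    {p j k : ℕ} (ht : Good2 p j k t) : ∀ w ∈ W, (x ^ p ^ k) w = w := by
  intro w hw
  rw [lu_pow (h.rel w hw), ht.1]
  simp

theorem IsQuad.of_span {x : V ≃ₗ[F] V} {t : F} {S : Set V}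
    (h1 : ∀ w ∈ S, x w ∈ Submodule.span F S) (h2 : ∀ w ∈ S, x (x w) = t • x w - w) :
    IsQuad x (Submodule.span F S) t where
  inv := by
    intro w hw
    induction hw using Submodule.span_induction with
    | mem w hw => exact h1 w hw
    | zero => rw [map_zero]; exact Submodule.zero_mem _
    | add v w _ _ ih1 ih2 => rw [map_add]; exact Submodule.add_mem _ ih1 ih2
    | smul s v _ ih => rw [map_smul]; exact Submodule.smul_mem _ _ ih
  rel := by
    intro w hw
    induction hw using Submodule.span_induction with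
    | mem w hw => exact h2 w hw
    | zero => simp
    | add v w _ _ ih1 ih2 =>
      simp only [map_add]
      rw [ih1, ih2]
      module
    | smul s v _ ih =>
      simp only [map_smul]
      rw [ih]
      module

end Cfsg.Agent.H110.Fpr
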