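import Cfsg.Agent.H110.Fpr.RadIV

/-!
# The radical `U_T` for `x` acting without fixed points on `T` and trivially on a complement
-/

set_option autoImplicit false

namespace Cfsg.Agent.H110.Fpr

open Cfsg.Agent.TitsThree.Siegel Cfsg.Agent.TitsThree.SiegelGen Cfsg.Agent.H398.FPR

variable {F : Type*} [Field F] {V : Type*} [AddCommGroup V] [Module F V]
variable {H : HForm F V} {P : PQ H}

/-- If `g` fixes `u` and moves `w` to `w + z` with `z ⊥ w`, then `S(u, z, 0) = g S(u, w, c) g⁻¹ S(u, w, c)⁻¹`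
(`z` isotropic). -/
theorem comm_eq {g : V ≃ₗ[F] V} (hg : H.IsIso g) {u w z : V} {c : F} (hu : H.h u u = 0)
    (hw : H.h u w = 0) (hz : H.h u z = 0) (e1 : g u = u) (e2 : g w = w + z)
    (hwz : H.h w z = 0) :
    g * H.sie u w c hu hw * g⁻¹ * (H.sie u w c hu hw)⁻¹ = H.sie u z 0 hu hz := by
  have h1 : H.h u (w + z) = 0 := by rw [H.add_right, hw, hz, add_zero]
  rw [H.conj_sie hg, H.sie_congr _ _ hu h1 e1 e2 rfl, H.sie_inv, H.sie_mul]
  apply H.sie_congr _ _ _ _ rfl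
  · abel
  · rw [H.neg_left, H.add_right, hwz]
    ring

/-- scaling a vector to get a prescribed value of the form -/
theorem exists_scale {m m' : V} (h : H.h m m' ≠ 0) (a : F) : ∃ t : F, H.h m (t • m') = a := by
  refine ⟨H.σ (a / H.h m m'), ?_⟩
  rw [H.smul_right, H.σσ, div_mul_cancel₀ _ h]

/-- **`[U_T, y] = U_T` when `y - 1` is invertible on `T` and `y` is trivial on `M`.** -/
theorem radI_commFull {T M : Submodule F V} {y : V ≃ₗ[F] V} (hy : H.IsIso y)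
    (hok : ∀ w c, P.ok w c → P.ok (y w) c) (hT : ∀ u ∈ T, y u ∈ T)
    (hM : ∀ w ∈ M, y w = w) (hsurj : ∀ u ∈ T, ∃ u' ∈ T, y u' - u' = u)
    (hTs : ∀ u ∈ T, P.ok u 0) (hTT : ∀ u ∈ T, ∀ u' ∈ T, H.h u u' = 0)
    (hTM : ∀ u ∈ T, ∀ w ∈ M, H.h u w = 0)
    (hnd : ∃ m ∈ M, ∃ m' ∈ M, H.h m m' ≠ 0) : CommFull (rad P T (T ⊔ M)) y := by
  have hTW : ∀ u ∈ T, ∀ w ∈ T ⊔ M, H.h u w = 0 := by
    intro u hu w hw
    obtain ⟨t, ht, m, hm, rfl⟩ := Submodule.mem_sup.1 hw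
    rw [H.add_right, hTT u hu t ht, hTM u hu m hm, add_zero]
  apply commFull_of_normal
  · refine rad_conj hy hok hT ?_
    intro w hw
    obtain ⟨t, ht, m, hm, rfl⟩ := Submodule.mem_sup.1 hw
    rw [map_add, hM m hm]
    exact Submodule.add_mem_sup (hT t ht) hm
  intro N hNR hN hc
  have hTle : ∀ {t}, t ∈ T → t ∈ T ⊔ M := fun h => (le_sup_left : T ≤ T ⊔ M) h
  have hMle : ∀ {t}, t ∈ M → t ∈ T ⊔ M := fun h => (le_sup_right : M ≤ T ⊔ M) h
  -- step 1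
  have s1 : ∀ (u m : V) (c : F) (hu : u ∈ T) (hm : m ∈ M), P.ok m c →
      ∃ u' ∈ T, ∃ (a : F) (e : F) (h : H.h u (m + a • u') = 0),
        H.sie u (m + a • u') e (hTT u hu u hu) h ∈ N ∧ P.ok (m + a • u') e ∧
        e = c := by
    intro u m c hu hm hmc
    obtain ⟨u', hu', hyu⟩ := hsurj u hu
    have huu := hTT u hu u hu
    have hu'u' := hTT u' hu' u' hu'
    have hu'm := hTM u' hu' m hm
    have hum := hTM u hu m hm
    have hr : H.sie u' m c hu'u' hu'm ∈ rad P T (T ⊔ M) :=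
      sie_mem_rad _ _ hu' (hMle hm) hmc
    have h1 := hc _ hr
    have e1 : y u' = u' + (1 : F) • u := by rw [one_smul, ← hyu]; abel
    have h2 : H.h (y u') (y u') = 0 := by rw [hy, hu'u']
    have h3 : H.h (y u') (y m) = 0 := by rw [hy, hu'm]
    have h4 : H.h (u' + (1 : F) • u) (u' + (1 : F) • u) = 0 := by rw [← e1, h2]
    have h5 : H.h (u' + (1 : F) • u) m = 0 := by
      rw [H.add_left, H.smul_left, hu'm, hum]; ring
    have h6 : H.h u (H.σ (1 : F) • m) = 0 := by rw [H.smul_right, hum, mul_zero]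
    obtain ⟨s, hs⟩ : ∃ s : F, s = -(H.ε⁻¹ * H.σ (c * 1)) := ⟨_, rfl⟩
    have h7 : H.h u (s • u') = 0 := by rw [H.smul_right, hTT u hu u' hu', mul_zero]
    rw [H.conj_sie hy, H.sie_congr h2 h3 h4 h5 e1 (hM m hm) rfl,
      sie_add_left hu'u' huu (hTT u' hu' u hu) hu'm hum (P.hh hmc) hs h4 h5 h6 h7] at h1
    have h8 := hN _ (inv_mem hr) _ h1
    obtain ⟨r, hrdef⟩ : ∃ r, r = H.sie u' m c hu'u' hu'm := ⟨_, rfl⟩
    rw [← hrdef] at h8
    have h9 : ∀ A B : V ≃ₗ[F] V, r⁻¹ * (r * A * B * r⁻¹) * r⁻¹⁻¹ = A * B := by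
      intro A B; group
    rw [h9, H.sie_mul] at h8
    have h10 : H.h u (m + s • u') = 0 := by rw [H.add_right, hum, h7, add_zero]
    have hsu : H.h (s • u') m = 0 := by rw [H.smul_left, hu'm, mul_zero]
    refine ⟨u', hu', s, c, h10, ?_, ?_, rfl⟩
    · rwa [H.sie_congr _ _ huu h10 rfl (by rw [map_one, one_smul]) (c' := c)
        (by rw [map_one, one_smul, hsu]; ring)] at h8
    · exact P.congr (P.add hmc (P.sing_smul (hTs u' hu') s)) rfl (by rw [hsu]; ring)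
  -- step 2
  have s2 : ∀ (u u₁ : V) (hu : u ∈ T) (hu₁ : u₁ ∈ T),
      H.sie u u₁ 0 (hTT u hu u hu) (hTT u hu u₁ hu₁) ∈ N := by
    intro u u₁ hu hu₁
    obtain ⟨m, hm, m', hm', hmm⟩ := hnd
    obtain ⟨c, hmc⟩ := P.ex m
    obtain ⟨u', hu', a, e, hx, hmem, hok', he⟩ := s1 u m c hu hm hmc
    obtain ⟨t, ht⟩ := exists_scale hmm (-H.ε)
    have htm : t • m' ∈ M := M.smul_mem _ hm'
    obtain ⟨d, hd⟩ := P.ex (t • m')
    have hu₁u₁ := hTT u₁ hu₁ u₁ hu₁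
    have hu₁m := hTM u₁ hu₁ _ htm
    have hgR : H.sie u₁ (t • m') d hu₁u₁ hu₁m ∈ rad P T (T ⊔ M) :=
      sie_mem_rad _ _ hu₁ (hMle htm) hd
    have hgi : H.IsIso (H.sie u₁ (t • m') d hu₁u₁ hu₁m) := P.isIso_sie _ _ hd
    have hfix : ∀ v ∈ T, H.sie u₁ (t • m') d hu₁u₁ hu₁m v = v := by
      intro v hv
      rw [H.sie_apply, hTT v hv u₁ hu₁, hTM v hv _ htm]; simp
    have hmu : H.h m u₁ = 0 := H.orth_symm (hTM u₁ hu₁ m hm)
    have hmove : H.sie u₁ (t • m') d hu₁u₁ hu₁m (m + a • u') = (m + a • u') + u₁ := by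
      rw [map_add, map_smul, hfix u' hu', H.sie_apply, hmu, ht]
      have e1 : H.ε⁻¹ * -H.ε = -1 := by rw [mul_neg, inv_mul_cancel₀ H.ε_ne]
      rw [e1]
      module
    have h1 : H.h (m + a • u') u₁ = 0 := by
      rw [H.add_left, H.smul_left, hmu, hTT u' hu' u₁ hu₁]; ring
    have h2 := comm_eq hgi (c := e) (hTT u hu u hu) hx (hTT u hu u₁ hu₁) (hfix u hu) hmove h1
    have h3 := N.mul_mem (hN _ hgR _ hmem) (N.inv_mem hmem)
    rwa [h2] at h3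
  -- step 3
  have s3 : ∀ (u m : V) (c : F) (hu : u ∈ T) (hm : m ∈ M), P.ok m c →
      H.sie u m c (hTT u hu u hu) (hTM u hu m hm) ∈ N := by
    intro u m c hu hm hmc
    obtain ⟨u', hu', a, e, hx, hmem, hok', rfl⟩ := s1 u m c hu hm hmc
    have hau : a • u' ∈ T := T.smul_mem _ hu'
    have h1 := N.mul_mem hmem (N.inv_mem (s2 u _ hu hau))
    have hau2 : H.h (a • u') (a • u') = 0 := hTT _ hau _ hau
    rw [H.sie_inv, H.sie_mul, H.sie_congr _ _ (hTT u hu u hu) (hTM u hu m hm) rfl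
      (by abel : m + a • u' + -(a • u') = m) (c' := e)] at h1
    · exact h1
    · rw [H.neg_left, H.add_right, hTM _ hau m hm, hau2]
      ring
  -- step 4
  apply rad_le
  intro u w c hu hw huT hwW hwc
  obtain ⟨t, ht, m, hm, rfl⟩ := Submodule.mem_sup.1 hwW
  obtain ⟨c₀, hc₀⟩ := P.ex m
  have h1 := s3 u m c₀ huT hm hc₀
  have h2 := s2 u t huT ht
  have htm := hTM t ht m hm
  have hok₀ : P.ok (t + m) c₀ :=
    P.congr (P.add hc₀ (hTs t ht)) (add_comm _ _) (by rw [htm]; ring)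
  have h3 := s3 u 0 _ huT M.zero_mem (P.sub hwc hok₀)
  have h4 := N.mul_mem (N.mul_mem h1 h2) h3
  rw [H.sie_mul, H.sie_mul, H.sie_congr _ _ hu hw rfl (by abel : m + t + 0 = t + m) (c' := c)] at h4
  · exact h4
  · rw [htm, H.zero_left]
    ring

/-- **Generation by `U_T` and `U_T'`.** -/
theorem radI_gen {T T' M : Submodule F V} {D : Subgroup (V ≃ₗ[F] V)}
    (h1 : rad P T (T ⊔ M) ≤ D) (h2 : rad P T' (T' ⊔ M) ≤ D)
    (htop : T ⊔ M ⊔ T' = ⊤)
    (hTs : ∀ u ∈ T, P.ok u 0) (hTT : ∀ u ∈ T, ∀ u' ∈ T, H.h u u' = 0)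
    (hTs' : ∀ u ∈ T', P.ok u 0) (hTT' : ∀ u ∈ T', ∀ u' ∈ T', H.h u u' = 0)
    (hTM : ∀ u ∈ T, ∀ w ∈ M, H.h u w = 0) (hTM' : ∀ u ∈ T', ∀ w ∈ M, H.h u w = 0)
    (hnd : ∃ m ∈ M, ∃ m' ∈ M, H.h m m' ≠ 0)
    (hpair : ∃ p ∈ T, ∃ r ∈ T', H.h r p ≠ 0)
    (hVnd : ∀ v : V, P.ok v 0 → v ≠ 0 → ∃ w, H.h v w ≠ 0) : SG P ≤ D := by
  -- the key fact, for both orders
  have key : ∀ (T T' : Submodule F V), rad P T (T ⊔ M) ≤ D → rad P T' (T' ⊔ M) ≤ D →
      T ⊔ M ⊔ T' = ⊤ → (∀ u ∈ T, P.ok u 0) → (∀ u ∈ T, ∀ u' ∈ T, H.h u u' = 0) →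
      (∀ u ∈ T', P.ok u 0) → (∀ u ∈ T', ∀ u' ∈ T', H.h u u' = 0) →
      (∀ u ∈ T, ∀ w ∈ M, H.h u w = 0) → (∀ u ∈ T', ∀ w ∈ M, H.h u w = 0) →
      ∀ p ∈ T, Zt P D Set.univ p := by
    clear h1 h2 htop hTs hTT hTs' hTT' hTM hTM' hpair T T'
    intro T T' h1 h2 htop hTs hTT hTs' hTT' hTM hTM' p hp
    have hps := hTs p hp
    have z1 : ∀ w ∈ T ⊔ M, Zt P D {w} p := by
      intro w hw x c hx hpx hxw hxc
      rw [Set.mem_singleton_iff] at hxw
      subst hxw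
      exact h1 (sie_mem_rad _ _ hp hw hxc)
    have z0 : Zt P D {0} p := z1 0 (Submodule.zero_mem _)
    -- the new root elements
    have z2 : ∀ t ∈ T', H.h p t = 0 → Zt P D {t} p := by
      intro t ht hpt x c hx hpx hxw hxc
      rw [Set.mem_singleton_iff] at hxw
      subst hxw
      obtain ⟨m, hm, m', hm', hmm⟩ := hnd
      obtain ⟨s, hs⟩ := exists_scale hmm (-H.ε)
      have hsm : s • m' ∈ M := M.smul_mem _ hm'
      obtain ⟨d, hd⟩ := P.ex (s • m')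
      obtain ⟨e, he⟩ := P.ex m
      have hxx := hTT' x ht x ht
      have hxsm := hTM' x ht _ hsm
      have hpm := hTM p hp m hm
      have hg : H.sie x (s • m') d hxx hxsm ∈ D :=
        h2 (sie_mem_rad _ _ ht ((le_sup_right : M ≤ T' ⊔ M) hsm) hd)
      have hn : H.sie p m e hx hpm ∈ D :=
        h1 (sie_mem_rad _ _ hp ((le_sup_right : M ≤ T ⊔ M) hm) he)
      have hgi : H.IsIso (H.sie x (s • m') d hxx hxsm) := P.isIso_sie _ _ hd
      have e1 : H.sie x (s • m') d hxx hxsm p = p := by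
        rw [H.sie_apply, hpt, hTM p hp _ hsm]; simp
      have hmx : H.h m x = 0 := H.orth_symm (hTM' x ht m hm)
      have e2 : H.sie x (s • m') d hxx hxsm m = m + x := by
        rw [H.sie_apply, hmx, hs]
        have e3 : H.ε⁻¹ * -H.ε = -1 := by rw [mul_neg, inv_mul_cancel₀ H.ε_ne]
        rw [e3]
        module
      have h3 := comm_eq hgi (c := e) hx hpm hpx e1 e2 hmx
      have h4 := D.mul_mem (D.mul_mem (D.mul_mem hg hn) (D.inv_mem hg)) (D.inv_mem hn)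
      rw [h3] at h4
      have h5 := z0 0 _ hx (H.zero_right p) rfl (P.sub hxc (hTs' x ht))
      have h6 := D.mul_mem h4 h5
      rwa [H.sie_mul, H.sie_congr _ _ hx hpx rfl (add_zero x) (c' := c)
        (by rw [H.zero_left]; ring)] at h6
    intro w c hpp hpw _ hwc
    have hw : w ∈ T ⊔ M ⊔ T' := by rw [htop]; trivial
    obtain ⟨a, ha, b, hb, rfl⟩ := Submodule.mem_sup.1 hw
    have hpa : H.h p a = 0 := by
      obtain ⟨t, ht, m, hm, rfl⟩ := Submodule.mem_sup.1 ha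
      rw [H.add_right, hTT p hp t ht, hTM p hp m hm, add_zero]
    have hpb : H.h p b = 0 := by
      rw [H.add_right, hpa, zero_add] at hpw
      exact hpw
    exact Zt.add P hps z0 (z1 a ha) (z2 b hb hpb) hpa hpb (a + b) c hpp hpw rfl hwc
  obtain ⟨p, hp, r, hr, hrp⟩ := hpair
  have htop' : T' ⊔ M ⊔ T = ⊤ := by
    rw [← htop, sup_comm T' M, sup_comm T M, sup_assoc, sup_assoc, sup_comm T T']
  exact all_of_pair (key T T' h1 h2 htop hTs hTT hTs' hTT' hTM hTM' p hp)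
    (key T' T h2 h1 htop' hTs' hTT' hTs hTT hTM' hTM r hr) (hTs p hp) (hTs' r hr) hrp hVnd

end Cfsg.Agent.H110.Fpr
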