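import Cfsg.Agent.H110.Fpr.Unip
import Cfsg.Agent.H110.Fpr.Gen

/-!
# The radicals `[U_T, x]` for `x` trivial on `T`
-/

set_option autoImplicit false

namespace Cfsg.Agent.H110.Fpr

open Cfsg.Agent.TitsThree.Siegel Cfsg.Agent.TitsThree.SiegelGen Cfsg.Agent.H398.FPR

theorem mem_normalizer_of_conj {G : Type*} [Group G] {R : Subgroup G} [Finite R] {x : G}
    (h : ∀ r ∈ R, x * r * x⁻¹ ∈ R) : x ∈ Subgroup.normalizer (R : Set G) := by
  rw [Subgroup.mem_normalizer_iff]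
  intro g
  refine ⟨h g, fun hg => ?_⟩
  let f : R → R := fun r => ⟨x * r * x⁻¹, h r r.2⟩
  have hf : Function.Injective f := by
    intro a b hab
    have h1 : x * a * x⁻¹ = x * b * x⁻¹ := congrArg Subtype.val hab
    exact Subtype.ext (mul_left_cancel (mul_right_cancel h1))
  obtain ⟨r, hr⟩ := (Finite.injective_iff_surjective.1 hf) ⟨_, hg⟩
  have h2 : x * r * x⁻¹ = x * g * x⁻¹ := congrArg Subtype.val hr
  have h3 : (r : G) = g := mul_left_cancel (mul_right_cancel h2)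
  rw [← h3]
  exact r.2

variable {F : Type*} [Field F] {V : Type*} [AddCommGroup V] [Module F V]
variable {H : HForm F V} (P P₁ : PQ H)

/-- The group generated by the `S(u, w, c)`, `u ∈ T`, `w ∈ W`. -/
def rad (T W : Submodule F V) : Subgroup (V ≃ₗ[F] V) :=
  Subgroup.closure {g | ∃ (u w : V) (c : F) (hu : H.h u u = 0) (hw : H.h u w = 0),
    u ∈ T ∧ w ∈ W ∧ P₁.ok w c ∧ g = H.sie u w c hu hw}

variable {P P₁}

theorem sie_mem_rad {T W : Submodule F V} {u w : V} {c : F} (hu : H.h u u = 0)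
    (hw : H.h u w = 0) (huT : u ∈ T) (hwW : w ∈ W) (hc : P₁.ok w c) :
    H.sie u w c hu hw ∈ rad P₁ T W :=
  Subgroup.subset_closure ⟨u, w, c, hu, hw, huT, hwW, hc, rfl⟩

theorem rad_le {T W : Submodule F V} {D : Subgroup (V ≃ₗ[F] V)}
    (h : ∀ (u w : V) (c : F) (hu : H.h u u = 0) (hw : H.h u w = 0),
      u ∈ T → w ∈ W → P₁.ok w c → H.sie u w c hu hw ∈ D) : rad P₁ T W ≤ D := by
  unfold rad
  rw [Subgroup.closure_le]
  rintro _ ⟨u, w, c, hu, hw, hus, hww, hwc, rfl⟩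
  exact h u w c hu hw hus hww hwc

theorem rad_conj {T W : Submodule F V} {x : V ≃ₗ[F] V} (hx : H.IsIso x)
    (hok : ∀ w c, P₁.ok w c → P₁.ok (x w) c) (hT : ∀ u ∈ T, x u ∈ T) (hW : ∀ w ∈ W, x w ∈ W) :
    ∀ r ∈ rad P₁ T W, x * r * x⁻¹ ∈ rad P₁ T W := by
  intro r hr
  have h : rad P₁ T W ≤ (rad P₁ T W).comap (MulAut.conj x).toMonoidHom := by
    apply rad_le
    intro u w c hu hw huT hwW hc
    change x * H.sie u w c hu hw * x⁻¹ ∈ rad P₁ T W
    rw [H.conj_sie hx]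
    exact sie_mem_rad _ _ (hT u huT) (hW w hwW) (hok w c hc)
  exact h hr

theorem rad_le_flagU {T W : Submodule F V} (hTT : ∀ u ∈ T, ∀ u' ∈ T, H.h u u' = 0)
    (hTW : ∀ u ∈ T, ∀ w ∈ W, H.h u w = 0) :
    ∃ (A B : Submodule F V) (hAB : A ≤ B), rad P₁ T W ≤ flagU A B hAB := by
  let B : Submodule F V :=
    { carrier := {v | ∀ u ∈ T, H.h v u = 0}
      add_mem' := fun {a b} ha hb u hu => by rw [H.add_left, ha u hu, hb u hu, add_zero]
      zero_mem' := fun u _ => H.zero_left u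
      smul_mem' := fun c v hv u hu => by rw [H.smul_left, hv u hu, mul_zero] }
  have hB : ∀ v, v ∈ B ↔ ∀ u ∈ T, H.h v u = 0 := fun v => Iff.rfl
  refine ⟨T, B, fun u hu u' hu' => hTT u hu u' hu', ?_⟩
  apply rad_le
  intro u w c hu hw huT hwW hc
  refine ⟨fun v => ?_, fun v hv => ?_, fun v hv => ?_⟩
  · rw [H.sie_apply, hB]
    intro u' hu'
    have h1 : H.h w u' = 0 := H.orth_symm (hTW u' hu' w hwW)
    have h2 := hTT u huT u' hu'
    simp only [H.add_left, H.sub_left, H.smul_left, h1, h2]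
    ring
  · rw [H.sie_apply, hv u huT]
    have e : v + (0 : F) • w - (H.ε⁻¹ * H.h v w) • u + (c * 0) • u - v =
        (-(H.ε⁻¹ * H.h v w)) • u := by module
    rw [e]
    exact T.smul_mem _ huT
  · rw [H.sie_apply, hTT v hv u huT, hTW v hv w hwW]
    simp

/-- **`[U_T, y] = U_T` when `y` is trivial on `T` and `y - 1` is invertible on `W`.** -/
theorem rad_commFull {T W : Submodule F V} {y : V ≃ₗ[F] V} (hy : H.IsIso y)
    (hok : ∀ w c, P₁.ok w c → P₁.ok (y w) c) (hT : ∀ u ∈ T, y u = u)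
    (hW : ∀ w ∈ W, y w ∈ W) (hsurj : ∀ w ∈ W, ∃ w' ∈ W, y w' - w' = w)
    (hTW : ∀ u ∈ T, ∀ w ∈ W, H.h u w = 0)
    (hlam : ∀ c, P₁.ok 0 c → ∃ m, c = m - H.ε⁻¹ * H.σ m)
    (hnd : ∃ m ∈ W, ∃ m' ∈ W, H.h m m' ≠ 0) : CommFull (rad P₁ T W) y := by
  apply commFull_of_normal
  · exact rad_conj hy hok (fun u hu => by rw [hT u hu]; exact hu) hW
  intro N hNR hN hc
  apply rad_le
  intro u w c hu hw huT hwW hwc
  -- step 1
  have s1 : ∀ m ∈ W, ∃ (c : F) (hm : H.h u m = 0), P₁.ok m c ∧ H.sie u m c hu hm ∈ N := by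
    intro m hm
    obtain ⟨m', hm', rfl⟩ := hsurj m hm
    obtain ⟨c', hc'⟩ := P₁.ex m'
    have hum' := hTW u huT m' hm'
    have huym' := hTW u huT (y m') (hW m' hm')
    have h1 := hc _ (sie_mem_rad hu hum' huT hm' hc')
    have h2 : H.h (y u) (y m') = 0 := by rw [hy, hum']
    have h3 : H.h (y u) (y u) = 0 := by rw [hy, hu]
    rw [H.conj_sie hy, H.sie_congr h3 h2 hu huym' (hT u huT) rfl rfl, H.sie_inv, H.sie_mul,
      H.sie_congr _ _ hu (hTW u huT _ hm) rfl (by abel :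
        y m' + -m' = y m' - m') rfl] at h1
    refine ⟨_, hTW u huT _ hm, ?_, h1⟩
    exact P₁.congr (P₁.add (hok m' c' hc') (P₁.inv hc')) (by abel) rfl
  -- step 2
  have s2 : ∀ l : F, H.sie u 0 (l - H.ε⁻¹ * H.σ l) hu (H.zero_right u) ∈ N := by
    intro l
    obtain ⟨m, hm, m', hm', hmm⟩ := hnd
    obtain ⟨d, hmu, -, hd⟩ := s1 m hm
    -- scale `m'`
    obtain ⟨t, ht⟩ : ∃ t : F, H.σ (H.h m (t • m')) = l := by
      refine ⟨l / H.σ (H.h m m'), ?_⟩
      have h0 : H.σ (H.h m m') ≠ 0 := by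
        intro h
        exact hmm (by rw [← H.σσ (H.h m m'), h, map_zero])
      rw [H.smul_right, map_mul, H.σσ, div_mul_cancel₀ _ h0]
    have htm : t • m' ∈ W := W.smul_mem _ hm'
    obtain ⟨e, he⟩ := P₁.ex (t • m')
    have hum' := hTW u huT _ htm
    have h1 := hN _ (sie_mem_rad hu hum' huT htm he) _ hd
    have h2 := N.mul_mem h1 (N.inv_mem hd)
    have h3 : H.sie u (t • m') e hu hum' * H.sie u m d hu hmu =
        H.sie u 0 (l - H.ε⁻¹ * H.σ l) hu (H.zero_right u) *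
          (H.sie u m d hu hmu * H.sie u (t • m') e hu hum') := by
      rw [H.sie_mul, H.sie_mul, H.sie_mul]
      apply H.sie_congr _ _ _ _ rfl
      · abel
      · rw [H.swap m (t • m'), ← ht, H.σσ, H.add_left, H.zero_right, H.zero_right]
        have := H.ε_ne
        field_simp
        ring
    have h4 : H.sie u (t • m') e hu hum' * H.sie u m d hu hmu *
        (H.sie u (t • m') e hu hum')⁻¹ * (H.sie u m d hu hmu)⁻¹ =
        H.sie u 0 (l - H.ε⁻¹ * H.σ l) hu (H.zero_right u) := by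
      rw [h3]
      group
    rwa [h4] at h2
  -- step 3
  obtain ⟨c₀, hw', hc₀, hmem⟩ := s1 w hwW
  obtain ⟨l, hl⟩ := hlam _ (P₁.sub hwc hc₀)
  have h5 := N.mul_mem (s2 l) hmem
  rw [H.sie_mul, H.sie_congr _ _ hu hw rfl (zero_add w) (c' := c)
    (by rw [← hl, H.zero_right]; ring)] at h5
  exact h5

end Cfsg.Agent.H110.Fpr
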