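import Cfsg.Agent.H110.Fpr.SharpU
import Cfsg.Agent.H110.Fpr.FamO
import Cfsg.Agent.LieClassical.QuadCount

/-!
# The rows of S3578: orthogonal groups
-/

set_option autoImplicit false

namespace Cfsg.Agent.H110.Fpr

open Cfsg.Agent.TitsThree.Siegel Cfsg.Agent.TitsThree.SiegelGen Cfsg.Agent.TitsThree.KSideO
open Cfsg.Agent.LieClassical Cfsg.Agent.LieClassical.OrthCore Cfsg.Agent.LieClassical.OrthFinite
open Cfsg.Agent.LieClassical.OrthForms Cfsg.Agent.LieClassical.OrthTrans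
open Cfsg.Agent.H398.FPR Cfsg.Agent.H409 QuadraticMap

section

variable {F V : Type*} [Field F] [AddCommGroup V] [Module F V] {Q : QuadraticForm F V}

/-- squares of isometries -/
theorem sq_mem_E (hG : OrthTrans.Good Q) {g : V ≃ₗ[F] V} (hg : g ∈ O Q) : g * g ∈ E Q := by
  have : FiniteDimensional F V := Module.finite_of_finrank_pos (by have := hG.dim; omega)
  rw [O_eq_closure hG.nondeg] at hg
  have key : g ∈ O Q ∧ g * g ∈ E Q := by
    induction hg using Subgroup.closure_induction with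
    | mem x hx =>
      rcases hx with ⟨v, hv, rfl⟩ | ⟨u, w, hu, hw, rfl⟩
      · refine ⟨refl_mem_O hv, ?_⟩
        rw [refl_mul_self hv]
        exact (E Q).one_mem
      · have h1 := siegel_mem_E hu hw
        exact ⟨E_le_O h1, (E Q).mul_mem h1 h1⟩
    | one => exact ⟨(O Q).one_mem, by rw [mul_one]; exact (E Q).one_mem⟩
    | mul x y _ _ hx hy =>
      refine ⟨(O Q).mul_mem hx.1 hy.1, ?_⟩
      have h1 : x⁻¹ * y * x * y⁻¹ ∈ E Q := by
        apply hG.commutator_le_E
        have := Subgroup.commutator_mem_commutator ((O Q).inv_mem hx.1) hy.1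
        rwa [commutatorElement_def, inv_inv] at this
      have h2 : x * y * (x * y) = x * x * (x⁻¹ * y * x * y⁻¹) * (y * y) := by group
      rw [h2]
      exact (E Q).mul_mem ((E Q).mul_mem hx.2 h1) hy.2
    | inv x _ hx =>
      refine ⟨(O Q).inv_mem hx.1, ?_⟩
      have h2 : x⁻¹ * x⁻¹ = (x * x)⁻¹ := by group
      rw [h2]
      exact (E Q).inv_mem hx.2
  exact key.2

theorem mem_E_of_pow (hG : OrthTrans.Good Q) {g : V ≃ₗ[F] V} (hg : g ∈ O Q) {p : ℕ}
    (hodd : Odd p) (hp : g ^ p = 1) : g ∈ E Q := by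
  obtain ⟨k, hk⟩ := hodd
  have h1 : g = (g * g) ^ (k + 1) := by
    rw [← pow_two, ← pow_mul, mul_add, mul_one]
    have h2 : 2 * k + 2 = p + 1 := by omega
    rw [h2, pow_succ, hp, one_mul]
  rw [h1]
  exact (E Q).pow_mem (sq_mem_E hG hg) _

/-- counting fixed points of `y` on the singular vectors -/
theorem card_sing_mod [Finite V] {p : ℕ} (hp : p.Prime) {y : V ≃ₗ[F] V} (hy : y ∈ O Q)
    (hyp : y ^ p = 1) (hfix : ∀ v, Q v = 0 → y v = v → v = 0) :
    Nat.card {v : V // Q v = 0} ≡ 1 [MOD p] := by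
  classical
  have := Fact.mk hp
  have := Fintype.ofFinite V
  let f : Function.End {v : V // Q v = 0} := fun v => ⟨y v, by rw [mem_O.1 hy]; exact v.2⟩
  have hf : ∀ n : ℕ, ∀ v, (((f ^ n : Function.End {v : V // Q v = 0}) v :
      {v : V // Q v = 0}) : V) = (y ^ n) v := by
    intro n
    induction n with
    | zero => intro v; rfl
    | succ n ih =>
      intro v
      rw [pow_succ, pow_succ]
      change (((f ^ n : Function.End {v : V // Q v = 0}) (f v) : {v : V // Q v = 0}) : V) =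
        (y ^ n) (y v)
      rw [ih]
  have hfp : f ^ p ^ 1 = 1 := by
    funext v
    apply Subtype.ext
    rw [pow_one, hf p v, hyp]
    rfl
  have h1 := Equiv.Perm.card_fixedPoints_modEq hfp
  rw [Nat.card_eq_fintype_card]
  have h2 : Fintype.card f.fixedPoints = 1 := by
    rw [Fintype.card_eq_one_iff]
    refine ⟨⟨⟨0, QuadraticMap.map_zero _⟩, Subtype.ext (map_zero y)⟩, ?_⟩
    rintro ⟨⟨v, hv⟩, hv'⟩
    have h3 : f ⟨v, hv⟩ = ⟨v, hv⟩ := hv'
    have h4 : v = 0 := hfix v hv (congrArg Subtype.val h3)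
    exact Subtype.ext (Subtype.ext h4)
  rwa [h2] at h1

/-- **The row of S3578 for the orthogonal groups, `E Q`.** -/
theorem sharp_EQ [Finite F] [Finite V] (hQ : Nondeg Q) (hd : 5 ≤ Module.finrank F V) {r : ℕ}
    [hrp : Fact r.Prime] [hr : CharP F r] {p : ℕ} (hp : p.Prime)
    (hp2 : p ≠ 2) (hpF : (p : F) ≠ 0)
    (hM : ∀ t : ℕ, t ≠ 0 → r ^ t ≡ 1 [MOD p] → 2 * p + 1 ≤ r ^ t)
    (hdvd : p ∣ Nat.card (E Q)) :
    FprRow (p + 1) 1 p (E Q) ∨ ∃ s, (Module.finrank F V = 2 * s ∨ Module.finrank F V = 2 * s + 1 ∨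
      Module.finrank F V = 2 * s + 2) ∧ (∀ k, p ∣ Nat.card F ^ k - 1 → 2 * s ∣ k) ∧
      ((Nat.card F : ℕ) : ZMod p) ^ s = -1 ∧ Nat.card {v : V // Q v = 0} ≡ 1 [MOD p] := by
  have hfin : Finite (V ≃ₗ[F] V) := Finite.of_injective (fun f : V ≃ₗ[F] V => (f : V → V))
    DFunLike.coe_injective
  have hG := good_of_finite hQ hd
  have hodd := hp.odd_of_ne_two hp2
  have hND : ∀ v : V, v ≠ 0 → ∃ w, (HO Q).h v w ≠ 0 := by
    intro v hv
    by_contra hcon
    push Not at hcon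
    exact hv (hQ v hcon)
  have hκ : ∀ A : Submodule F V, 3 ≤ Module.finrank F A → ∃ w ∈ A, w ≠ 0 ∧ (PO Q).ok w 0 := by
    intro A hA
    obtain ⟨w, hw, hw0, hQw⟩ := exists_sing_mem (Q := Q) A hA
    exact ⟨w, hw, hw0, (sing_iff Q).2 hQw⟩
  have hlam : ∀ c, (PO Q).ok 0 c → ∃ m, c = m - (HO Q).ε⁻¹ * (HO Q).σ m := by
    intro c hc
    have hc' : c = -Q 0 := hc
    rw [QuadraticMap.map_zero, neg_zero] at hc'
    exact ⟨0, by rw [hc']; simp⟩
  rw [← SG_PO] at hdvd ⊢
  by_cases hd2 : p ∣ (Nat.card F) ^ 2 - 1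
  · left
    obtain ⟨j, -, hj0, hD⟩ := data_small (r := r) hp hpF hd2 le_rfl hκ hND hd
    obtain rfl := hj0 hp2
    exact hD.sharp hp hrp.out (by norm_num) hM
  · have hcardF := not_dvd_card hp hpF
    have hp5 : 5 ≤ p := by
      by_contra hlt
      push Not at hlt
      exact hd2 (two_three_dvd hp hlt hcardF Nat.card_pos)
    have hok_iff : ∀ y : V ≃ₗ[F] V, (∀ w c, (PO Q).ok w c → (PO Q).ok (y w) c) → y ∈ O Q := by
      intro y hy
      rw [mem_O]
      intro v
      have h1 : -Q v = -Q (y v) := hy v (-Q v) rfl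
      exact (neg_injective h1).symm
    obtain ⟨x, hxK, hxp, hx1⟩ := exists_order_p hp hdvd
    obtain ⟨hxi, hxok, -⟩ := SG_iso hxK
    rcases dich (r := r) hp hp2 hpF hxi hxok hxp hx1
      (fun y _ hyok hyp => by
        rw [SG_PO]
        exact mem_E_of_pow hG (hok_iff y hyok) hodd hyp) hND
      (Or.inl fun T hT hTU => by
        refine three_le_of_min hp hpF hd2 hxp hT ?_
        obtain ⟨v, hv, hv0⟩ := (Submodule.ne_bot_iff T).1 hT.ne
        exact ⟨v, hv, fun h => hv0 (eq_zero_of_mem hpF (hTU hv) h)⟩)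
      with h | ⟨T, y, hT, hmov, hTnd, hy⟩
    · exact Or.inl (h.sharp hp hrp.out (by norm_num) hM)
    · obtain ⟨n, hn, hσ⟩ := hT.exists_conj (r := r) hp hxi hxp hTnd hmov
      have hdim := three_le_of_min hp hpF hd2 hxp hT hmov
      by_cases hW : ∃ w ∈ perp (HO Q) (T : Set V), w ≠ 0 ∧ (PO Q).ok w 0
      · left
        by_cases h25 : r = 2 ∧ p = 5
        · obtain ⟨rfl, rfl⟩ := h25
          refine sharp_N (r := 2) hp hy ?_ hκ hlam hdim hND
            (fun t ht h => (num_N hp hp5 hrp.out ⟨n, hn⟩ ht h).1) hW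
          intro v
          change polar Q v v = 0
          rw [polar_self']
          have h2 : (2 : F) = 0 := by exact_mod_cast CharP.cast_eq_zero F 2
          rw [h2, zero_mul]
        · exact (master_N (r := r) hy (by norm_num) hκ hlam hdim hND hW).sharp hp hrp.out
            (by norm_num) (fun t ht h => ((num_N hp hp5 hrp.out ⟨n, hn⟩ ht h).2).resolve_right h25)
      · right
        -- the order is even
        have hcF : ∃ N : ℕ, Nat.card F = r ^ N := by
          have := Fintype.ofFinite F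
          obtain ⟨k, -, hk⟩ := FiniteField.card F r
          exact ⟨k, by rw [Nat.card_eq_fintype_card, hk]⟩
        obtain ⟨N, hN⟩ := hcF
        obtain ⟨k, hk⟩ := frob_fix (F := F) hrp.out hN (fun c => (hσ c).symm)
        have h1 : ((Nat.card F : ℕ) : ZMod p) ^ k = -1 := by
          have h2 := dvd_pow_add_one_iff.1 hn
          rw [hN, Nat.cast_pow, ← pow_mul, ← hk]
          exact h2
        obtain ⟨s, hs, hs1⟩ := even_orderOf hp hp2 h1
        have hfr := hT.finrank_eq hp hxp hmov hpF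
        rw [hs] at hfr
        refine ⟨s, ?_, ?_, hs1, ?_⟩
        · have h2 := finrank_add_perp hy.top hy.nd
          have h3 : Module.finrank F (perp (HO Q) (T : Set V)) < 3 := by
            by_contra h4
            obtain ⟨w, hw, hw0, hws⟩ := hκ _ (not_lt.1 h4)
            exact hW ⟨w, hw, hw0, hws⟩
          omega
        · intro k hk
          rw [← hfr]
          exact hT.finrank_dvd hp hxp hmov hpF hk
        · obtain ⟨hyi, hyok, -⟩ := SG_iso hy.mem
          refine card_sing_mod hp (hok_iff y hyok) hy.pow ?_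
          intro v hv hyv
          have hvT : v ∈ T ⊔ perp (HO Q) (T : Set V) := by rw [hy.top]; trivial
          obtain ⟨t, ht, m, hm, rfl⟩ := Submodule.mem_sup.1 hvT
          rw [map_add, hy.fix m hm, add_left_inj] at hyv
          -- `t = 0`
          have ht0 : t = 0 := by
            by_contra ht0
            -- fixed vectors of `y` in `T` are orthogonal to `T`
            obtain ⟨w, hw, htw⟩ := hy.nd t ht ht0
            obtain ⟨w', hw', rfl⟩ := hy.surj w hw
            apply htw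
            rw [(HO Q).sub_right]
            have h3 := hyi t w'
            rw [hyv] at h3
            rw [h3, sub_self]
          rw [ht0, zero_add] at hv ⊢
          by_contra hm0
          exact hW ⟨m, hm, hm0, (sing_iff Q).2 hv⟩

end

section Matrix

variable {ι : Type} [Fintype ι] [DecidableEq ι] {F : Type*} [Field F] [Finite F]
  {Q : QuadraticForm F (ι → F)}

/-- **The row for `PΩ(Q)`**, `Q` nondegenerate in dimension at least five. -/
theorem sharp_POmega (hQ : Nondeg Q) (hd : 5 ≤ Module.finrank F (ι → F)) {r : ℕ}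
    [hrp : Fact r.Prime] [hr : CharP F r] {p : ℕ} (hp : p.Prime)
    (hp2 : p ≠ 2) (hpF : (p : F) ≠ 0)
    (hM : ∀ t : ℕ, t ≠ 0 → r ^ t ≡ 1 [MOD p] → 2 * p + 1 ≤ r ^ t)
    (hdvd : p ∣ Nat.card (Cfsg.POmega F ⇑Q)) :
    FprRow (p + 1) 1 p (Cfsg.POmega F ⇑Q) ∨ ∃ s, (Module.finrank F (ι → F) = 2 * s ∨
      Module.finrank F (ι → F) = 2 * s + 1 ∨ Module.finrank F (ι → F) = 2 * s + 2) ∧
      (∀ k, p ∣ Nat.card F ^ k - 1 → 2 * s ∣ k) ∧
      ((Nat.card F : ℕ) : ZMod p) ^ s = -1 ∧ Nat.card {v : ι → F // Q v = 0} ≡ 1 [MOD p] := by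
  have hG := good_of_finite hQ hd
  have : Finite ((ι → F) ≃ₗ[F] (ι → F)) := instFin
  refine (sharp_EQ hQ hd hp hp2 hpF hM (hdvd.trans ?_)).imp_left
    (FprRow.of_surjective hp (toPOmega hG) (toPOmega_surjective hG))
  exact Subgroup.card_dvd_of_surjective _ (toPOmega_surjective hG)

end Matrix

/-- **The row of S3578 for `PΩ_{2m+1}(q)`**. -/
theorem sharp_POmegaOdd {F : Type} [Field F] [Fintype F] {m : ℕ} (hm : 3 ≤ m)
    (hodd : Odd (Fintype.card F)) {r : ℕ}
    [hrp : Fact r.Prime] [hr : CharP F r] {p : ℕ} (hp : p.Prime)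
    (hp2 : p ≠ 2) (hpF : (p : F) ≠ 0)
    (hM : ∀ t : ℕ, t ≠ 0 → r ^ t ≡ 1 [MOD p] → 2 * p + 1 ≤ r ^ t)
    (hdvd : p ∣ Nat.card (Cfsg.POmega F (Cfsg.quadFormOdd m F))) :
    FprRow (p + 1) 1 p (Cfsg.POmega F (Cfsg.quadFormOdd m F)) ∨
      ∀ k, p ∣ Nat.card F ^ k - 1 → 2 * m ∣ k := by
  rw [← coe_oddForm] at hdvd ⊢
  have h2 : (2 : F) ≠ 0 := by
    intro h
    have h3 : CharP F 2 := by
      have := CharTwo.of_one_ne_zero_of_two_eq_zero (R := F) one_ne_zero h
      exact this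
    have h4 := (FiniteField.even_card_iff_char_two (F := F)).1 (ringChar.eq F 2)
    rw [← Nat.even_iff] at h4
    exact (Nat.not_even_iff_odd.2 hodd) h4
  have hfr : Module.finrank F (Unit ⊕ (Fin m ⊕ Fin m) → F) = 2 * m + 1 := by
    rw [Module.finrank_fintype_fun_eq_card, Fintype.card_sum, Fintype.card_sum, Fintype.card_fin,
      Fintype.card_unit]
    omega
  rcases sharp_POmega (nondeg_oddForm m F h2) (by omega) hp hp2 hpF hM hdvd with h |
    ⟨s, hs, hk, -, -⟩
  · exact Or.inl h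
  · right
    rw [hfr] at hs
    have : s = m := by omega
    rwa [this] at hk

theorem not_of_pow {p q s : ℕ} (hp : p.Prime) (hp2 : p ≠ 2) (hq : 1 ≤ q) (hs : 1 ≤ s)
    (hk : ∀ k, p ∣ q ^ k - 1 → 2 * s ∣ k) : (q : ZMod p) ≠ 1 ∧ (2 : ZMod p) ≠ 0 := by
  have := Fact.mk hp
  refine ⟨fun h => ?_, fun h => ?_⟩
  · have h1 := hk 1 ((dvd_pow_sub_one_iff hq).2 (by rw [pow_one, h]))
    have := Nat.le_of_dvd one_pos h1
    omega
  · have h1 : ((2 : ℕ) : ZMod p) = 0 := by exact_mod_cast h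
    rw [ZMod.natCast_eq_zero_iff] at h1
    exact hp2 ((Nat.prime_dvd_prime_iff_eq hp Nat.prime_two).1 h1)

/-- **The row of S3578 for `PΩ⁺_{2m}(q)`**. -/
theorem sharp_POmegaPlus {F : Type} [Field F] [Fintype F] {m : ℕ} (hm : 4 ≤ m) {r : ℕ}
    [hrp : Fact r.Prime] [hr : CharP F r] {p : ℕ} (hp : p.Prime)
    (hp2 : p ≠ 2) (hpF : (p : F) ≠ 0)
    (hM : ∀ t : ℕ, t ≠ 0 → r ^ t ≡ 1 [MOD p] → 2 * p + 1 ≤ r ^ t)
    (hdvd : p ∣ Nat.card (Cfsg.POmega F (Cfsg.quadFormPlus m F))) :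
    FprRow (p + 1) 1 p (Cfsg.POmega F (Cfsg.quadFormPlus m F)) ∨
      ∀ k, p ∣ Nat.card F ^ k - 1 → 2 * m - 2 ∣ k := by
  classical
  rw [← coe_plusForm] at hdvd ⊢
  have hfr : Module.finrank F (Fin m ⊕ Fin m → F) = 2 * m := finrank_sp
  rcases sharp_POmega (nondeg_plusForm m F) (by omega) hp hp2 hpF hM hdvd with h |
    ⟨s, hs, hk, hs1, hc⟩
  · exact Or.inl h
  · right
    rw [hfr] at hs
    have := Fact.mk hp
    obtain ⟨hq1, h20⟩ := not_of_pow hp hp2 Nat.card_pos (by omega) hk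
    have hsm : s ≠ m := by
      rintro rfl
      have h1 := Cfsg.Agent.LieClassical.QuadCount.card_plus (F := F) s 0
      rw [if_pos rfl, ← Nat.card_eq_fintype_card, ← coe_plusForm] at h1
      have h2 : ((Nat.card {v : Fin s ⊕ Fin s → F // (plusForm s F) v = 0} : ℕ) : ZMod p) = 1 := by
        have := (ZMod.natCast_eq_natCast_iff _ _ _).2 hc
        rwa [Nat.cast_one] at this
      have h3 := congrArg (Nat.cast : ℕ → ZMod p) h1
      push_cast at h3
      rw [h2, mul_comm 2 s, pow_mul, pow_succ _ s, hs1] at h3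
      apply hq1
      have h4 : (2 : ZMod p) * ((Nat.card F : ℕ) - 1) = 0 := by linear_combination h3
      rcases mul_eq_zero.1 h4 with h5 | h5
      · exact absurd h5 h20
      · exact sub_eq_zero.1 h5
    have h2s : 2 * s = 2 * m - 2 := by omega
    rwa [h2s] at hk

/-- **The row of S3578 for `PΩ⁻_{2m}(q)`**. -/
theorem sharp_POmegaMinus {F : Type} [Field F] [Fintype F] {m : ℕ} (hm : 4 ≤ m) {a b : F}
    (hab : ∀ z₁ z₂ : F, z₁ ^ 2 + a * z₁ * z₂ + b * z₂ ^ 2 = 0 → z₁ = 0 ∧ z₂ = 0) {r : ℕ}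
    [hrp : Fact r.Prime] [hr : CharP F r] {p : ℕ} (hp : p.Prime)
    (hp2 : p ≠ 2) (hpF : (p : F) ≠ 0)
    (hM : ∀ t : ℕ, t ≠ 0 → r ^ t ≡ 1 [MOD p] → 2 * p + 1 ≤ r ^ t)
    (hdvd : p ∣ Nat.card (Cfsg.POmega F (Cfsg.quadFormMinus (m - 1) F a b))) :
    FprRow (p + 1) 1 p (Cfsg.POmega F (Cfsg.quadFormMinus (m - 1) F a b)) ∨
      ∀ k, p ∣ Nat.card F ^ k - 1 → 2 * m ∣ k := by
  classical
  rw [← coe_minusForm] at hdvd ⊢
  have hfr : Module.finrank F ((Fin (m - 1) ⊕ Fin (m - 1)) ⊕ Fin 2 → F) = 2 * m := by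
    rw [Module.finrank_fintype_fun_eq_card, Fintype.card_sum, Fintype.card_sum, Fintype.card_fin,
      Fintype.card_fin]
    omega
  rcases sharp_POmega (nondeg_minusForm (m - 1) F a b hab) (by omega) hp hp2 hpF hM hdvd with h |
    ⟨s, hs, hk, hs1, hc⟩
  · exact Or.inl h
  · right
    rw [hfr] at hs
    have := Fact.mk hp
    obtain ⟨hq1, h20⟩ := not_of_pow hp hp2 Nat.card_pos (by omega) hk
    have hsm : s ≠ m - 1 := by
      intro hsm
      rw [← hsm] at hc
      have h1 := Cfsg.Agent.LieClassical.QuadCount.card_sum (F := F) s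
        (fun z : Fin 2 → F => z 0 ^ 2 + a * z 0 * z 1 + b * z 1 ^ 2)
      have h0 : Nat.card {w : Fin 2 → F // w 0 ^ 2 + a * w 0 * w 1 + b * w 1 ^ 2 = 0} = 1 := by
        rw [Nat.card_eq_one_iff_unique]
        refine ⟨⟨fun u v => ?_⟩, ⟨0, by simp⟩⟩
        have key : ∀ u : {w : Fin 2 → F // w 0 ^ 2 + a * w 0 * w 1 + b * w 1 ^ 2 = 0},
            (u : Fin 2 → F) = 0 := by
          intro u
          obtain ⟨h3, h4⟩ := hab _ _ u.2
          funext i
          fin_cases i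
          · exact h3
          · exact h4
        exact Subtype.ext ((key u).trans (key v).symm)
      have hN : Nat.card {p : (Fin s ⊕ Fin s → F) × (Fin 2 → F) // Cfsg.quadFormPlus s F p.1 +
          (p.2 0 ^ 2 + a * p.2 0 * p.2 1 + b * p.2 1 ^ 2) = 0} =
          Nat.card {v : (Fin s ⊕ Fin s) ⊕ Fin 2 → F // (minusForm s F a b) v = 0} := by
        symm
        refine Nat.card_congr ((Equiv.sumArrowEquivProdArrow (Fin s ⊕ Fin s) (Fin 2) F).subtypeEquiv
          ?_)
        intro v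
        rw [coe_minusForm]
        rfl
      rw [h0, hN, one_mul, ← Nat.card_eq_fintype_card, ← Nat.card_eq_fintype_card,
        Nat.card_fun, Nat.card_fin] at h1
      have h2 : ((Nat.card {v : (Fin s ⊕ Fin s) ⊕ Fin 2 → F // (minusForm s F a b) v = 0} : ℕ) :
          ZMod p) = 1 := by
        have := (ZMod.natCast_eq_natCast_iff _ _ _).2 hc
        rwa [Nat.cast_one] at this
      have h3 := congrArg (Nat.cast : ℕ → ZMod p) h1
      push_cast at h3
      rw [h2, mul_comm 2 s, pow_mul, pow_succ _ s, hs1] at h3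
      have hq0 : ((Nat.card F : ℕ) : ZMod p) ≠ 0 := by
        rw [Ne, ZMod.natCast_eq_zero_iff]
        exact not_dvd_card hp hpF
      apply hq1
      have h4 : (2 : ZMod p) * (((Nat.card F : ℕ) : ZMod p) * ((Nat.card F : ℕ) - 1)) = 0 := by
        linear_combination -h3
      rcases mul_eq_zero.1 h4 with h5 | h5
      · exact absurd h5 h20
      · exact sub_eq_zero.1 ((mul_eq_zero.1 h5).resolve_left hq0)
    have h2s : s = m := by omega
    rwa [h2s] at hk

end Cfsg.Agent.H110.Fpr
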