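import Cfsg.Agent.H110.Fpr.MasterN
import Cfsg.Agent.H110.Fpr.FamSp
import Cfsg.Agent.H110.Fpr.DataExpl

/-!
# The rows of S3578: dichotomy and symplectic groups
-/

set_option autoImplicit false

namespace Cfsg.Agent.H110.Fpr

open Cfsg Cfsg.Agent.ClassicalGeometry.SympBasic
open Cfsg.Agent.TitsThree.Siegel Cfsg.Agent.TitsThree.SiegelGen Cfsg.Agent.TitsThree.SpIdent
open Cfsg.Agent.TitsThree.SpGen
open Cfsg.Agent.H398.FPR Cfsg.Agent.H409

section Gen

variable {F : Type*} [Field F] {V : Type*} [AddCommGroup V] [Module F V]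
variable {H : HForm F V} {P : PQ H}

/-- **Dichotomy.** -/
theorem dich [Finite V] {r : ℕ} [Fact r.Prime] [CharP F r] {p : ℕ} (hp : p.Prime)
    (hp2 : p ≠ 2) (hpF : (p : F) ≠ 0) {x : V ≃ₗ[F] V} (hxi : H.IsIso x)
    (hxok : ∀ w c, P.ok w c → P.ok (x w) c) (hx : x ^ p = 1) (hx1 : x ≠ 1)
    (hK : ∀ y : V ≃ₗ[F] V, H.IsIso y → (∀ w c, P.ok w c → P.ok (y w) c) → y ^ p = 1 →
      y ∈ SG P) (hND : ∀ v : V, v ≠ 0 → ∃ w, H.h v w ≠ 0)
    (hdim : (∀ T : Submodule F V, IsMin x T → T ≤ movS p x → 3 ≤ Module.finrank F T) ∨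
      ∃ c, c ≠ 0 ∧ P.ok 0 c) :
    RadData r p 0 2 (SG P) ∨ ∃ (T : Submodule F V) (y : V ≃ₗ[F] V), IsMin x T ∧
      (∃ v ∈ T, x v ≠ v) ∧ (∃ v ∈ T, ∃ w ∈ T, H.h v w ≠ 0) ∧ SetupN P p T y := by
  by_cases hall : ∀ T : Submodule F V, IsMin x T → T ≤ movS p x → ∀ u ∈ T, ∀ v ∈ T, H.h u v = 0
  · exact Or.inl (master_L hp hp2 hpF hxi hxok hx hx1 hK hND hdim hall)
  · push Not at hall
    obtain ⟨T, hT, hTU, v, hv, w, hw, hvw⟩ := hall
    obtain ⟨y, hy⟩ := exists_setupN hpF hxi hxok hx hK hND hT hTU ⟨v, hv, w, hw, hvw⟩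
    refine Or.inr ⟨T, y, hT, ?_, ⟨v, hv, w, hw, hvw⟩, hy⟩
    refine ⟨v, hv, fun h => hvw ?_⟩
    rw [eq_zero_of_mem hpF (hTU hv) h]
    exact H.zero_left w

/-- an element of order `p` -/
theorem exists_order_p {K : Subgroup (V ≃ₗ[F] V)} [Finite K] {p : ℕ} (hp : p.Prime)
    (h : p ∣ Nat.card K) : ∃ x ∈ K, x ^ p = 1 ∧ x ≠ 1 := by
  have := Fact.mk hp
  obtain ⟨x, hx⟩ := exists_prime_orderOf_dvd_card' p h
  refine ⟨x, x.2, ?_, ?_⟩
  · have h1 : x ^ p = 1 := by rw [← hx]; exact pow_orderOf_eq_one x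
    exact congrArg Subtype.val h1
  · intro h1
    have h2 : x = 1 := Subtype.ext h1
    rw [h2, orderOf_one] at hx
    exact hp.one_lt.ne hx

theorem three_le_of_min [Finite F] [Finite V] {p : ℕ} (hp : p.Prime) (hpF : (p : F) ≠ 0)
    (hd : ¬ p ∣ Nat.card F ^ 2 - 1) {x : V ≃ₗ[F] V} (hx : x ^ p = 1) {T : Submodule F V}
    (hT : IsMin x T) (hmov : ∃ v ∈ T, x v ≠ v) : 3 ≤ Module.finrank F T := by
  apply hT.le_finrank hp hx hmov hpF
  intro i hi hi3 h
  apply hd
  interval_cases i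
  · rw [pow_one] at h
    have : Nat.card F - 1 ∣ Nat.card F ^ 2 - 1 := by
      have := Nat.sub_dvd_pow_sub_pow (Nat.card F) 1 2
      rwa [one_pow] at this
    exact h.trans this
  · exact h

/-- in characteristic two `2 p + 1` can be replaced by `3 p + 1` -/
theorem three_of_two {p r : ℕ} (hr2 : r = 2)
    (hM : ∀ t : ℕ, t ≠ 0 → r ^ t ≡ 1 [MOD p] → 2 * p + 1 ≤ r ^ t) (hp0 : 0 < p) {t : ℕ}
    (ht : t ≠ 0) (h : r ^ t ≡ 1 [MOD p]) : 3 * p + 1 ≤ r ^ t := by
  have h1 := hM t ht h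
  have h2 : p ∣ r ^ t - 1 := (Nat.modEq_iff_dvd' (by omega)).1 h.symm
  obtain ⟨c, hc⟩ := h2
  have h3 : 2 ∣ r ^ t := by rw [hr2]; exact dvd_pow_self 2 ht
  have h4 : 2 ≤ c := by
    by_contra h5
    have h6 : c ≤ 1 := by omega
    have : p * c ≤ p * 1 := Nat.mul_le_mul_left _ h6
    omega
  have h5 : c ≠ 2 := by
    rintro rfl
    omega
  have h6 : 3 ≤ c := by omega
  have h7 : p * 3 ≤ p * c := Nat.mul_le_mul_left _ h6
  omega

theorem finrank_add_perp [Finite V] {T : Submodule F V} (htop : T ⊔ perp H (T : Set V) = ⊤)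
    (hnd : ∀ v ∈ T, v ≠ 0 → ∃ w ∈ T, H.h v w ≠ 0) :
    Module.finrank F T + Module.finrank F (perp H (T : Set V)) = Module.finrank F V := by
  have : Module.Finite F V := Module.Finite.of_finite
  have h1 := Submodule.finrank_sup_add_finrank_inf_eq T (perp H (T : Set V))
  rw [htop, perp_inf hnd, finrank_bot, finrank_top] at h1
  omega

end Gen

variable {F : Type*} [Field F] {m : ℕ}

/-- **The row of S3578 for the symplectic groups.** -/
theorem sharp_isos [Finite F] (hm : 2 ≤ m) (hm2 : m = 2 → 3 ≤ Nat.card F) {r : ℕ}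
    [hrp : Fact r.Prime] [hr : CharP F r] {p : ℕ} (hp : p.Prime)
    (hp2 : p ≠ 2) (hpF : (p : F) ≠ 0)
    (hM : ∀ t : ℕ, t ≠ 0 → r ^ t ≡ 1 [MOD p] → 2 * p + 1 ≤ r ^ t)
    (hdvd : p ∣ Nat.card (SG (pq m F))) :
    FprRow (p + 1) 1 p (SG (pq m F)) ∨ ∀ k, p ∣ Nat.card F ^ k - 1 → 2 * m ∣ k := by
  have hfin : Finite ((Fin m ⊕ Fin m → F) ≃ₗ[F] (Fin m ⊕ Fin m → F)) := instFin
  have hcardF := not_dvd_card hp hpF
  have hq1 : 1 ≤ Nat.card F := Nat.card_pos
  have hr2 : (2 : F) = 0 → r = 2 := by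
    intro h
    have hch : CharP F 2 := CharTwo.of_one_ne_zero_of_two_eq_zero one_ne_zero h
    exact CharP.eq F hr hch
  by_cases hd : p ∣ (Nat.card F) ^ 2 - 1
  · left
    rcases Nat.lt_or_ge m 3 with h3 | h3
    · have h2 : m = 2 := by omega
      subst h2
      by_cases hF2 : (2 : F) = 0
      · have h4 : 4 ≤ Nat.card F := by
          have h3 := hm2 rfl
          have h5 : 2 ∣ Nat.card F := by
            have hch : CharP F 2 := CharTwo.of_one_ne_zero_of_two_eq_zero one_ne_zero hF2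
            have := Fintype.ofFinite F
            rw [Nat.card_eq_fintype_card, ← CharP.cast_eq_zero_iff F 2]
            exact Nat.cast_card_eq_zero F
          omega
        have h5 := data_four h4 (alt_form hF2) (fun _ _ => trivial) (isQ2_qS hF2) hp hp2 hd
          nd_form (P := pq 2 F) (e := e 2 F 0) (f := f 2 F 0) (e0 := e 2 F 1) (f0 := f 2 F 1)
          (by rw [form_h, ef, if_pos rfl]) (by rw [form_h, ef, if_pos rfl]) (by
            rw [perp_sp4, ← Submodule.span_union]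
            rfl)
        have hr2' := hr2 hF2
        refine h5.sharp hp Nat.prime_two (by norm_num) ?_
        intro t ht h
        rw [← hr2'] at h ⊢
        exact three_of_two hr2' hM hp.pos ht h
      · obtain ⟨t, j, k, hj, hj0, ht⟩ := exists_good2' (F := F) hp hpF hd
        obtain rfl := hj0 hp2
        refine (data_IV_explicit (r := r) (P := pq 2 F) ht (e := e 2 F 0) (f := f 2 F 0)
          trivial trivial (by rw [form_h, ef, if_pos rfl]) (b := 2 - t) (c := 1) trivial trivial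
          (by rw [form_ε]; ring) (lam_form hF2) perp_sp4 (fun _ _ => trivial) ?_
          (fun _ _ => trivial) ?_ ⟨e 2 F 1, Submodule.mem_span_singleton_self _, f 2 F 1,
            Submodule.mem_span_singleton_self _, by
              rw [form_h, ef, if_pos rfl]; exact one_ne_zero⟩ (fun v _ hv => nd_form v hv)).sharp
          hp hrp.out (by norm_num) hM
        · exact span_orth (by rintro u rfl v rfl; exact ee _ _)
        · exact span_orth (by rintro u rfl v rfl; exact ff _ _)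
    · obtain ⟨j, -, hj0, hD⟩ := data_small (r := r) hp hpF hd (κ := 1) (by norm_num) κ_form
        nd_form (V := Fin m ⊕ Fin m → F) (P := pq m F) (by rw [finrank_sp]; omega)
      obtain rfl := hj0 hp2
      exact hD.sharp hp hrp.out (by norm_num) hM
  · obtain ⟨x, hxK, hxp, hx1⟩ := exists_order_p hp hdvd
    obtain ⟨hxi, hxok, -⟩ := SG_iso hxK
    have hK : ∀ y : (Fin m ⊕ Fin m → F) ≃ₗ[F] (Fin m ⊕ Fin m → F), (form m F).IsIso y →
        (∀ w c, (pq m F).ok w c → (pq m F).ok (y w) c) → y ^ p = 1 → y ∈ SG (pq m F) := by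
      intro y hy _ _
      rw [SG_pq]
      exact hy
    rcases dich (r := r) hp hp2 hpF hxi hxok hxp hx1 hK nd_form
      (Or.inr ⟨1, one_ne_zero, trivial⟩) with h | ⟨T, y, hT, hmov, hTnd, hy⟩
    · exact Or.inl (h.sharp hp hrp.out (by norm_num) hM)
    · by_cases hW : ∃ w ∈ perp (form m F) (T : Set (Fin m ⊕ Fin m → F)), w ≠ 0
      · left
        have hdim := three_le_of_min hp hpF hd hxp hT hmov
        obtain ⟨w, hw, hw0⟩ := hW
        by_cases hF2 : (2 : F) = 0
        · have h5 := master_N2 (alt_form hF2) (fun _ _ => trivial) (isQ2_qS hF2)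
            (fun q hq A hA => exists_sing_q2 (alt_form hF2) hq A hA) hp hp2 hy hdim nd_form
            ⟨w, hw, hw0⟩
          have hr2' := hr2 hF2
          refine h5.sharp hp Nat.prime_two (by norm_num) ?_
          intro t ht h
          rw [← hr2'] at h ⊢
          exact three_of_two hr2' hM hp.pos ht h
        · exact (master_N (r := r) hy le_rfl κ_form (lam_form hF2) (by omega) nd_form
            ⟨w, hw, hw0, trivial⟩).sharp hp hrp.out (by norm_num) hM
      · right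
        push Not at hW
        intro k hk
        have h1 := hT.finrank_dvd hp hxp hmov hpF hk
        have h2 := finrank_add_perp hy.top hy.nd
        have h3 : perp (form m F) (T : Set (Fin m ⊕ Fin m → F)) = ⊥ := by
          rw [eq_bot_iff]
          intro w hw
          exact (Submodule.mem_bot F).2 (hW w hw)
        rw [h3, finrank_bot, add_zero, finrank_sp] at h2
        rwa [h2] at h1

/-- **The row of S3578 for `PSp_{2m}(q)`, `m ≥ 2`.** -/
theorem sharp_PSp [Finite F] (hm : 2 ≤ m) (hm2 : m = 2 → 3 ≤ Nat.card F) {r : ℕ}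
    [hrp : Fact r.Prime] [hr : CharP F r] {p : ℕ} (hp : p.Prime)
    (hp2 : p ≠ 2) (hpF : (p : F) ≠ 0)
    (hM : ∀ t : ℕ, t ≠ 0 → r ^ t ≡ 1 [MOD p] → 2 * p + 1 ≤ r ^ t)
    (hdvd : p ∣ Nat.card (PSp m F)) :
    FprRow (p + 1) 1 p (PSp m F) ∨ ∀ k, p ∣ Nat.card F ^ k - 1 → 2 * m ∣ k := by
  have hfin : Finite ((Fin m ⊕ Fin m → F) ≃ₗ[F] (Fin m ⊕ Fin m → F)) := instFin
  let e : SG (pq m F) ≃* isos (form m F) := MulEquiv.subgroupCongr SG_pq
  let f : SG (pq m F) →* PSp m F := toPSp.comp e.toMonoidHom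
  have hf : Function.Surjective f := toPSp_surjective.comp e.surjective
  refine (sharp_isos hm hm2 hp hp2 hpF hM (hdvd.trans ?_)).imp_left
    (FprRow.of_surjective hp f hf)
  exact Subgroup.card_dvd_of_surjective f hf

end Cfsg.Agent.H110.Fpr
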