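import Cfsg.Agent.H110.Fpr.Split

/-!
# Witt decomposition of a nondegenerate subspace
-/

set_option autoImplicit false

namespace Cfsg.Agent.H110.Fpr

open Cfsg.Agent.TitsThree.Siegel Cfsg.Agent.TitsThree.SiegelGen Cfsg.Agent.H398.FPR
open Cfsg.Agent.H409

variable {F : Type*} [Field F] {V : Type*} [AddCommGroup V] [Module F V]
variable {H : HForm F V} {P : PQ H}

/-- a hyperbolic pair inside a nondegenerate subspace -/
theorem exists_hyp {W : Submodule F V} (hnd : ∀ v ∈ W, v ≠ 0 → ∃ w ∈ W, H.h v w ≠ 0)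
    {e : V} (he : e ∈ W) (hes : P.ok e 0) (he0 : e ≠ 0) :
    ∃ f ∈ W, P.ok f 0 ∧ H.h e f = 1 := by
  obtain ⟨g, hg, heg⟩ := hnd e he he0
  obtain ⟨s, hs1, hs2⟩ := exists_partner hes heg
  obtain ⟨t, ht⟩ := exists_scale (H := H) (m := e) (m' := g + s • e) (by rw [hs2]; exact heg) (1 : F)
  exact ⟨t • (g + s • e), W.smul_mem _ (W.add_mem hg (W.smul_mem _ he)), P.sing_smul hs1 t, ht⟩

/-- **Witt decomposition.** -/
theorem witt [Finite V] (n : ℕ) : ∀ W : Submodule F V, Module.finrank F W ≤ n →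
    (∀ v ∈ W, v ≠ 0 → ∃ w ∈ W, H.h v w ≠ 0) →
    ∃ T T' A : Submodule F V, W = T ⊔ T' ⊔ A ∧
      (∀ u ∈ T, P.ok u 0) ∧ (∀ u ∈ T, ∀ u' ∈ T, H.h u u' = 0) ∧
      (∀ u ∈ T', P.ok u 0) ∧ (∀ u ∈ T', ∀ u' ∈ T', H.h u u' = 0) ∧
      (∀ u ∈ A, P.ok u 0 → u = 0) ∧
      ((∃ e ∈ W, e ≠ 0 ∧ P.ok e 0) → ∃ e ∈ T, ∃ f ∈ T', H.h e f = 1 ∧ ∀ a ∈ A, H.h e a = 0 ∧
        H.h f a = 0) := by
  induction n with
  | zero =>
    intro W hW _
    have h0 : W = ⊥ := by
      rw [← Submodule.finrank_eq_zero (R := F)]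
      omega
    refine ⟨⊥, ⊥, ⊥, by rw [h0, sup_bot_eq, sup_bot_eq], ?_, ?_, ?_, ?_, ?_, ?_⟩
    · intro u hu
      rw [(Submodule.mem_bot F).1 hu]; exact P.zero
    · intro u hu u' hu'
      rw [(Submodule.mem_bot F).1 hu]; exact H.zero_left _
    · intro u hu
      rw [(Submodule.mem_bot F).1 hu]; exact P.zero
    · intro u hu u' hu'
      rw [(Submodule.mem_bot F).1 hu]; exact H.zero_left _
    · intro u hu _
      exact (Submodule.mem_bot F).1 hu
    · rintro ⟨e, he, he0, _⟩
      rw [h0] at he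
      exact absurd ((Submodule.mem_bot F).1 he) he0
  | succ n ih =>
    intro W hW hnd
    by_cases hex : ∃ e ∈ W, e ≠ 0 ∧ P.ok e 0
    swap
    · push Not at hex
      refine ⟨⊥, ⊥, W, by rw [sup_bot_eq, bot_sup_eq], ?_, ?_, ?_, ?_, ?_, ?_⟩
      · intro u hu
        rw [(Submodule.mem_bot F).1 hu]; exact P.zero
      · intro u hu u' hu'
        rw [(Submodule.mem_bot F).1 hu]; exact H.zero_left _
      · intro u hu
        rw [(Submodule.mem_bot F).1 hu]; exact P.zero
      · intro u hu u' hu'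
        rw [(Submodule.mem_bot F).1 hu]; exact H.zero_left _
      · intro u hu hus
        by_contra h
        exact hex u hu h hus
      · rintro ⟨e, he, he0, hes⟩
        exact absurd hes (hex e he he0)
    obtain ⟨e, he, he0, hes⟩ := hex
    obtain ⟨f, hf, hfs, hef⟩ := exists_hyp hnd he hes he0
    have hee := P.iso hes
    have hff := P.iso hfs
    have hfe : H.h f e = H.ε := by rw [H.swap e f, hef, map_one, mul_one]
    obtain ⟨W', hW'⟩ : ∃ W', W' = W ⊓ perp H {e, f} := ⟨_, rfl⟩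
    have hmem : ∀ w, w ∈ W' ↔ w ∈ W ∧ H.h w e = 0 ∧ H.h w f = 0 := by
      intro w
      rw [hW', Submodule.mem_inf, mem_perp]
      simp
    -- projection
    have hproj : ∀ v ∈ W, ∃ w ∈ W', v = w + (H.h v f • e + (H.ε⁻¹ * H.h v e) • f) := by
      intro v hv
      refine ⟨v - (H.h v f • e + (H.ε⁻¹ * H.h v e) • f), ?_, by abel⟩
      rw [hmem]
      refine ⟨W.sub_mem hv (W.add_mem (W.smul_mem _ he) (W.smul_mem _ hf)), ?_, ?_⟩
      · simp only [H.sub_left, H.add_left, H.smul_left, hee, hfe]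
        field_simp [H.ε_ne]
        ring
      · simp only [H.sub_left, H.add_left, H.smul_left, hef, hff]
        ring
    have hlt : Module.finrank F W' ≤ n := by
      have h1 : W' < W := by
        refine lt_of_le_of_ne (by rw [hW']; exact inf_le_left) ?_
        intro h
        have h2 : e ∈ W' := by rw [h]; exact he
        rw [hmem] at h2
        rw [hef] at h2
        exact one_ne_zero h2.2.2
      have := Submodule.finrank_lt_finrank_of_lt h1
      omega
    have hnd' : ∀ v ∈ W', v ≠ 0 → ∃ w ∈ W', H.h v w ≠ 0 := by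
      intro v hv hv0
      rw [hmem] at hv
      obtain ⟨w, hw, hvw⟩ := hnd v hv.1 hv0
      obtain ⟨w', hw', hww⟩ := hproj w hw
      refine ⟨w', hw', ?_⟩
      rw [hww, H.add_right, H.add_right, H.smul_right, H.smul_right, hv.2.1, hv.2.2, mul_zero,
        mul_zero, add_zero, add_zero] at hvw
      exact hvw
    obtain ⟨T, T', A, h1, h2, h3, h4, h5, h6, -⟩ := ih W' hlt hnd'
    have hTW : T ≤ W' := by rw [h1]; exact le_sup_left.trans le_sup_left
    have hTW' : T' ≤ W' := by rw [h1]; exact le_sup_right.trans le_sup_left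
    have hAW' : A ≤ W' := by rw [h1]; exact le_sup_right
    have key : ∀ (T : Submodule F V) (e : V), T ≤ W' → (∀ u ∈ T, P.ok u 0) →
        (∀ u ∈ T, ∀ u' ∈ T, H.h u u' = 0) → P.ok e 0 → (∀ w ∈ W', H.h w e = 0) →
        (∀ u ∈ Submodule.span F {e} ⊔ T, P.ok u 0) ∧
        (∀ u ∈ Submodule.span F {e} ⊔ T, ∀ u' ∈ Submodule.span F {e} ⊔ T, H.h u u' = 0) := by
      intro T e hTW h2 h3 hes he
      have hT : ∀ u ∈ T, H.h u e = 0 := fun u hu => he u (hTW hu)
      have hT' : ∀ u ∈ T, H.h e u = 0 := fun u hu => H.orth_symm (hT u hu)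
      constructor
      · intro u hu
        obtain ⟨y, hy, z, hz, rfl⟩ := Submodule.mem_sup.1 hu
        obtain ⟨s, rfl⟩ := Submodule.mem_span_singleton.1 hy
        exact P.sing_add (P.sing_smul hes s) (h2 z hz) (by rw [H.smul_right, hT z hz, mul_zero])
      · intro u hu u' hu'
        obtain ⟨y, hy, z, hz, rfl⟩ := Submodule.mem_sup.1 hu
        obtain ⟨s, rfl⟩ := Submodule.mem_span_singleton.1 hy
        obtain ⟨y', hy', z', hz', rfl⟩ := Submodule.mem_sup.1 hu'
        obtain ⟨s', rfl⟩ := Submodule.mem_span_singleton.1 hy'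
        simp only [H.add_left, H.add_right, H.smul_left, H.smul_right, P.iso hes, hT z hz,
          hT' z' hz', h3 z hz z' hz', mul_zero, add_zero]
    have k1 := key T e hTW h2 h3 hes (fun w hw => ((hmem w).1 hw).2.1)
    have k2 := key T' f hTW' h4 h5 hfs (fun w hw => ((hmem w).1 hw).2.2)
    refine ⟨Submodule.span F {e} ⊔ T, Submodule.span F {f} ⊔ T', A, ?_, k1.1, k1.2, k2.1, k2.2,
      h6, ?_⟩
    · apply le_antisymm
      · intro v hv
        obtain ⟨w, hw, hvw⟩ := hproj v hv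
        rw [h1] at hw
        rw [hvw]
        have hle : T ⊔ T' ⊔ A ≤ Submodule.span F {e} ⊔ T ⊔ (Submodule.span F {f} ⊔ T') ⊔ A :=
          sup_le_sup_right (sup_le_sup le_sup_right le_sup_right) A
        refine Submodule.add_mem _ (hle hw) (Submodule.add_mem _ ?_ ?_)
        · exact (le_sup_left.trans (le_sup_left.trans le_sup_left) : Submodule.span F {e} ≤ _)
            (Submodule.smul_mem _ _ (Submodule.mem_span_singleton_self e))
        · exact (le_sup_left.trans (le_sup_right.trans le_sup_left) : Submodule.span F {f} ≤ _)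
            (Submodule.smul_mem _ _ (Submodule.mem_span_singleton_self f))
      · have hW'W : W' ≤ W := by rw [hW']; exact inf_le_left
        refine sup_le (sup_le (sup_le ?_ (hTW.trans hW'W)) (sup_le ?_ (hTW'.trans hW'W)))
          (hAW'.trans hW'W)
        · rw [Submodule.span_singleton_le_iff_mem]; exact he
        · rw [Submodule.span_singleton_le_iff_mem]; exact hf
    · intro _
      refine ⟨e, (le_sup_left : _ ≤ Submodule.span F {e} ⊔ T)
        (Submodule.mem_span_singleton_self e), f,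
        (le_sup_left : _ ≤ Submodule.span F {f} ⊔ T') (Submodule.mem_span_singleton_self f),
        hef, fun a ha => ?_⟩
      have := (hmem a).1 (hAW' ha)
      exact ⟨H.orth_symm this.2.1, H.orth_symm this.2.2⟩

/-- The family of totally singular subspaces. -/
theorem exists_family [Finite F] [Finite V] {κ : ℕ} {W : Submodule F V}
    (hnd : ∀ v ∈ W, v ≠ 0 → ∃ w ∈ W, H.h v w ≠ 0)
    (hκ : ∀ A : Submodule F V, κ ≤ Module.finrank F A → ∃ w ∈ A, w ≠ 0 ∧ P.ok w 0)
    (hW : κ ≤ Module.finrank F W) :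
    ∃ T : Bool ⊕ Fin (κ - 1) → Submodule F V, (∀ i, T i ≤ W) ∧ (∀ i, ∀ u ∈ T i, P.ok u 0) ∧
      (∀ i, ∀ u ∈ T i, ∀ u' ∈ T i, H.h u u' = 0) ∧ W ≤ (⨆ i, T i) ∧
      (∃ i, ∃ u ∈ T i, ∃ i', ∃ u' ∈ T i', H.h u u' ≠ 0) := by
  obtain ⟨T, T', A, h1, h2, h3, h4, h5, h6, h7⟩ := witt (P := P) _ W le_rfl hnd
  obtain ⟨e, he, f, hf, hef, hA⟩ := h7 (hκ W hW)
  have hee := h3 e he e he
  have hff := h5 f hf f hf
  have hAκ : Module.finrank F A ≤ κ - 1 := by
    by_contra hcon
    obtain ⟨w, hw, hw0, hws⟩ := hκ A (by omega)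
    exact hw0 (h6 w hw hws)
  -- a spanning family of `A`
  obtain ⟨a, ha, haspan⟩ : ∃ a : Fin (κ - 1) → V, (∀ i, a i ∈ A) ∧
      A ≤ Submodule.span F (Set.range a) := by
    let b := Module.finBasis F A
    refine ⟨fun i => if h : (i : ℕ) < Module.finrank F A then (b ⟨i, h⟩ : V) else 0, ?_, ?_⟩
    · intro i
      dsimp only
      split_ifs with h
      · exact (b _).2
      · exact A.zero_mem
    · intro v hv
      have h8 := b.sum_repr ⟨v, hv⟩
      have h9 : v = ∑ i, (b.repr ⟨v, hv⟩ i) • (b i : V) := by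
        have := congrArg Subtype.val h8
        rw [Submodule.coe_sum] at this
        exact this.symm
      rw [h9]
      apply Submodule.sum_mem
      intro i _
      apply Submodule.smul_mem
      apply Submodule.subset_span
      refine ⟨⟨i, lt_of_lt_of_le i.2 hAκ⟩, ?_⟩
      simp
  choose c hc using fun i => P.ex (a i)
  have hfa : ∀ i, H.h f (a i) = 0 := fun i => (hA _ (ha i)).2
  have hea : ∀ i, H.h e (a i) = 0 := fun i => (hA _ (ha i)).1
  -- the singular vectors `w i = e + a i + c i f`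
  have hws : ∀ i, P.ok (H.sie f (a i) (c i) hff (hfa i) e) 0 := fun i =>
    P.ok_sie hff (hfa i) (h4 f hf) (hc i) (h2 e he)
  have hw : ∀ i, H.sie f (a i) (c i) hff (hfa i) e = e + a i + c i • f := by
    intro i
    rw [H.sie_apply, hef, hea]
    simp
  have hTW : T ≤ W := by rw [h1]; exact le_sup_left.trans le_sup_left
  have hTW' : T' ≤ W := by rw [h1]; exact le_sup_right.trans le_sup_left
  have hAW' : A ≤ W := by rw [h1]; exact le_sup_right
  obtain ⟨Tf, hTf⟩ : ∃ Tf : Bool ⊕ Fin (κ - 1) → Submodule F V,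
    Tf = Sum.elim (fun b => cond b T T') (fun i => Submodule.span F
      {H.sie f (a i) (c i) hff (hfa i) e}) := ⟨_, rfl⟩
  have t1 : Tf (Sum.inl true) = T := by rw [hTf]; rfl
  have t2 : Tf (Sum.inl false) = T' := by rw [hTf]; rfl
  have t3 : ∀ i, Tf (Sum.inr i) = Submodule.span F {H.sie f (a i) (c i) hff (hfa i) e} := by
    intro i; rw [hTf]; rfl
  refine ⟨Tf, ?_, ?_, ?_, ?_, Sum.inl true, e, by rw [t1]; exact he, Sum.inl false, f,
    by rw [t2]; exact hf, by rw [hef]; exact one_ne_zero⟩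
  · rintro ((_ | _) | i)
    · rw [t2]; exact hTW'
    · rw [t1]; exact hTW
    · rw [t3, Submodule.span_singleton_le_iff_mem, hw]
      exact W.add_mem (W.add_mem (hTW he) (hAW' (ha i))) (W.smul_mem _ (hTW' hf))
  · rintro ((_ | _) | i)
    · rw [t2]; exact h4
    · rw [t1]; exact h2
    · rw [t3]
      intro u hu
      obtain ⟨s, rfl⟩ := Submodule.mem_span_singleton.1 hu
      exact P.sing_smul (hws i) s
  · rintro ((_ | _) | i)
    · rw [t2]; exact h5
    · rw [t1]; exact h3
    · rw [t3]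
      intro u hu u' hu'
      obtain ⟨s, rfl⟩ := Submodule.mem_span_singleton.1 hu
      obtain ⟨s', rfl⟩ := Submodule.mem_span_singleton.1 hu'
      rw [H.smul_left, H.smul_right, P.iso (hws i), mul_zero, mul_zero]
  · have l1 : T ≤ ⨆ i, Tf i := by rw [← t1]; exact le_iSup Tf _
    have l2 : T' ≤ ⨆ i, Tf i := by rw [← t2]; exact le_iSup Tf _
    conv_lhs => rw [h1]
    refine sup_le (sup_le l1 l2) (haspan.trans ?_)
    rw [Submodule.span_le]
    rintro _ ⟨i, rfl⟩
    have l3 : H.sie f (a i) (c i) hff (hfa i) e ∈ ⨆ i, Tf i := by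
      have : Tf (Sum.inr i) ≤ ⨆ i, Tf i := le_iSup Tf _
      apply this
      rw [t3]
      exact Submodule.mem_span_singleton_self _
    rw [hw] at l3
    have e1 : a i = (e + a i + c i • f) - e - c i • f := by abel
    rw [e1]
    exact Submodule.sub_mem _ (Submodule.sub_mem _ l3 (l1 he)) (Submodule.smul_mem _ _ (l2 hf))

end Cfsg.Agent.H110.Fpr
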